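import Cfsg.Prelude.Def_Local
import Cfsg.Agent.H1.Frattini
import Cfsg.Agent.H80.PSolvable
import Cfsg.Agent.H3.PGroup
import Mathlib

/-!
# Faithful action of `G / O_{p',p}(G)` on the Frattini quotient (S4218)
-/

set_option autoImplicit false

namespace Cfsg.Agent.Helper55

open Cfsg

section
variable {Q : Type*} [Group Q]

/-- The elements acting trivially on `P / Φ` by conjugation (for `Φ` normal). -/
def commCentralizer (P Φ : Subgroup Q) [hΦ : Φ.Normal] : Subgroup Q where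
  carrier := {h | ∀ k ∈ P, h * k * h⁻¹ * k⁻¹ ∈ Φ}
  one_mem' := by intro k _; simp
  mul_mem' := by
    intro a b ha hb k hk
    have h1 := hb k hk
    have h2 := ha k hk
    have h3 : a * (b * k * b⁻¹ * k⁻¹) * a⁻¹ ∈ Φ := hΦ.conj_mem _ h1 a
    have h4 : a * b * k * (a * b)⁻¹ * k⁻¹ =
        (a * (b * k * b⁻¹ * k⁻¹) * a⁻¹) * (a * k * a⁻¹ * k⁻¹) := by group
    rw [h4]; exact Φ.mul_mem h3 h2
  inv_mem' := by
    intro a ha k hk
    have h1 := ha k hk
    have h2 : a⁻¹ * (a * k * a⁻¹ * k⁻¹)⁻¹ * a⁻¹⁻¹ ∈ Φ := hΦ.conj_mem _ (Φ.inv_mem h1) a⁻¹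
    have h4 : a⁻¹ * k * a⁻¹⁻¹ * k⁻¹ = a⁻¹ * (a * k * a⁻¹ * k⁻¹)⁻¹ * a⁻¹⁻¹ := by group
    rw [h4]; exact h2

theorem mem_commCentralizer (P Φ : Subgroup Q) [hΦ : Φ.Normal] (h : Q) :
    h ∈ commCentralizer P Φ ↔ ∀ k ∈ P, h * k * h⁻¹ * k⁻¹ ∈ Φ := Iff.rfl

theorem commCentralizer_normal (P Φ : Subgroup Q) [hP : P.Normal] [hΦ : Φ.Normal] :
    (commCentralizer P Φ).Normal := by
  constructor
  intro h hh t k hk
  have h1 : t⁻¹ * k * t⁻¹⁻¹ ∈ P := hP.conj_mem _ hk t⁻¹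
  have h2 := hh _ h1
  have h3 := hΦ.conj_mem _ h2 t
  have h4 : t * h * t⁻¹ * k * (t * h * t⁻¹)⁻¹ * k⁻¹ =
      t * (h * (t⁻¹ * k * t⁻¹⁻¹) * h⁻¹ * (t⁻¹ * k * t⁻¹⁻¹)⁻¹) * t⁻¹ := by group
  rw [h4]; exact h3

/-- In a finite `p`-solvable group with `O_{p'} = 1`, an element acting trivially on
`O_p / Φ(O_p)` lies in `O_p`. -/
theorem mem_pCore_of_trivial_on_frattini_quotient [Finite Q] (p : ℕ) [Fact p.Prime]
    (hsol : IsPSolvable p Q) (hcore : pPrimeCore p Q = ⊥) (h : Q)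
    (hh : ∀ k ∈ pCore p Q, h * k * h⁻¹ * k⁻¹ ∈
      (frattini ↥(pCore p Q)).map (pCore p Q).subtype) :
    h ∈ pCore p Q := by
  have hp : p.Prime := Fact.out
  haveI hΦn : ((frattini ↥(pCore p Q)).map (pCore p Q).subtype).Normal :=
    ConjAct.normal_of_characteristic_of_normal
  have hCn : (commCentralizer (pCore p Q)
      ((frattini ↥(pCore p Q)).map (pCore p Q).subtype)).Normal := commCentralizer_normal _ _
  have hPp : IsPGroup p (pCore p Q) := H80.pCore_isPGroup p Q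
  have hCp : IsPGroup p (commCentralizer (pCore p Q)
      ((frattini ↥(pCore p Q)).map (pCore p Q).subtype)) := by
    rintro ⟨x, hx⟩
    obtain ⟨a, m, hpm, hxm⟩ := Nat.exists_eq_pow_mul_and_not_dvd (orderOf_pos x).ne' p hp.ne_one
    refine ⟨a, ?_⟩
    apply Subtype.ext
    rw [Subgroup.coe_pow]
    show x ^ p ^ a = 1
    have hym : (x ^ p ^ a) ^ m = 1 := by
      rw [← pow_mul, ← hxm]; exact pow_orderOf_eq_one x
    have hyC : x ^ p ^ a ∈ commCentralizer (pCore p Q)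
        ((frattini ↥(pCore p Q)).map (pCore p Q).subtype) := Subgroup.pow_mem _ hx _
    have hAC : Subgroup.zpowers (x ^ p ^ a) ≤ commCentralizer (pCore p Q)
        ((frattini ↥(pCore p Q)).map (pCore p Q).subtype) := by
      rw [Subgroup.zpowers_le]; exact hyC
    have hAK : Subgroup.zpowers (x ^ p ^ a) ≤
        Subgroup.normalizer ((pCore p Q : Subgroup Q) : Set Q) := by
      rw [Subgroup.normalizer_eq_top]; exact le_top
    have hmcop : m.Coprime p := (Nat.Coprime.symm ((Nat.Prime.coprime_iff_not_dvd hp).mpr hpm))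
    have hcop : (Nat.card (Subgroup.zpowers (x ^ p ^ a))).Coprime
        (Nat.card (frattini ↥(pCore p Q))) := by
      rw [Nat.card_zpowers]
      have h1 : orderOf (x ^ p ^ a) ∣ m := orderOf_dvd_of_pow_eq_one hym
      have h2 : IsPGroup p (frattini ↥(pCore p Q)) := hPp.to_subgroup _
      obtain ⟨k, hk⟩ := IsPGroup.iff_card.mp h2
      rw [hk]
      exact Nat.Coprime.pow_right k (Nat.Coprime.coprime_dvd_left h1 hmcop)
    have hcent := H1.centralizer_of_trivial_on_frattini_quotient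
      (Subgroup.zpowers (x ^ p ^ a)) (pCore p Q) hAK hcop
      (fun b hb k hk => hAC hb k hk)
    have hyP : x ^ p ^ a ∈ pCore p Q :=
      H80.centralizer_pCore_le p hsol hcore (hcent (Subgroup.mem_zpowers _))
    obtain ⟨k, hk⟩ := hPp ⟨x ^ p ^ a, hyP⟩
    have hk' : (x ^ p ^ a) ^ p ^ k = 1 := by
      have := congrArg Subtype.val hk
      simpa using this
    have hg : (x ^ p ^ a) ^ (Nat.gcd (p ^ k) m) = 1 := pow_gcd_eq_one.mpr ⟨hk', hym⟩
    have hgcd : Nat.gcd (p ^ k) m = 1 := Nat.Coprime.pow_left k hmcop.symm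
    rw [hgcd, pow_one] at hg
    exact hg
  exact H80.le_pCore p _ hCn hCp hh

end

/-- S4218: `G / O_{p',p}(G)` acts faithfully on the Frattini quotient of `O_{p',p}(G)/O_{p'}(G)`. -/
theorem frattini_faithful {G : Type*} [Group G] [Finite G] {p : ℕ} [Fact p.Prime]
    (hG : IsPSolvable p G) (g : G) :
    (∀ x ∈ pPrimePCore p G, g * x * g⁻¹ * x⁻¹ ∈
      ((frattini (↥(pPrimePCore p G) ⧸ (pPrimeCore p G).subgroupOf (pPrimePCore p G))).comap
        (QuotientGroup.mk' ((pPrimeCore p G).subgroupOf (pPrimePCore p G)))).map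
          (pPrimePCore p G).subtype) ↔ g ∈ pPrimePCore p G := by
  have hp : p.Prime := Fact.out
  -- the map `P₁ → P̄`
  let ψ : ↥(pPrimePCore p G) →* ↥(pCore p (G ⧸ pPrimeCore p G)) :=
    ((QuotientGroup.mk' (pPrimeCore p G)).comp (pPrimePCore p G).subtype).codRestrict
      (pCore p (G ⧸ pPrimeCore p G)) (fun x => x.2)
  have hψ : ∀ y : ↥(pPrimePCore p G), ((ψ y : ↥(pCore p (G ⧸ pPrimeCore p G))) : G ⧸ pPrimeCore p G)
      = QuotientGroup.mk' (pPrimeCore p G) (y : G) := fun y => rfl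
  have hker : (pPrimeCore p G).subgroupOf (pPrimePCore p G) ≤ ψ.ker := by
    intro y hy
    rw [MonoidHom.mem_ker]
    apply Subtype.ext
    rw [hψ]
    exact (QuotientGroup.eq_one_iff _).mpr (Subgroup.mem_subgroupOf.mp hy)
  let lam : (↥(pPrimePCore p G) ⧸ (pPrimeCore p G).subgroupOf (pPrimePCore p G)) →*
      ↥(pCore p (G ⧸ pPrimeCore p G)) :=
    QuotientGroup.lift ((pPrimeCore p G).subgroupOf (pPrimePCore p G)) ψ hker
  have hlam : ∀ y : ↥(pPrimePCore p G),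
      lam (QuotientGroup.mk' ((pPrimeCore p G).subgroupOf (pPrimePCore p G)) y) = ψ y :=
    fun y => rfl
  have hsurj : Function.Surjective lam := by
    rintro ⟨z, hz⟩
    obtain ⟨x, rfl⟩ := QuotientGroup.mk'_surjective (pPrimeCore p G) z
    exact ⟨QuotientGroup.mk' _ ⟨x, hz⟩, rfl⟩
  have hinj : Function.Injective lam := by
    rw [← MonoidHom.ker_eq_bot_iff, eq_bot_iff]
    intro z hz
    obtain ⟨y, rfl⟩ := QuotientGroup.mk'_surjective _ z
    rw [MonoidHom.mem_ker, hlam] at hz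
    have h1 : QuotientGroup.mk' (pPrimeCore p G) (y : G) = 1 := by
      rw [← hψ, hz]; rfl
    rw [Subgroup.mem_bot]
    exact (QuotientGroup.eq_one_iff _).mpr
      (Subgroup.mem_subgroupOf.mpr ((QuotientGroup.eq_one_iff _).mp h1))
  have hRp : IsPGroup p (↥(pPrimePCore p G) ⧸ (pPrimeCore p G).subgroupOf (pPrimePCore p G)) :=
    IsPGroup.of_injective (H80.pCore_isPGroup p (G ⧸ pPrimeCore p G)) lam hinj
  constructor
  · intro hall
    show QuotientGroup.mk' (pPrimeCore p G) g ∈ pCore p (G ⧸ pPrimeCore p G)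
    apply mem_pCore_of_trivial_on_frattini_quotient p
      (H80.isPSolvable_quotient p (pPrimeCore p G) hG) (H80.pPrimeCore_quotient_eq_bot p)
    intro k hk
    obtain ⟨x, rfl⟩ := QuotientGroup.mk'_surjective (pPrimeCore p G) k
    obtain ⟨y', hy', hy'eq⟩ := hall x hk
    have h1 : lam (QuotientGroup.mk' _ y') ∈ frattini ↥(pCore p (G ⧸ pPrimeCore p G)) :=
      frattini_le_comap_frattini_of_surjective hsurj hy'
    rw [hlam] at h1
    refine ⟨ψ y', h1, ?_⟩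
    have h2 : ((pCore p (G ⧸ pPrimeCore p G)).subtype (ψ y') : G ⧸ pPrimeCore p G) =
        QuotientGroup.mk' (pPrimeCore p G) (y' : G) := rfl
    rw [h2]
    have h3 : (y' : G) = g * x * g⁻¹ * x⁻¹ := hy'eq
    rw [h3]
    simp
  · intro hg x hx
    refine ⟨⟨g, hg⟩ * ⟨x, hx⟩ * ⟨g, hg⟩⁻¹ * ⟨x, hx⟩⁻¹, ?_, rfl⟩
    show QuotientGroup.mk' ((pPrimeCore p G).subgroupOf (pPrimePCore p G))
        (⟨g, hg⟩ * ⟨x, hx⟩ * ⟨g, hg⟩⁻¹ * ⟨x, hx⟩⁻¹) ∈
        frattini (↥(pPrimePCore p G) ⧸ (pPrimeCore p G).subgroupOf (pPrimePCore p G))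
    apply H3.commutator_le_frattini hRp
    rw [commutator_def]
    have h1 : QuotientGroup.mk' ((pPrimeCore p G).subgroupOf (pPrimePCore p G))
        (⟨g, hg⟩ * ⟨x, hx⟩ * ⟨g, hg⟩⁻¹ * ⟨x, hx⟩⁻¹) =
        QuotientGroup.mk' ((pPrimeCore p G).subgroupOf (pPrimePCore p G)) ⟨g, hg⟩ *
          QuotientGroup.mk' ((pPrimeCore p G).subgroupOf (pPrimePCore p G)) ⟨x, hx⟩ *
          (QuotientGroup.mk' ((pPrimeCore p G).subgroupOf (pPrimePCore p G)) ⟨g, hg⟩)⁻¹ *
          (QuotientGroup.mk' ((pPrimeCore p G).subgroupOf (pPrimePCore p G)) ⟨x, hx⟩)⁻¹ := by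
      rw [map_mul, map_mul, map_mul, map_inv, map_inv]
    rw [h1, ← commutatorElement_def]
    exact Subgroup.commutator_mem_commutator (Subgroup.mem_top _) (Subgroup.mem_top _)

end Cfsg.Agent.Helper55
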