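import Mathlib
import Cfsg.Agent.H45.S8Defs0

/-!
# S8-FPF (piece of helper45's team project S1158)

The fixed-point-free elements of the small Ree group on its natural 2-transitive set are exactly
the nontrivial elements of order dividing `M = q² - q + 1` and the elements whose order is
divisible by a prime divisor of `k = (q + 1) / 4`.
-/

set_option autoImplicit false

namespace Cfsg.Agent.Helper55.S8

open Cfsg.Agent.H45.S8

universe u v

theorem qq_facts (m : ℕ) : qq m % 8 = 3 ∧ 3 ∣ qq m := by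
  constructor
  · unfold qq
    rw [pow_succ, pow_mul]
    have h : (3 ^ 2) ^ m % 8 = 1 := by rw [Nat.pow_mod]; norm_num
    obtain ⟨X, hX⟩ : ∃ X, X = (3 ^ 2) ^ m := ⟨_, rfl⟩
    rw [← hX] at h ⊢
    omega
  · unfold qq
    exact dvd_pow_self 3 (by omega)

theorem arith_M (q s : ℕ) (hq8 : q % 8 = 3) (h3 : 3 ∣ q) (hs : s.Prime)
    (hM : s ∣ q ^ 2 - q + 1) : ¬ s ∣ q ∧ ¬ s ∣ q - 1 ∧ ¬ s ∣ q + 1 := by
  obtain ⟨c, rfl⟩ : ∃ c, q = c + 2 := ⟨q - 2, by omega⟩
  have e1 : (c + 2) ^ 2 - (c + 2) + 1 = (c + 2) * (c + 1) + 1 := by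
    have : (c + 2) ^ 2 = (c + 2) * (c + 1) + (c + 2) := by ring
    rw [this, Nat.add_sub_cancel]
  have e2 : (c + 2) ^ 2 - (c + 2) + 1 = (c + 2 + 1) * c + 3 := by
    rw [e1]; ring
  have hs1 : ¬ s ∣ 1 := fun h => hs.one_lt.ne' (Nat.dvd_one.mp h)
  refine ⟨?_, ?_, ?_⟩
  · intro h
    rw [e1] at hM
    exact hs1 ((Nat.dvd_add_right (Dvd.dvd.mul_right h _)).mp hM)
  · intro h
    have h' : s ∣ c + 1 := by
      have e : c + 2 - 1 = c + 1 := by omega
      rw [e] at h; exact h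
    rw [e1] at hM
    exact hs1 ((Nat.dvd_add_right (Dvd.dvd.mul_left h' _)).mp hM)
  · intro h
    rw [e2] at hM
    have h3' : s ∣ 3 := (Nat.dvd_add_right (Dvd.dvd.mul_right h _)).mp hM
    have hs3 : s = 3 := (Nat.prime_dvd_prime_iff_eq hs Nat.prime_three).mp h3'
    subst hs3
    omega

theorem arith_k (q k s : ℕ) (hq8 : q % 8 = 3) (hk : 4 * k = q + 1) (hs : s.Prime)
    (hsk : s ∣ k) : s ∣ q + 1 ∧ s ≠ 2 ∧ ¬ s ∣ q ∧ ¬ s ∣ q - 1 := by
  have h1 : s ∣ q + 1 := by rw [← hk]; exact Dvd.dvd.mul_left hsk 4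
  have h2 : s ≠ 2 := by
    rintro rfl
    omega
  have hs1 : ¬ s ∣ 1 := fun h => hs.one_lt.ne' (Nat.dvd_one.mp h)
  refine ⟨h1, h2, ?_, ?_⟩
  · intro h
    exact hs1 ((Nat.dvd_add_right h).mp h1)
  · intro h
    have e : q + 1 = (q - 1) + 2 := by omega
    rw [e] at h1
    have h22 : s ∣ 2 := (Nat.dvd_add_right h).mp h1
    exact h2 ((Nat.prime_dvd_prime_iff_eq hs Nat.prime_two).mp h22)

theorem arith_k' (q k s : ℕ) (hk : 4 * k = q + 1) (hs : s.Prime) (h2 : s ≠ 2)
    (h : s ∣ q + 1) : s ∣ k := by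
  rw [← hk] at h
  rcases (Nat.Prime.dvd_mul hs).mp h with h4 | h4
  · exfalso
    have h22 : s ∣ 2 := by
      have e : (4 : ℕ) = 2 * 2 := rfl
      rw [e] at h4
      rcases (Nat.Prime.dvd_mul hs).mp h4 with h | h <;> exact h
    exact h2 ((Nat.prime_dvd_prime_iff_eq hs Nat.prime_two).mp h22)
  · exact h4

theorem fpf : StFpf.{u, v} := by
  intro G _ _ Ω _ _ m hm hcard h1 h2 h3 h4
  obtain ⟨hq8, h3q⟩ := qq_facts m
  obtain ⟨q, hq⟩ : ∃ q, q = qq m := ⟨_, rfl⟩
  obtain ⟨M, hMdef⟩ : ∃ M, M = MM m := ⟨_, rfl⟩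
  obtain ⟨k, hkdef⟩ : ∃ k, k = kk m := ⟨_, rfl⟩
  have hM : M = q ^ 2 - q + 1 := by rw [hMdef, hq]; rfl
  have hk : 4 * k = q + 1 := by rw [hkdef, hq]; unfold kk; omega
  have hGG : Nat.card G = (q ^ 3 * (q - 1) * (q + 1)) * M := by
    rw [hcard, hM]; unfold GG; rw [← hq]
    have hq1 : 1 ≤ q := by rw [hq]; omega
    obtain ⟨c, rfl⟩ : ∃ c, q = c + 1 := ⟨q - 1, by omega⟩
    have e1 : (c + 1) ^ 2 - (c + 1) + 1 = c ^ 2 + c + 1 := by
      have : (c + 1) ^ 2 = (c ^ 2 + c) + (c + 1) := by ring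
      rw [this, Nat.add_sub_cancel]
    rw [e1]; simp only [Nat.add_sub_cancel]; ring
  rw [← hq] at hq8 h3q h1 h2 h3
  rw [← hMdef, ← hkdef]
  have hq21 : q ^ 2 - 1 = (q - 1) * (q + 1) := by
    obtain ⟨c, rfl⟩ : ∃ c, q = c + 1 := ⟨q - 1, by omega⟩
    have : (c + 1) ^ 2 = c * (c + 1 + 1) + 1 := by ring
    rw [this]; simp
  rw [hq21] at h3
  -- prime facts
  have PM : ∀ s : ℕ, s.Prime → s ∣ M → ¬ s ∣ q ∧ ¬ s ∣ q - 1 ∧ ¬ s ∣ q + 1 := by
    intro s hs hsM; rw [hM] at hsM; exact arith_M q s hq8 h3q hs hsM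
  have Pk : ∀ s : ℕ, s.Prime → s ∣ k → s ∣ q + 1 ∧ s ≠ 2 ∧ ¬ s ∣ q ∧ ¬ s ∣ q - 1 :=
    fun s hs hsk => arith_k q k s hq8 hk hs hsk
  have Pk' : ∀ s : ℕ, s.Prime → s ≠ 2 → s ∣ q + 1 → s ∣ k :=
    fun s hs h2 h => arith_k' q k s hk hs h2 h
  have hfixprime : ∀ (g : G) (x : Ω), g • x = x → ∀ s : ℕ, s.Prime → s ∣ orderOf g →
      s ∣ q ∨ s ∣ q - 1 := by
    intro g x hgx s hs hsg
    have hdv := orderOf_dvd_of_pow_eq_one (h1 g x hgx)
    have hs' : s ∣ q ^ 3 * (q - 1) := dvd_trans hsg hdv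
    rcases (Nat.Prime.dvd_mul hs).mp hs' with h | h
    · exact Or.inl (hs.dvd_of_dvd_pow h)
    · exact Or.inr h
  constructor
  · ext g
    simp only [FpfSet, TorSet, GamSet, Set.mem_setOf_eq, Set.mem_union]
    constructor
    · intro hfpf
      by_cases hGam : ∃ s : ℕ, s.Prime ∧ s ∣ k ∧ s ∣ orderOf g
      · exact Or.inr hGam
      left
      push Not at hGam
      have hg1 : g ≠ 1 := by
        rintro rfl
        obtain ⟨x⟩ := ‹Nonempty Ω›
        exact hfpf x (one_smul G x)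
      refine ⟨hg1, ?_⟩
      have hn0 : orderOf g ≠ 0 := (orderOf_pos g).ne'
      have hA : ∀ t : ℕ, t.Prime → t ≠ 2 → t ∣ orderOf g → ¬ (t ∣ q ∨ t ∣ q - 1) := by
        intro t ht ht2 htg hor
        have hz : orderOf (g ^ (orderOf g / t)) = t := orderOf_pow_orderOf_div hn0 htg
        have hdvd : t ∣ q * (q - 1) := by
          rcases hor with h | h
          · exact Dvd.dvd.mul_right h _
          · exact Dvd.dvd.mul_left h _
        obtain ⟨x, hx⟩ := h2 (g ^ (orderOf g / t)) g (by rw [hz]; exact ht)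
          (by rw [hz]; exact ht2) (by rw [hz]; exact hdvd)
          ((Commute.pow_right (Commute.refl g) _).eq)
        exact hfpf x hx
      have hAB : ∀ t : ℕ, t.Prime → t ≠ 2 → t ∣ orderOf g →
          ¬ (t ∣ q ∨ t ∣ q - 1 ∨ t ∣ q + 1) := by
        intro t ht ht2 htg hor
        rcases hor with h | h | h
        · exact hA t ht ht2 htg (Or.inl h)
        · exact hA t ht ht2 htg (Or.inr h)
        · exact hGam t ht (Pk' t ht ht2 h) htg
      have hC : ¬ 2 ∣ orderOf g := by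
        intro h2n
        have hz : orderOf (g ^ (orderOf g / 2)) = 2 := orderOf_pow_orderOf_div hn0 h2n
        have hz1 : g ^ (orderOf g / 2) ≠ 1 := by
          intro h; rw [h, orderOf_one] at hz; omega
        have hzz : g ^ (orderOf g / 2) * g ^ (orderOf g / 2) = 1 := by
          have := pow_orderOf_eq_one (g ^ (orderOf g / 2))
          rw [hz, pow_two] at this; exact this
        obtain ⟨-, hcz⟩ := h3 _ hz1 hzz
        have hgC : g ∈ Subgroup.centralizer ({g ^ (orderOf g / 2)} : Set G) := by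
          rw [Subgroup.mem_centralizer_iff]
          intro y hy
          rw [Set.mem_singleton_iff] at hy
          subst hy
          exact ((Commute.pow_left (Commute.refl g) _).eq)
        have hdvd : orderOf g ∣ q * ((q - 1) * (q + 1)) := by
          rw [← hcz]
          exact Subgroup.orderOf_dvd_natCard _ hgC
        have hall : ∀ {d : ℕ}, d.Prime → d ∣ orderOf g → d = 2 := by
          intro d hd hdn
          by_contra hd2
          have hdq := dvd_trans hdn hdvd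
          apply hAB d hd hd2 hdn
          rcases (Nat.Prime.dvd_mul hd).mp hdq with h | h
          · exact Or.inl h
          · rcases (Nat.Prime.dvd_mul hd).mp h with h | h
            · exact Or.inr (Or.inl h)
            · exact Or.inr (Or.inr h)
        have hpow := Nat.eq_prime_pow_of_unique_prime_dvd hn0 hall
        obtain ⟨j, hj⟩ : ∃ j, orderOf g = 2 ^ j := ⟨_, hpow⟩
        have hj1 : j ≤ 1 := by
          by_contra hj2
          push Not at hj2
          obtain ⟨i, rfl⟩ : ∃ i, j = i + 2 := ⟨j - 2, by omega⟩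
          have h4' : (g ^ (2 ^ i)) ^ 4 = 1 := by
            rw [← pow_mul]
            have e : 2 ^ i * 4 = 2 ^ (i + 2) := by ring
            rw [e, ← hj, pow_orderOf_eq_one]
          have h2' := h4 _ h4'
          rw [← pow_mul] at h2'
          have hdv := orderOf_dvd_of_pow_eq_one h2'
          rw [hj] at hdv
          have hpos : 0 < 2 ^ i := by positivity
          have hle : 2 ^ (i + 2) ≤ 2 ^ i * 2 := Nat.le_of_dvd (by positivity) hdv
          have e : 2 ^ (i + 2) = 2 ^ i * 4 := by ring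
          obtain ⟨X, hX⟩ : ∃ X, X = 2 ^ i := ⟨_, rfl⟩
          rw [e, ← hX] at hle
          rw [← hX] at hpos
          omega
        have hgg : g * g = 1 := by
          have hg2 : g ^ 2 = 1 := by
            apply orderOf_dvd_iff_pow_eq_one.mp
            rw [hj]
            interval_cases j <;> norm_num
          rw [pow_two] at hg2; exact hg2
        obtain ⟨⟨x, hx⟩, -⟩ := h3 g hg1 hgg
        exact hfpf x hx
      have hcop : Nat.Coprime (orderOf g) (q ^ 3 * (q - 1) * (q + 1)) := by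
        apply Nat.coprime_of_dvd
        intro s hs hsn hsR
        have hs2 : s ≠ 2 := by rintro rfl; exact hC hsn
        apply hAB s hs hs2 hsn
        rcases (Nat.Prime.dvd_mul hs).mp hsR with h | h
        · rcases (Nat.Prime.dvd_mul hs).mp h with h | h
          · exact Or.inl (hs.dvd_of_dvd_pow h)
          · exact Or.inr (Or.inl h)
        · exact Or.inr (Or.inr h)
      have hnG : orderOf g ∣ (q ^ 3 * (q - 1) * (q + 1)) * M := by
        rw [← hGG]; exact orderOf_dvd_natCard g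
      have hnM : orderOf g ∣ M := hcop.dvd_of_dvd_mul_left hnG
      exact orderOf_dvd_iff_pow_eq_one.mp hnM
    · rintro (⟨hg1, hgM⟩ | ⟨s, hs, hsk, hsg⟩) x hx
      · have hn1 : orderOf g ≠ 1 := by rw [Ne, orderOf_eq_one_iff]; exact hg1
        obtain ⟨s, hs, hsg⟩ := Nat.exists_prime_and_dvd hn1
        have hsM : s ∣ M := dvd_trans hsg (orderOf_dvd_of_pow_eq_one hgM)
        obtain ⟨n1, n2, -⟩ := PM s hs hsM
        rcases hfixprime g x hx s hs hsg with h | h
        · exact n1 h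
        · exact n2 h
      · obtain ⟨-, -, n1, n2⟩ := Pk s hs hsk
        rcases hfixprime g x hx s hs hsg with h | h
        · exact n1 h
        · exact n2 h
  · rw [Set.disjoint_left]
    rintro g ⟨hg1, hgM⟩ ⟨s, hs, hsk, hsg⟩
    have hsM : s ∣ M := dvd_trans hsg (orderOf_dvd_of_pow_eq_one hgM)
    obtain ⟨-, -, n3⟩ := PM s hs hsM
    exact n3 (Pk s hs hsk).1

example : Cfsg.Agent.H45.S8.StFpf.{u, v} := fpf

end Cfsg.Agent.Helper55.S8
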