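import Mathlib.GroupTheory.Transfer
import Mathlib.NumberTheory.Basic
import Mathlib.Data.Nat.Prime.Int
import Mathlib.RingTheory.PrincipalIdealDomain
import Mathlib.RingTheory.Coprime.Lemmas
import Mathlib.Algebra.EuclideanDomain.Int
import Mathlib.GroupTheory.SpecificGroups.Cyclic
import Cfsg.Prelude.Def_Transfer
import Cfsg.Agent.Helper55.Isolated

/-!
# helper55: a cyclic Sylow subgroup containing a nontrivial element fixed by its normalizer
has a normal complement (Burnside).
-/

set_option autoImplicit false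

namespace Cfsg.Agent.Helper55

open scoped Pointwise

variable {G : Type*} [Group G]

/-- If `P` is a cyclic Sylow `p`-subgroup and some nontrivial `x ∈ P` is centralized by `N_G(P)`,
then `N_G(P) ≤ C_G(P)`. -/
theorem normalizer_le_centralizer_of_cyclic_of_fixed [Finite G] {p : ℕ} [Fact p.Prime]
    (P : Sylow p G) (hcyc : IsCyclic (P : Subgroup G)) {x : G} (hxP : x ∈ (P : Subgroup G))
    (hx1 : x ≠ 1)
    (hfix : ∀ g ∈ Subgroup.normalizer ((P : Subgroup G) : Set G), g * x * g⁻¹ = x) :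
    Subgroup.normalizer ((P : Subgroup G) : Set G) ≤ Subgroup.centralizer ((P : Subgroup G) : Set G) := by
  classical
  have hp : p.Prime := Fact.out
  obtain ⟨a, ha⟩ := hcyc.exists_generator
  -- every element of P is a power of a (in G)
  have hgen : ∀ y ∈ (P : Subgroup G), ∃ k : ℤ, (a : G) ^ k = y := by
    intro y hy
    obtain ⟨k, hk⟩ := Subgroup.mem_zpowers_iff.mp (ha ⟨y, hy⟩)
    refine ⟨k, ?_⟩
    have := congrArg Subtype.val hk
    simpa using this
  obtain ⟨K, hK⟩ := exists_pow_eq_one_of_mem P.isPGroup' a.2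
  have hordK : orderOf (a : G) ∣ p ^ K := orderOf_dvd_of_pow_eq_one hK
  -- key: for g in the normalizer, g ^ (p ^ K) commutes with a
  have key : ∀ g ∈ Subgroup.normalizer ((P : Subgroup G) : Set G),
      g ^ (p ^ K) * (a : G) = (a : G) * g ^ (p ^ K) := by
    intro g hg
    have hga : g * (a : G) * g⁻¹ ∈ (P : Subgroup G) := (hg _).mp a.2
    obtain ⟨m, hm⟩ := hgen _ hga
    -- conjugation by g raises powers of a to the m
    have hconj : ∀ j : ℤ, g * (a : G) ^ j * g⁻¹ = (a : G) ^ (m * j) := by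
      intro j
      have h1 := map_zpow (MulAut.conj g) (a : G) j
      simp only [MulAut.conj_apply] at h1
      rw [h1, ← hm, ← zpow_mul]
    have hiter : ∀ i : ℕ, g ^ i * (a : G) * (g ^ i)⁻¹ = (a : G) ^ (m ^ i) := by
      intro i
      induction i with
      | zero => simp
      | succ i ih =>
        have e : g ^ (i + 1) * (a : G) * (g ^ (i + 1))⁻¹ = g * (g ^ i * (a : G) * (g ^ i)⁻¹) * g⁻¹ := by
          rw [pow_succ']; simp [mul_assoc]
        rw [e, ih, hconj, pow_succ']
    obtain ⟨j, hj⟩ := hgen x hxP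
    have h2 : (a : G) ^ (m * j) = (a : G) ^ j := by
      rw [← hconj, hj]; exact hfix g hg
    have h3 : ((orderOf (a : G) : ℕ) : ℤ) ∣ j * (m - 1) := by
      rw [orderOf_dvd_iff_zpow_eq_one]
      have : j * (m - 1) = m * j - j := by ring
      rw [this, zpow_sub, h2, mul_inv_cancel]
    have h4 : ¬ ((orderOf (a : G) : ℕ) : ℤ) ∣ j := by
      rw [orderOf_dvd_iff_zpow_eq_one, hj]; exact hx1
    have h5 : (p : ℤ) ∣ m - 1 := by
      by_contra hnd
      have hpi : Prime (p : ℤ) := Nat.prime_iff_prime_int.mp hp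
      have hc1 : IsCoprime (p : ℤ) (m - 1) := (Irreducible.coprime_iff_not_dvd hpi.irreducible).mpr hnd
      have hc2 : IsCoprime ((p : ℤ) ^ K) (m - 1) := hc1.pow_left
      have hd : ((orderOf (a : G) : ℕ) : ℤ) ∣ (p : ℤ) ^ K := by
        have := Int.natCast_dvd_natCast.mpr hordK
        simpa using this
      have hc3 : IsCoprime ((orderOf (a : G) : ℕ) : ℤ) (m - 1) := hc2.of_isCoprime_of_dvd_left hd
      exact h4 (hc3.dvd_of_dvd_mul_right h3)
    have h6 : ((p : ℤ) ^ (K + 1)) ∣ m ^ p ^ K - 1 ^ p ^ K := dvd_sub_pow_of_dvd_sub h5 K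
    have h7 : ((orderOf (a : G) : ℕ) : ℤ) ∣ m ^ p ^ K - 1 := by
      have hd : ((orderOf (a : G) : ℕ) : ℤ) ∣ (p : ℤ) ^ (K + 1) := by
        have := Int.natCast_dvd_natCast.mpr (dvd_trans hordK (pow_dvd_pow p (Nat.le_succ K)))
        simpa using this
      have := dvd_trans hd h6
      simpa using this
    have h8 : (a : G) ^ (m ^ p ^ K) = (a : G) := by
      rw [orderOf_dvd_iff_zpow_eq_one, zpow_sub, zpow_one] at h7
      exact mul_inv_eq_one.mp h7
    have h9 := hiter (p ^ K)
    rw [h8] at h9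
    calc g ^ (p ^ K) * (a : G) = (g ^ p ^ K * (a : G) * (g ^ p ^ K)⁻¹) * g ^ p ^ K := by simp [mul_assoc]
      _ = (a : G) * g ^ (p ^ K) := by rw [h9]
  -- now conclude
  intro g hg
  have hgc : g * (a : G) = (a : G) * g := by
    have hord : orderOf g ≠ 0 := (orderOf_pos g).ne'
    obtain ⟨e, r, hr, hn⟩ := Nat.exists_eq_pow_mul_and_not_dvd hord p hp.ne_one
    -- g ^ r is a p-element of the normalizer, hence in P
    have h1 : (g ^ r) ^ (p ^ e) = 1 := by
      rw [← pow_mul, mul_comm, ← hn, pow_orderOf_eq_one]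
    have h2 : IsPGroup p (Subgroup.zpowers (g ^ r)) := by
      apply isPGroup_zpowers
      obtain ⟨k, -, hk⟩ := (Nat.dvd_prime_pow hp).mp (orderOf_dvd_of_pow_eq_one h1)
      exact ⟨k, hk⟩
    have h3 : g ^ r ∈ (P : Subgroup G) := by
      have h4 := h2.inf_normalizer_sylow P
      have h5 : g ^ r ∈ Subgroup.zpowers (g ^ r) ⊓ Subgroup.normalizer ((P : Subgroup G) : Set G) :=
        Subgroup.mem_inf.mpr ⟨Subgroup.mem_zpowers _, Subgroup.pow_mem _ hg r⟩
      exact (Subgroup.mem_inf.mp (h4.le h5)).2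
    have h6 : g ^ r * (a : G) = (a : G) * g ^ r := by
      obtain ⟨k, hk⟩ := hgen _ h3
      rw [← hk]
      exact ((Commute.refl (a : G)).zpow_left k).eq
    have h7 := key g hg
    -- Bezout
    have hcop : IsCoprime (r : ℤ) ((p ^ K : ℕ) : ℤ) := by
      rw [Nat.isCoprime_iff_coprime]
      exact Nat.Coprime.pow_right K ((Nat.Prime.coprime_iff_not_dvd hp).mpr hr).symm
    obtain ⟨u, v, huv⟩ := hcop
    have hg1 : g = (g ^ r) ^ u * (g ^ (p ^ K)) ^ v := by
      rw [← zpow_natCast g r, ← zpow_natCast g (p ^ K), ← zpow_mul, ← zpow_mul, ← zpow_add]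
      have : (r : ℤ) * u + ((p ^ K : ℕ) : ℤ) * v = 1 := by rw [← huv]; ring
      rw [this, zpow_one]
    have c1 : Commute (g ^ r) (a : G) := h6
    have c2 : Commute (g ^ (p ^ K)) (a : G) := h7
    have c3 : Commute ((g ^ r) ^ u * (g ^ (p ^ K)) ^ v) (a : G) :=
      (c1.zpow_left u).mul_left (c2.zpow_left v)
    rw [← hg1] at c3
    exact c3.eq
  rw [Subgroup.mem_centralizer_iff]
  intro y hy
  obtain ⟨k, hk⟩ := hgen y hy
  rw [← hk]
  have c : Commute g (a : G) := hgc
  exact (c.zpow_right k).eq.symm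

/-- If a cyclic Sylow `p`-subgroup `P` of a finite group contains a nontrivial isolated element,
then `G` has a normal `p`-complement (to `P`). -/
theorem exists_normal_complement_of_isolated_of_cyclic [Finite G] {p : ℕ} [Fact p.Prime]
    {x : G} (hiso : Cfsg.IsIsolated x) (hx1 : x ≠ 1) (P : Sylow p G) (hxP : x ∈ (P : Subgroup G))
    (hcyc : IsCyclic (P : Subgroup G)) :
    ∃ N : Subgroup G, N.Normal ∧ N.IsComplement' (P : Subgroup G) := by
  have hfix : ∀ g ∈ Subgroup.normalizer ((P : Subgroup G) : Set G), g * x * g⁻¹ = x := by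
    intro g hg
    exact isIsolated_conj_eq_of_mem_pGroup hiso P.isPGroup' hxP ((hg x).mp hxP)
  have hNC := normalizer_le_centralizer_of_cyclic_of_fixed P hcyc hxP hx1 hfix
  exact ⟨(MonoidHom.transferSylow P hNC).ker, MonoidHom.normal_ker _,
    MonoidHom.ker_transferSylow_isComplement' P hNC⟩

end Cfsg.Agent.Helper55
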