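import Mathlib.GroupTheory.Nilpotent
import Mathlib.GroupTheory.Sylow
import Mathlib.GroupTheory.IndexNormal
import Mathlib.GroupTheory.SpecificGroups.Cyclic
import Mathlib.Order.Atoms.Finite
import Mathlib.Data.Nat.Choose.Dvd
import Cfsg.Prelude.Def_CaseTheorems
import Cfsg.Agent.Helper55.Basic

/-!
# helper55: for `p` odd, a finite `p`-group of `p`-rank at most one is cyclic
-/

set_option autoImplicit false

namespace Cfsg.Agent.Helper55

open scoped commutatorElement

universe u

/-- Two commuting elements of exponent `p` lie in a common elementary abelian subgroup. -/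
theorem exists_elemAb_of_commute {P : Type*} [Group P] {p : ℕ} {a z : P} (ha : a ^ p = 1)
    (hz : z ^ p = 1) (hc : Commute a z) :
    ∃ A : Subgroup P, IsMulCommutative A ∧ (∀ g ∈ A, g ^ p = 1) ∧ a ∈ A ∧ z ∈ A := by
  have h1 : ∀ g ∈ Subgroup.closure ({a, z} : Set P), Commute g a ∧ Commute g z := by
    intro g hg
    induction hg using Subgroup.closure_induction with
    | mem x hx =>
      rcases hx with rfl | hx
      · exact ⟨Commute.refl _, hc⟩
      · rw [Set.mem_singleton_iff.mp hx]; exact ⟨hc.symm, Commute.refl _⟩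
    | one => exact ⟨Commute.one_left _, Commute.one_left _⟩
    | mul x y _ _ hx hy => exact ⟨hx.1.mul_left hy.1, hx.2.mul_left hy.2⟩
    | inv x _ hx => exact ⟨hx.1.inv_left, hx.2.inv_left⟩
  have hcomm : ∀ g ∈ Subgroup.closure ({a, z} : Set P),
      ∀ h ∈ Subgroup.closure ({a, z} : Set P), Commute g h := by
    intro g hg h hh
    induction hh using Subgroup.closure_induction with
    | mem x hx =>
      rcases hx with rfl | hx
      · exact (h1 g hg).1
      · rw [Set.mem_singleton_iff.mp hx]; exact (h1 g hg).2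
    | one => exact Commute.one_right _
    | mul x y _ _ hx hy => exact hx.mul_right hy
    | inv x _ hx => exact hx.inv_right
  refine ⟨Subgroup.closure {a, z}, ?_, ?_, Subgroup.subset_closure (by simp),
    Subgroup.subset_closure (by simp)⟩
  · rw [isMulCommutative_iff]
    intro g h
    exact Subtype.ext (hcomm g g.2 h h.2).eq
  · intro g hg
    induction hg using Subgroup.closure_induction with
    | mem x hx =>
      rcases hx with rfl | hx
      · exact ha
      · rw [Set.mem_singleton_iff.mp hx]; exact hz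
    | one => exact one_pow _
    | mul x y hx' hy' hx hy => rw [(hcomm x hx' y hy').mul_pow, hx, hy, one_mul]
    | inv x _ hx => rw [inv_pow, hx, inv_one]

/-- Power of a product when the commutator is central. -/
theorem mul_pow_of_central_comm {P : Type*} [Group P] (x y c : P) (hc : y * x = c * x * y)
    (hcen : ∀ g : P, g * c = c * g) :
    (∀ k : ℕ, y ^ k * x = c ^ k * x * y ^ k) ∧
    (∀ n : ℕ, (x * y) ^ n = x ^ n * y ^ n * c ^ (n.choose 2)) := by
  have hcenk : ∀ (k : ℕ) (g : P), g * c ^ k = c ^ k * g := by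
    intro k g
    have : Commute g c := hcen g
    exact (this.pow_right k).eq
  have hA : ∀ k : ℕ, y ^ k * x = c ^ k * x * y ^ k := by
    intro k
    induction k with
    | zero => simp
    | succ k ih =>
      calc y ^ (k + 1) * x = y * (y ^ k * x) := by rw [pow_succ', mul_assoc]
        _ = y * (c ^ k * x * y ^ k) := by rw [ih]
        _ = (y * c ^ k) * x * y ^ k := by simp [mul_assoc]
        _ = c ^ k * (y * x) * y ^ k := by rw [hcenk k y]; simp [mul_assoc]
        _ = c ^ k * (c * x * y) * y ^ k := by rw [hc]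
        _ = c ^ (k + 1) * x * y ^ (k + 1) := by rw [pow_succ, pow_succ']; simp [mul_assoc]
  refine ⟨hA, ?_⟩
  intro n
  induction n with
  | zero => simp
  | succ n ih =>
    have hch : (n + 1).choose 2 = n + n.choose 2 := by
      rw [Nat.choose_succ_succ, Nat.choose_one_right]
    calc (x * y) ^ (n + 1) = (x * y) ^ n * (x * y) := pow_succ _ _
      _ = x ^ n * y ^ n * c ^ (n.choose 2) * (x * y) := by rw [ih]
      _ = x ^ n * y ^ n * ((x * y) * c ^ (n.choose 2)) := by
          rw [hcenk (n.choose 2) (x * y)]; simp [mul_assoc]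
      _ = x ^ n * (y ^ n * x) * y * c ^ (n.choose 2) := by simp [mul_assoc]
      _ = x ^ n * (c ^ n * x * y ^ n) * y * c ^ (n.choose 2) := by rw [hA n]
      _ = (x ^ n * c ^ n) * x * y ^ n * y * c ^ (n.choose 2) := by simp [mul_assoc]
      _ = (c ^ n * x ^ n) * x * y ^ n * y * c ^ (n.choose 2) := by rw [hcenk n (x ^ n)]
      _ = c ^ n * (x ^ (n + 1) * y ^ (n + 1) * c ^ (n.choose 2)) := by
          rw [pow_succ, pow_succ]; simp [mul_assoc]
      _ = (x ^ (n + 1) * y ^ (n + 1) * c ^ (n.choose 2)) * c ^ n := (hcenk n _).symm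
      _ = x ^ (n + 1) * y ^ (n + 1) * c ^ ((n + 1).choose 2) := by
          rw [hch, mul_assoc, ← pow_add, Nat.add_comm n (n.choose 2)]

/-- A coatom of a finite `p`-group is normal of index `p`. -/
theorem coatom_normal_index {P : Type*} [Group P] [Finite P] {p : ℕ} [Fact p.Prime]
    (hP : IsPGroup p P) {M : Subgroup P} (hM : IsCoatom M) : M.Normal ∧ M.index = p := by
  have hp : p.Prime := Fact.out
  have : Group.IsNilpotent P := hP.isNilpotent
  have hnc : NormalizerCondition P := normalizerCondition_of_isNilpotent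
  refine ⟨Subgroup.NormalizerCondition.normal_of_coatom _ hnc hM, ?_⟩
  obtain ⟨N, hN⟩ := hP.exists_card_eq
  obtain ⟨m, hm⟩ := (hP.to_subgroup M).exists_card_eq
  have hlt : m < N := by
    by_contra hcon
    push Not at hcon
    have h1 : Nat.card M ≤ Nat.card P := Subgroup.card_le_card_group M
    have h2 : Nat.card P ≤ Nat.card M := by
      rw [hN, hm]; exact Nat.pow_le_pow_right hp.pos hcon
    exact hM.1 (Subgroup.eq_top_of_card_eq M (le_antisymm h1 h2))
  have hdvd : p ^ (m + 1) ∣ Nat.card P := by rw [hN]; exact pow_dvd_pow p hlt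
  obtain ⟨K, hK, hMK⟩ := Sylow.exists_subgroup_card_pow_succ hdvd hm
  have hne : M ≠ K := by
    intro h
    rw [← h, hm] at hK
    have := Nat.pow_right_injective hp.two_le hK
    omega
  have hKtop : K = ⊤ := hM.2 K (lt_of_le_of_ne hMK hne)
  have hcard : Nat.card P = p ^ (m + 1) := by
    rw [← hK, hKtop]; exact (Subgroup.card_top).symm
  have h3 := Subgroup.card_mul_index M
  rw [hm, hcard, pow_succ] at h3
  exact Nat.eq_of_mul_eq_mul_left (pow_pos hp.pos m) h3

theorem isCyclic_of_pRankLE_one_aux {p : ℕ} [Fact p.Prime] (hp2 : p ≠ 2) :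
    ∀ (n : ℕ) (P : Type u) [Group P] [Finite P], Nat.card P = n → IsPGroup p P →
      Cfsg.PRankLE p 1 P → IsCyclic P := by
  intro n
  induction n using Nat.strong_induction_on with
  | _ n ih =>
  intro P _ _ hn hP hrk
  classical
  have hp : p.Prime := Fact.out
  -- proper subgroups are cyclic
  have hsub : ∀ M : Subgroup P, M ≠ ⊤ → IsCyclic M := by
    intro M hM
    have hlt : Nat.card M < n := by
      rw [← hn]
      rcases (Subgroup.card_le_card_group M).lt_or_eq with h | h
      · exact h
      · exact absurd (Subgroup.eq_top_of_card_eq M h) hM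
    refine ih _ hlt M rfl (hP.to_subgroup M) ?_
    intro A hA hexp
    have h1 := hrk (A.map M.subtype) inferInstance (by
      rintro _ ⟨a, ha, rfl⟩
      have := hexp a ha
      have h2 := congrArg Subtype.val this
      simpa using h2)
    have h2 : Nat.card (A.map M.subtype) = Nat.card A :=
      Nat.card_congr (A.equivMapOfInjective M.subtype M.subtype_injective).symm.toEquiv
    rw [h2] at h1; exact h1
  by_cases hex : ∃ M₁ M₂ : Subgroup P, IsCoatom M₁ ∧ IsCoatom M₂ ∧ M₁ ≠ M₂
  · exfalso
    obtain ⟨M₁, M₂, hM₁, hM₂, hne⟩ := hex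
    obtain ⟨hN₁, hi₁⟩ := coatom_normal_index hP hM₁
    obtain ⟨hN₂, hi₂⟩ := coatom_normal_index hP hM₂
    have hsup : M₁ ⊔ M₂ = ⊤ := hM₁.sup_eq_top_of_ne hM₂ hne
    have hc₁ : ∀ a ∈ M₁, ∀ b ∈ M₁, a * b = b * a := by
      intro a ha b hb
      have := hsub M₁ hM₁.1
      exact congrArg Subtype.val (mul_comm' (⟨a, ha⟩ : M₁) ⟨b, hb⟩)
    have hc₂ : ∀ a ∈ M₂, ∀ b ∈ M₂, a * b = b * a := by
      intro a ha b hb
      have := hsub M₂ hM₂.1
      exact congrArg Subtype.val (mul_comm' (⟨a, ha⟩ : M₂) ⟨b, hb⟩)
    -- the intersection is central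
    have hcen : ∀ z ∈ M₁ ⊓ M₂, ∀ g : P, g * z = z * g := by
      intro z hz g
      obtain ⟨hz1, hz2⟩ := Subgroup.mem_inf.mp hz
      have hle : M₁ ⊔ M₂ ≤ Subgroup.centralizer ({z} : Set P) := by
        apply sup_le
        · intro a ha
          rw [Subgroup.mem_centralizer_iff]
          intro w hw
          rw [Set.mem_singleton_iff.mp hw]
          exact hc₁ z hz1 a ha
        · intro a ha
          rw [Subgroup.mem_centralizer_iff]
          intro w hw
          rw [Set.mem_singleton_iff.mp hw]
          exact hc₂ z hz2 a ha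
      have hg : g ∈ Subgroup.centralizer ({z} : Set P) := hle (by rw [hsup]; trivial)
      exact ((Subgroup.mem_centralizer_iff.mp hg) z rfl).symm
    -- p-th powers and commutators lie in the intersection
    have hpow : ∀ x : P, x ^ p ∈ M₁ ⊓ M₂ := by
      intro x
      refine Subgroup.mem_inf.mpr ⟨?_, ?_⟩
      · have := M₁.pow_index_mem x; rwa [hi₁] at this
      · have := M₂.pow_index_mem x; rwa [hi₂] at this
    have hcommM : ∀ (M : Subgroup P), M.Normal → M.index = p → ∀ x y : P, y * x * y⁻¹ * x⁻¹ ∈ M := by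
      intro M hMn hMi x y
      have hcard : Nat.card (P ⧸ M) = p := by rw [← hMi]; rfl
      have : IsCyclic (P ⧸ M) := isCyclic_of_prime_card hcard
      rw [← QuotientGroup.eq_one_iff]
      simp only [QuotientGroup.mk_mul, QuotientGroup.mk_inv]
      rw [mul_comm' (y : P ⧸ M) (x : P ⧸ M)]
      simp
    have hcomm : ∀ x y : P, y * x * y⁻¹ * x⁻¹ ∈ M₁ ⊓ M₂ := fun x y =>
      Subgroup.mem_inf.mpr ⟨hcommM M₁ hN₁ hi₁ x y, hcommM M₂ hN₂ hi₂ x y⟩
    -- the p-th power map is a homomorphism
    have hpdvd : p ∣ p.choose 2 := by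
      apply hp.dvd_choose_self (by norm_num)
      have := hp.two_le
      omega
    have hmulpow : ∀ x y : P, (x * y) ^ p = x ^ p * y ^ p := by
      intro x y
      set c : P := y * x * y⁻¹ * x⁻¹ with hc
      have hc' : y * x = c * x * y := by rw [hc]; simp [mul_assoc]
      obtain ⟨hA, hB⟩ := mul_pow_of_central_comm x y c hc' (hcen c (hcomm x y))
      have hcp : c ^ p = 1 := by
        have h1 := hA p
        have h2 : y ^ p * x = x * y ^ p := (hcen _ (hpow y) x).symm
        rw [h2, mul_assoc] at h1
        exact (mul_eq_right.mp h1.symm)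
      obtain ⟨t, ht⟩ := hpdvd
      rw [hB p, ht, pow_mul, hcp, one_pow, mul_one]
    let φ : P →* P := MonoidHom.mk' (fun x => x ^ p) hmulpow
    have hφ : ∀ x, φ x = x ^ p := fun x => rfl
    have hrange : φ.range ≤ M₁ ⊓ M₂ := by
      rintro _ ⟨x, rfl⟩
      rw [hφ]; exact hpow x
    -- the kernel has order at most p
    have : Nontrivial P := by
      by_contra hnt
      rw [not_nontrivial_iff_subsingleton] at hnt
      exact hM₁.1 (Subsingleton.elim _ _)
    have : Nontrivial (Subgroup.center P) := hP.center_nontrivial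
    have hdvdc : p ∣ Nat.card (Subgroup.center P) := by
      rcases (hP.to_subgroup (Subgroup.center P)).card_eq_or_dvd with h | h
      · exact absurd h (Finite.one_lt_card).ne'
      · exact h
    obtain ⟨z₀, hz₀⟩ := exists_prime_orderOf_dvd_card' (G := Subgroup.center P) p hdvdc
    have hz₀' : orderOf (z₀ : P) = p := by rw [Subgroup.orderOf_coe]; exact hz₀
    have hz₀p : (z₀ : P) ^ p = 1 := by rw [← hz₀']; exact pow_orderOf_eq_one _
    have hker : φ.ker ≤ Subgroup.zpowers (z₀ : P) := by
      intro a ha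
      rw [MonoidHom.mem_ker, hφ] at ha
      have hcz : Commute a (z₀ : P) := Subgroup.mem_center_iff.mp z₀.2 a
      obtain ⟨A, hA1, hA2, haA, hzA⟩ := exists_elemAb_of_commute ha hz₀p hcz
      have hAcard := hrk A hA1 hA2
      rw [pow_one] at hAcard
      have hle : Subgroup.zpowers (z₀ : P) ≤ A := by
        rw [Subgroup.zpowers_le]; exact hzA
      have heq : Subgroup.zpowers (z₀ : P) = A := by
        apply Subgroup.eq_of_le_of_card_ge hle
        rw [Nat.card_zpowers, hz₀']; exact hAcard
      rw [heq]; exact haA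
    have hkcard : Nat.card φ.ker ≤ p := by
      have := Subgroup.card_le_of_le hker
      rwa [Nat.card_zpowers, hz₀'] at this
    have h1 : Nat.card φ.ker * Nat.card φ.range = Nat.card P := by
      rw [← Subgroup.index_ker]; exact Subgroup.card_mul_index _
    have h2 : Nat.card φ.range ≤ Nat.card (M₁ ⊓ M₂ : Subgroup P) := Subgroup.card_le_of_le hrange
    have h3 : Nat.card M₁ * p = Nat.card P := by rw [← hi₁]; exact Subgroup.card_mul_index _
    have h4 : Nat.card M₁ ≤ Nat.card (M₁ ⊓ M₂ : Subgroup P) := by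
      have h5 : Nat.card M₁ * p ≤ Nat.card (M₁ ⊓ M₂ : Subgroup P) * p := by
        rw [h3, ← h1, mul_comm]
        exact Nat.mul_le_mul h2 hkcard
      exact Nat.le_of_mul_le_mul_right h5 hp.pos
    have h6 : M₁ ⊓ M₂ = M₁ := Subgroup.eq_of_le_of_card_ge inf_le_left h4
    have h7 : M₁ ≤ M₂ := by rw [← h6]; exact inf_le_right
    rcases hM₁.le_iff.mp h7 with h | h
    · exact hM₂.1 h
    · exact hne h.symm
  · -- at most one coatom
    rcases eq_top_or_exists_le_coatom (⊥ : Subgroup P) with h | ⟨M, hM, -⟩
    · have : Subsingleton P := by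
        rw [← Subgroup.subsingleton_iff]
        exact subsingleton_of_bot_eq_top h
      exact isCyclic_of_subsingleton
    · obtain ⟨g, hg⟩ : ∃ g, g ∉ M := by
        by_contra hcon
        push Not at hcon
        exact hM.1 (eq_top_iff.mpr fun x _ => hcon x)
      rcases eq_top_or_exists_le_coatom (Subgroup.zpowers g) with h | ⟨M', hM', hle⟩
      · exact isCyclic_iff_exists_zpowers_eq_top.mpr ⟨g, h⟩
      · have : M' = M := by
          by_contra hne
          exact hex ⟨M', M, hM', hM, hne⟩
        rw [this] at hle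
        exact absurd (hle (Subgroup.mem_zpowers g)) hg

/-- For `p` odd, a finite `p`-group of `p`-rank at most one is cyclic. -/
theorem isCyclic_of_pRankLE_one {p : ℕ} [Fact p.Prime] (hp2 : p ≠ 2) {P : Type u} [Group P]
    [Finite P] (hP : IsPGroup p P) (hrk : Cfsg.PRankLE p 1 P) : IsCyclic P :=
  isCyclic_of_pRankLE_one_aux hp2 _ P rfl hP hrk

end Cfsg.Agent.Helper55
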