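import Mathlib.GroupTheory.Sylow
import Mathlib.GroupTheory.Index
import Cfsg.Agent.Helper55.Basic

/-!
# helper55: conjugation membership and invariant Sylow subgroups under coprime action
-/

set_option autoImplicit false

namespace Cfsg.Agent.Helper55

open scoped Pointwise

variable {G : Type*} [Group G]

/-- Membership in a conjugate subgroup `u H u⁻¹`. -/
theorem mem_map_conj_iff {H : Subgroup G} {u z : G} :
    z ∈ H.map (MulAut.conj u).toMonoidHom ↔ u⁻¹ * z * u ∈ H := by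
  constructor
  · rintro ⟨y, hy, rfl⟩
    simpa [mul_assoc] using hy
  · intro h
    exact ⟨u⁻¹ * z * u, h, by simp [mul_assoc]⟩

/-- A `p`-element normalizing a finite subgroup `H₁` of order prime to `p` normalizes some
Sylow `q`-subgroup of `H₁`. -/
theorem exists_invariant_sylow [Finite G] {p : ℕ} [Fact p.Prime] (q : ℕ) [Fact q.Prime]
    (H₁ : Subgroup G) (x : G) (hxN : x ∈ Subgroup.normalizer (H₁ : Set G))
    (hxp : ∃ k : ℕ, orderOf x = p ^ k) (hcop : (Nat.card H₁).Coprime p) :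
    ∃ Q₂ : Sylow q ↥H₁, ∀ a : H₁, a ∈ (Q₂ : Subgroup H₁) →
      x * (a : G) * x⁻¹ ∈ (Q₂ : Subgroup H₁).map H₁.subtype := by
  classical
  have hp : p.Prime := Fact.out
  set xN : Subgroup.normalizer (H₁ : Set G) := ⟨x, hxN⟩ with hxNdef
  have hZ : IsPGroup p (Subgroup.zpowers xN) := by
    obtain ⟨k, hk⟩ := hxp
    apply IsPGroup.of_card (n := k)
    rw [Nat.card_zpowers, ← hk, hxNdef]
    exact Subgroup.orderOf_mk x hxN
  have hnd : ¬ p ∣ Nat.card (Sylow q ↥H₁) := by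
    intro hdvd
    obtain ⟨P⟩ : Nonempty (Sylow q ↥H₁) := inferInstance
    have h1 : Nat.card (Sylow q ↥H₁) ∣ Nat.card H₁ :=
      dvd_trans (Sylow.card_dvd_index P) (Subgroup.index_dvd_card _)
    have h2 : p ∣ Nat.card H₁ := dvd_trans hdvd h1
    have h3 := Nat.Coprime.eq_one_of_dvd hcop.symm h2
    exact hp.one_lt.ne' h3
  obtain ⟨Q₂, hQ₂⟩ := hZ.nonempty_fixed_point_of_prime_not_dvd_card (Sylow q ↥H₁) hnd
  refine ⟨Q₂, ?_⟩
  intro a ha
  have h1 := hQ₂ ⟨xN, Subgroup.mem_zpowers xN⟩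
  have h2 : (⟨xN, Subgroup.mem_zpowers xN⟩ : Subgroup.zpowers xN) • a ∈
      (((⟨xN, Subgroup.mem_zpowers xN⟩ : Subgroup.zpowers xN) • Q₂ : Sylow q ↥H₁) : Subgroup ↥H₁) := by
    show (⟨xN, Subgroup.mem_zpowers xN⟩ : Subgroup.zpowers xN) • a ∈
      (⟨xN, Subgroup.mem_zpowers xN⟩ : Subgroup.zpowers xN) • (Q₂ : Subgroup ↥H₁)
    exact Subgroup.smul_mem_pointwise_smul _ _ _ ha
  rw [h1] at h2
  exact ⟨_, h2, rfl⟩

end Cfsg.Agent.Helper55
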