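import Mathlib.GroupTheory.Sylow
import Cfsg.Prelude.Def_SylowControl
import Cfsg.Agent.Helper55.Coprime

/-!
# helper55: control of Sylow intersections and of fusion — basic conjugation lemmas
-/

set_option autoImplicit false

namespace Cfsg.Agent.Helper55

open scoped Pointwise

variable {G : Type*} [Group G]

/-- `X ∈ 𝓕(S)` in terms of cardinalities. -/
theorem mem_sylowMembers_iff [Finite G] {p : ℕ} [Fact p.Prime] {𝓕 : Set (Subgroup G)}
    {S X : Subgroup G} :
    X ∈ Cfsg.sylowMembers p 𝓕 S ↔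
      X ∈ 𝓕 ∧ Nat.card ↥(S ⊓ X) = p ^ (Nat.card ↥X).factorization p := by
  constructor
  · rintro ⟨hX, P, hP⟩
    refine ⟨hX, ?_⟩
    rw [← hP,
      Nat.card_congr ((P : Subgroup ↥X).equivMapOfInjective X.subtype X.subtype_injective).symm.toEquiv]
    exact P.card_eq_multiplicity
  · rintro ⟨hX, hcard⟩
    have h1 : Nat.card ((S ⊓ X).subgroupOf X) = p ^ (Nat.card ↥X).factorization p := by
      rw [← hcard]
      exact Nat.card_congr (Subgroup.subgroupOfEquivOfLe inf_le_right).toEquiv
    refine ⟨hX, Sylow.ofCard ((S ⊓ X).subgroupOf X) h1, ?_⟩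
    rw [Sylow.coe_ofCard, Subgroup.subgroupOf_map_subtype]
    simp

/-- Composition of conjugations of a subgroup. -/
theorem map_conj_map_conj (H : Subgroup G) (a b : G) :
    (H.map (MulAut.conj b).toMonoidHom).map (MulAut.conj a).toMonoidHom
      = H.map (MulAut.conj (a * b)).toMonoidHom := by
  ext z
  rw [mem_map_conj_iff, mem_map_conj_iff, mem_map_conj_iff]
  have e : b⁻¹ * (a⁻¹ * z * a) * b = (a * b)⁻¹ * z * (a * b) := by simp [mul_assoc]
  rw [e]

/-- Conjugating a subgroup by one of its elements does nothing. -/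
theorem map_conj_of_mem {H : Subgroup G} {y : G} (hy : y ∈ H) :
    H.map (MulAut.conj y).toMonoidHom = H := by
  ext z
  rw [mem_map_conj_iff]
  constructor
  · intro h
    have := H.mul_mem (H.mul_mem hy h) (H.inv_mem hy)
    simpa [mul_assoc] using this
  · intro h
    exact H.mul_mem (H.mul_mem (H.inv_mem hy) h) hy

/-- The underlying subgroup of a conjugate Sylow subgroup. -/
theorem sylow_smul_coe {p : ℕ} (S : Sylow p G) (u : G) :
    ((u • S : Sylow p G) : Subgroup G) = (S : Subgroup G).map (MulAut.conj u).toMonoidHom := by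
  ext z
  rw [sylow_smul_mem_iff rfl, mem_map_conj_iff]

/-- `𝓕(S)` is compatible with conjugation when `𝓕` is a normal family. -/
theorem sylowMembers_map_conj [Finite G] {p : ℕ} [Fact p.Prime] {𝓕 : Set (Subgroup G)}
    (h𝓕 : Cfsg.IsNormalSet 𝓕) {S X : Subgroup G} (h : X ∈ Cfsg.sylowMembers p 𝓕 S) (u : G) :
    X.map (MulAut.conj u).toMonoidHom ∈
      Cfsg.sylowMembers p 𝓕 (S.map (MulAut.conj u).toMonoidHom) := by
  rw [mem_sylowMembers_iff] at h ⊢
  obtain ⟨hX, hcard⟩ := h
  refine ⟨?_, ?_⟩
  · have := h𝓕 X hX u⁻¹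
    unfold Cfsg.subgroupConjRight at this
    rw [inv_inv] at this
    exact this
  · rw [← Subgroup.map_inf_eq _ _ _ (MulAut.conj u).injective,
      Nat.card_congr ((S ⊓ X).equivMapOfInjective _ (MulAut.conj u).injective).symm.toEquiv,
      Nat.card_congr (X.equivMapOfInjective _ (MulAut.conj u).injective).symm.toEquiv]
    exact hcard

/-- Prefix products of `List.ofFn`. -/
theorem prod_take_ofFn_succ {n : ℕ} (y : Fin n → G) (k : ℕ) (hk : k < n) :
    ((List.ofFn y).take (k + 1)).prod = ((List.ofFn y).take k).prod * y ⟨k, hk⟩ := by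
  rw [List.prod_take_succ _ _ (by simpa using hk)]
  simp

end Cfsg.Agent.Helper55
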