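import Mathlib.GroupTheory.Sylow
import Mathlib.Data.Nat.Factorization.Basic
import Cfsg.Agent.Helper55.SylowControl

/-!
# helper55: Sylow `p`-subgroups of a subgroup `M`, as subgroups of the ambient group
-/

set_option autoImplicit false

namespace Cfsg.Agent.Helper55

open scoped Pointwise

variable {G : Type*} [Group G]

/-- `P` is a Sylow `p`-subgroup of the subgroup `M` (all inside `G`). -/
def IsSylIn (p : ℕ) (M P : Subgroup G) : Prop :=
  P ≤ M ∧ Nat.card P = p ^ (Nat.card M).factorization p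

/-- Normalizing elements fix the subgroup under conjugation. -/
theorem map_conj_of_mem_normalizer {F : Subgroup G} {m : G}
    (hm : m ∈ Subgroup.normalizer (F : Set G)) : F.map (MulAut.conj m).toMonoidHom = F := by
  ext z
  rw [mem_map_conj_iff]
  have h1 := (Subgroup.inv_mem _ hm) z
  constructor
  · intro h
    have h2 := (hm (m⁻¹ * z * m)).mp h
    simpa [mul_assoc] using h2
  · intro h
    have h2 := h1.mp h
    simpa [mul_assoc] using h2

/-- Cardinality of a conjugate. -/
theorem card_map_conj (H : Subgroup G) (g : G) :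
    Nat.card (H.map (MulAut.conj g).toMonoidHom) = Nat.card H :=
  Nat.card_congr (H.equivMapOfInjective _ (MulAut.conj g).injective).symm.toEquiv

/-- Monotonicity of conjugation. -/
theorem map_conj_mono {H K : Subgroup G} (h : H ≤ K) (g : G) :
    H.map (MulAut.conj g).toMonoidHom ≤ K.map (MulAut.conj g).toMonoidHom :=
  Subgroup.map_mono h

/-- The normalizer of a conjugate. -/
theorem mem_normalizer_map_conj {F : Subgroup G} {x : G}
    (hx : x ∈ Subgroup.normalizer (F : Set G)) (g : G) :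
    g * x * g⁻¹ ∈ Subgroup.normalizer ((F.map (MulAut.conj g).toMonoidHom : Subgroup G) : Set G) := by
  intro z
  rw [SetLike.mem_coe, SetLike.mem_coe, mem_map_conj_iff, mem_map_conj_iff]
  have h1 := hx (g⁻¹ * z * g)
  rw [SetLike.mem_coe, SetLike.mem_coe] at h1
  have e : g⁻¹ * (g * x * g⁻¹ * z * (g * x * g⁻¹)⁻¹) * g = x * (g⁻¹ * z * g) * x⁻¹ := by
    simp [mul_assoc]
  rw [e]
  exact h1

section

variable [Finite G] {p : ℕ} [Fact p.Prime]

theorem IsSylIn.isPGroup {M P : Subgroup G} (h : IsSylIn p M P) : IsPGroup p P :=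
  IsPGroup.of_card h.2

/-- A `p`-subgroup of `M` has order at most that of a Sylow `p`-subgroup of `M`. -/
theorem card_le_pow_factorization {M B : Subgroup G} (hB : IsPGroup p B) (hBM : B ≤ M) :
    Nat.card B ≤ p ^ (Nat.card M).factorization p := by
  have hp : p.Prime := Fact.out
  obtain ⟨k, hk⟩ := hB.exists_card_eq
  rw [hk]
  apply Nat.pow_le_pow_right hp.pos
  have hdvd : p ^ k ∣ Nat.card M := hk ▸ Subgroup.card_dvd_of_le hBM
  exact (hp.pow_dvd_iff_le_factorization Nat.card_pos.ne').mp hdvd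

/-- A Sylow `p`-subgroup of `M` is a maximal `p`-subgroup of `M`. -/
theorem IsSylIn.eq_of_le {M E B : Subgroup G} (h : IsSylIn p M E) (hEB : E ≤ B) (hBM : B ≤ M)
    (hB : IsPGroup p B) : E = B := by
  apply Subgroup.eq_of_le_of_card_ge hEB
  rw [h.2]
  exact card_le_pow_factorization hB hBM

/-- Sylow subgroups of `M` in the sense of Mathlib give `IsSylIn`. -/
theorem isSylIn_of_sylow {M : Subgroup G} (P' : Sylow p ↥M) :
    IsSylIn p M ((P' : Subgroup ↥M).map M.subtype) := by
  refine ⟨Subgroup.map_subtype_le _, ?_⟩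
  rw [Nat.card_congr ((P' : Subgroup ↥M).equivMapOfInjective M.subtype M.subtype_injective).symm.toEquiv]
  exact P'.card_eq_multiplicity

/-- `IsSylIn` subgroups come from Sylow subgroups of `M` in the sense of Mathlib. -/
theorem IsSylIn.exists_sylow {M P : Subgroup G} (h : IsSylIn p M P) :
    ∃ P' : Sylow p ↥M, (P' : Subgroup ↥M) = P.subgroupOf M ∧
      (P' : Subgroup ↥M).map M.subtype = P := by
  have h1 : Nat.card (P.subgroupOf M) = p ^ (Nat.card ↥M).factorization p := by
    rw [← h.2]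
    exact Nat.card_congr (Subgroup.subgroupOfEquivOfLe h.1).toEquiv
  refine ⟨Sylow.ofCard (P.subgroupOf M) h1, rfl, ?_⟩
  rw [Sylow.coe_ofCard, Subgroup.subgroupOf_map_subtype]
  exact inf_of_le_left h.1

/-- Every `p`-subgroup of `M` lies in a Sylow `p`-subgroup of `M`. -/
theorem exists_isSylIn_ge {M R : Subgroup G} (hRM : R ≤ M) (hR : IsPGroup p R) :
    ∃ E : Subgroup G, IsSylIn p M E ∧ R ≤ E := by
  have hR' : IsPGroup p (R.subgroupOf M) := hR.comap_subtype
  obtain ⟨P', hP'⟩ := hR'.exists_le_sylow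
  refine ⟨(P' : Subgroup ↥M).map M.subtype, isSylIn_of_sylow P', ?_⟩
  intro r hr
  exact ⟨⟨r, hRM hr⟩, hP' (by rw [Subgroup.mem_subgroupOf]; exact hr), rfl⟩

/-- Sylow `p`-subgroups of `M` are conjugate under `M`. -/
theorem IsSylIn.exists_conj {M A B : Subgroup G} (hA : IsSylIn p M A) (hB : IsSylIn p M B) :
    ∃ m ∈ M, B = A.map (MulAut.conj m).toMonoidHom := by
  obtain ⟨A', hA1, hA2⟩ := hA.exists_sylow
  obtain ⟨B', hB1, hB2⟩ := hB.exists_sylow
  obtain ⟨m, hm⟩ := MulAction.exists_smul_eq ↥M A' B'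
  refine ⟨m, m.2, ?_⟩
  ext z
  rw [mem_map_conj_iff]
  constructor
  · intro hz
    have hzM : z ∈ M := hB.1 hz
    have h1 : (⟨z, hzM⟩ : ↥M) ∈ (B' : Subgroup ↥M) := by
      rw [hB1, Subgroup.mem_subgroupOf]; exact hz
    rw [sylow_smul_mem_iff hm] at h1
    rw [hA1, Subgroup.mem_subgroupOf] at h1
    simpa using h1
  · intro hz
    have hzM : z ∈ M := by
      have h2 : (m : G)⁻¹ * z * (m : G) ∈ M := hA.1 hz
      have h3 := M.mul_mem (M.mul_mem m.2 h2) (M.inv_mem m.2)
      simpa [mul_assoc] using h3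
    have h1 : (⟨z, hzM⟩ : ↥M) ∈ (B' : Subgroup ↥M) := by
      rw [sylow_smul_mem_iff hm, hA1, Subgroup.mem_subgroupOf]
      simpa using hz
    rw [hB1, Subgroup.mem_subgroupOf] at h1
    exact h1

/-- Conjugating a Sylow `p`-subgroup of `M` by an element of `M`. -/
theorem IsSylIn.map_conj {M A : Subgroup G} (hA : IsSylIn p M A) {m : G} (hm : m ∈ M) :
    IsSylIn p M (A.map (MulAut.conj m).toMonoidHom) := by
  refine ⟨?_, ?_⟩
  · have := map_conj_mono hA.1 m
    rwa [map_conj_of_mem hm] at this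
  · rw [card_map_conj]; exact hA.2

/-- A Sylow `p`-subgroup of `M` contained in `X ≤ M` is a Sylow `p`-subgroup of `X`. -/
theorem IsSylIn.of_le {M X A : Subgroup G} (hA : IsSylIn p M A) (hAX : A ≤ X) (hXM : X ≤ M) :
    IsSylIn p X A := by
  have hp : p.Prime := Fact.out
  refine ⟨hAX, ?_⟩
  rw [hA.2]
  congr 1
  apply le_antisymm
  · have hdvd : p ^ (Nat.card M).factorization p ∣ Nat.card X := by
      rw [← hA.2]; exact Subgroup.card_dvd_of_le hAX
    exact (hp.pow_dvd_iff_le_factorization Nat.card_pos.ne').mp hdvd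
  · have hdvd : p ^ (Nat.card X).factorization p ∣ Nat.card M :=
      dvd_trans (Nat.ordProj_dvd _ _) (Subgroup.card_dvd_of_le hXM)
    exact (hp.pow_dvd_iff_le_factorization Nat.card_pos.ne').mp hdvd

/-- A Sylow `p`-subgroup of `G`, as a Sylow `p`-subgroup of `⊤`. -/
theorem isSylIn_top_of_sylow (P : Sylow p G) : IsSylIn p (⊤ : Subgroup G) (P : Subgroup G) := by
  refine ⟨le_top, ?_⟩
  rw [P.card_eq_multiplicity, Subgroup.card_top]

/-- A Sylow `p`-subgroup of `G` contained in `M` is a Sylow `p`-subgroup of `M`. -/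
theorem isSylIn_of_sylow_le (P : Sylow p G) {M : Subgroup G} (h : (P : Subgroup G) ≤ M) :
    IsSylIn p M (P : Subgroup G) :=
  (isSylIn_top_of_sylow P).of_le h le_top

/-- If `M` contains a Sylow `p`-subgroup of `G`, its Sylow `p`-subgroups are Sylow in `G`. -/
theorem IsSylIn.exists_sylow_of_le {M c : Subgroup G} (hc : IsSylIn p M c) (S : Sylow p G)
    (hS : (S : Subgroup G) ≤ M) : ∃ C : Sylow p G, (C : Subgroup G) = c := by
  have h1 := (isSylIn_of_sylow_le S hS).2
  have h2 : Nat.card c = p ^ (Nat.card G).factorization p := by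
    rw [hc.2, ← h1]; exact S.card_eq_multiplicity
  exact ⟨Sylow.ofCard c h2, rfl⟩

/-- If `X ≤ M` contains a Sylow `p`-subgroup of `M`, and `c ⊓ X` is a Sylow `p`-subgroup of `X` for
a Sylow `p`-subgroup `c` of `M`, then `c ≤ X`. -/
theorem IsSylIn.le_of_inf {M X R c : Subgroup G} (hR : IsSylIn p M R) (hRX : R ≤ X) (hXM : X ≤ M)
    (hc : IsSylIn p M c) (hcX : Nat.card ↥(c ⊓ X) = p ^ (Nat.card ↥X).factorization p) : c ≤ X := by
  have h1 := (hR.of_le hRX hXM).2
  have h2 : Nat.card c ≤ Nat.card ↥(c ⊓ X) := by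
    rw [hcX, ← h1, hR.2, hc.2]
  have h3 : c ⊓ X = c := Subgroup.eq_of_le_of_card_ge inf_le_left h2
  rw [← h3]; exact inf_le_right

end

end Cfsg.Agent.Helper55
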