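import Mathlib.GroupTheory.Sylow
import Mathlib.GroupTheory.Nilpotent
import Cfsg.Prelude.Def_TwoFusion
import Cfsg.Agent.Helper55.SylIn

/-!
# helper55: an abelian strongly closed subgroup controls strong fusion
-/

set_option autoImplicit false

namespace Cfsg.Agent.Helper55

open scoped Pointwise

variable {G : Type*} [Group G]

section

variable [Finite G] {p : ℕ} [Fact p.Prime]

/-- Normalizers grow in finite `p`-groups. -/
theorem exists_mem_normalizer_not_mem {T Q : Subgroup G} (hT : IsPGroup p T) (hQT : Q < T) :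
    ∃ x ∈ T, x ∈ Subgroup.normalizer (Q : Set G) ∧ x ∉ Q := by
  have : Group.IsNilpotent ↥T := hT.isNilpotent
  have hnc : NormalizerCondition ↥T := Group.normalizerCondition_of_isNilpotent
  have hlt : Q.subgroupOf T < ⊤ := by
    rw [lt_top_iff_ne_top]
    intro h
    rw [Subgroup.subgroupOf_eq_top] at h
    exact hQT.not_ge h
  have h2 := hnc _ hlt
  obtain ⟨x, hxN, hxQ⟩ := SetLike.exists_of_lt h2
  refine ⟨x, x.2, ?_, ?_⟩
  · intro z
    constructor
    · intro hz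
      have hzT : z ∈ T := hQT.le hz
      have h3 := (hxN ⟨z, hzT⟩).mp (by
        rw [SetLike.mem_coe, Subgroup.mem_subgroupOf]; exact hz)
      rw [SetLike.mem_coe, Subgroup.mem_subgroupOf] at h3
      simpa using h3
    · intro hz
      have hzT : z ∈ T := by
        have h4 : (x : G) * z * (x : G)⁻¹ ∈ T := hQT.le hz
        have h5 := T.mul_mem (T.mul_mem (T.inv_mem x.2) h4) x.2
        simpa [mul_assoc] using h5
      have h3 := (hxN ⟨z, hzT⟩).mpr (by
        rw [SetLike.mem_coe, Subgroup.mem_subgroupOf]; simpa using hz)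
      rw [SetLike.mem_coe, Subgroup.mem_subgroupOf] at h3
      exact h3
  · intro h
    exact hxQ (by rw [Subgroup.mem_subgroupOf]; exact h)

/-- If `C ≤ K ≤ H` with `C`, `K` normal in `H` and `K / C` a `p`-group, then `K ≤ P C` for every
Sylow `p`-subgroup `P` of `H`. -/
theorem exists_mul_of_normal_pquot {H C K P : Subgroup G} (hKH : K ≤ H)
    (hCn : ∀ h ∈ H, ∀ c ∈ C, h * c * h⁻¹ ∈ C)
    (hKn : ∀ h ∈ H, ∀ k ∈ K, h * k * h⁻¹ ∈ K)
    (hpow : ∀ k ∈ K, ∃ n : ℕ, k ^ (p ^ n) ∈ C)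
    (hP : IsSylIn p H P) :
    ∀ k ∈ K, ∃ t ∈ P, ∃ c ∈ C, k = t * c := by
  intro k hk
  obtain ⟨P', hP1, hP2⟩ := hP.exists_sylow
  have hCn' : (C.subgroupOf H).Normal := ⟨fun c hc h => by
    rw [Subgroup.mem_subgroupOf] at hc ⊢
    simpa using hCn h h.2 c hc⟩
  have hKn' : (K.subgroupOf H).Normal := ⟨fun c hc h => by
    rw [Subgroup.mem_subgroupOf] at hc ⊢
    simpa using hKn h h.2 c hc⟩
  have hπ : Function.Surjective (QuotientGroup.mk' (C.subgroupOf H)) :=
    QuotientGroup.mk'_surjective _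
  have hKn'' : ((K.subgroupOf H).map (QuotientGroup.mk' (C.subgroupOf H))).Normal :=
    hKn'.map _ hπ
  have hKp : IsPGroup p ↥((K.subgroupOf H).map (QuotientGroup.mk' (C.subgroupOf H))) := by
    rintro ⟨_, ⟨x, hx, rfl⟩⟩
    rw [SetLike.mem_coe, Subgroup.mem_subgroupOf] at hx
    obtain ⟨n, hn⟩ := hpow x hx
    refine ⟨n, ?_⟩
    apply Subtype.ext
    rw [Subgroup.coe_pow, Subgroup.coe_one]
    change (QuotientGroup.mk' (C.subgroupOf H) x) ^ (p ^ n) = 1
    rw [← map_pow, QuotientGroup.mk'_apply, QuotientGroup.eq_one_iff, Subgroup.mem_subgroupOf]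
    simpa using hn
  have hle := hKp.le_sylow_of_normal (P'.mapSurjective hπ)
  have hkmem : QuotientGroup.mk' (C.subgroupOf H) ⟨k, hKH hk⟩ ∈
      (K.subgroupOf H).map (QuotientGroup.mk' (C.subgroupOf H)) :=
    Subgroup.mem_map_of_mem _ (by rw [Subgroup.mem_subgroupOf]; exact hk)
  have h3 := hle hkmem
  rw [Sylow.coe_mapSurjective] at h3
  obtain ⟨t, ht, hteq⟩ := h3
  have h4 : t⁻¹ * ⟨k, hKH hk⟩ ∈ C.subgroupOf H := QuotientGroup.eq.mp hteq
  rw [Subgroup.mem_subgroupOf] at h4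
  refine ⟨t, ?_, (t : G)⁻¹ * k, by simpa using h4, by group⟩
  rw [SetLike.mem_coe, hP1, Subgroup.mem_subgroupOf] at ht
  exact ht

end

/-! ### Strongly closed subgroups and their conjugates -/

section sc

variable {S A : Subgroup G}

theorem sc_mem_of_mem (hsc : Cfsg.IsStronglyClosed A S) {g₁ g₂ b : G}
    (h1 : b ∈ A.map (MulAut.conj g₁).toMonoidHom) (h2 : b ∈ S.map (MulAut.conj g₂).toMonoidHom) :
    b ∈ A.map (MulAut.conj g₂).toMonoidHom := by
  rw [mem_map_conj_iff] at h1 h2 ⊢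
  have e : g₂⁻¹ * g₁ * (g₁⁻¹ * b * g₁) * (g₂⁻¹ * g₁)⁻¹ = g₂⁻¹ * b * g₂ := by group
  have h3 := hsc.2 _ h1 (g₂⁻¹ * g₁) (by rw [e]; exact h2)
  rwa [e] at h3

theorem sc_eq_of_le [Finite G] (hsc : Cfsg.IsStronglyClosed A S) {g₁ g₂ : G}
    (h : A.map (MulAut.conj g₁).toMonoidHom ≤ S.map (MulAut.conj g₂).toMonoidHom) :
    A.map (MulAut.conj g₁).toMonoidHom = A.map (MulAut.conj g₂).toMonoidHom := by
  apply Subgroup.eq_of_le_of_card_ge
  · intro b hb; exact sc_mem_of_mem hsc hb (h hb)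
  · rw [card_map_conj, card_map_conj]

theorem sc_conj_mem (hsc : Cfsg.IsStronglyClosed A S) {g t b : G}
    (ht : t ∈ S.map (MulAut.conj g).toMonoidHom) (hb : b ∈ A.map (MulAut.conj g).toMonoidHom) :
    t * b * t⁻¹ ∈ A.map (MulAut.conj g).toMonoidHom := by
  have hbS : b ∈ S.map (MulAut.conj g).toMonoidHom := map_conj_mono hsc.1 g hb
  apply sc_mem_of_mem hsc (g₁ := t * g)
  · rw [mem_map_conj_iff] at hb ⊢
    have e : (t * g)⁻¹ * (t * b * t⁻¹) * (t * g) = g⁻¹ * b * g := by group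
    rw [e]; exact hb
  · exact Subgroup.mul_mem _ (Subgroup.mul_mem _ ht hbS) (Subgroup.inv_mem _ ht)

theorem sc_comm (hA : ∀ a ∈ A, ∀ b ∈ A, a * b = b * a) {g b b' : G}
    (hb : b ∈ A.map (MulAut.conj g).toMonoidHom) (hb' : b' ∈ A.map (MulAut.conj g).toMonoidHom) :
    b * b' = b' * b := by
  rw [mem_map_conj_iff] at hb hb'
  have h := hA _ hb _ hb'
  have e1 : b * b' = g * ((g⁻¹ * b * g) * (g⁻¹ * b' * g)) * g⁻¹ := by group
  have e2 : b' * b = g * ((g⁻¹ * b' * g) * (g⁻¹ * b * g)) * g⁻¹ := by group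
  rw [e1, e2, h]

end sc

/-! ### The stabilizer of the chain `Q ≥ Q ∩ B ≥ 1` -/

/-- The stabilizer in `N_G(Q)` of the chain `Q ≥ Q ∩ B ≥ 1`. -/
def chainStab (Q B : Subgroup G) : Subgroup G where
  carrier := {n | n ∈ Subgroup.normalizer (Q : Set G) ∧ (∀ q ∈ Q, n * q * n⁻¹ * q⁻¹ ∈ B) ∧
    ∀ z ∈ Q, z ∈ B → n * z * n⁻¹ = z}
  mul_mem' := by
    rintro n m ⟨hn1, hn2, hn3⟩ ⟨hm1, hm2, hm3⟩
    refine ⟨Subgroup.mul_mem _ hn1 hm1, ?_, ?_⟩
    · intro q hq
      have hd : m * q * m⁻¹ * q⁻¹ ∈ Q := Q.mul_mem ((hm1 q).mp hq) (Q.inv_mem hq)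
      have h1 := hn3 _ hd (hm2 q hq)
      have e : n * m * q * (n * m)⁻¹ * q⁻¹
          = (n * (m * q * m⁻¹ * q⁻¹) * n⁻¹) * (n * q * n⁻¹ * q⁻¹) := by group
      rw [e, h1]
      exact B.mul_mem (hm2 q hq) (hn2 q hq)
    · intro z hzQ hzB
      have e : n * m * z * (n * m)⁻¹ = n * (m * z * m⁻¹) * n⁻¹ := by group
      rw [e, hm3 z hzQ hzB, hn3 z hzQ hzB]
  one_mem' := by
    refine ⟨Subgroup.one_mem _, ?_, ?_⟩
    · intro q _
      simp
    · intro z _ _
      simp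
  inv_mem' := by
    rintro n ⟨hn1, hn2, hn3⟩
    have hn1' := Subgroup.inv_mem _ hn1
    refine ⟨hn1', ?_, ?_⟩
    · intro q hq
      have hq' : n⁻¹ * q * n ∈ Q := by
        have := (hn1' q).mp hq
        simpa using this
      have h1 := hn2 _ hq'
      have e : n * (n⁻¹ * q * n) * n⁻¹ * (n⁻¹ * q * n)⁻¹ = (n⁻¹ * q * n⁻¹⁻¹ * q⁻¹)⁻¹ := by group
      rw [e] at h1
      exact (Subgroup.inv_mem_iff _).mp h1
    · intro z hzQ hzB
      have h1 := hn3 z hzQ hzB
      calc n⁻¹ * z * n⁻¹⁻¹ = n⁻¹ * (n * z * n⁻¹) * n := by rw [h1, inv_inv]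
        _ = z := by group

theorem mem_chainStab {Q B : Subgroup G} {n : G} :
    n ∈ chainStab Q B ↔ n ∈ Subgroup.normalizer (Q : Set G) ∧ (∀ q ∈ Q, n * q * n⁻¹ * q⁻¹ ∈ B) ∧
      ∀ z ∈ Q, z ∈ B → n * z * n⁻¹ = z := Iff.rfl

theorem chainStab_le_normalizer (Q B : Subgroup G) :
    chainStab Q B ≤ Subgroup.normalizer (Q : Set G) := fun _ h => h.1

theorem centralizer_le_chainStab (Q B : Subgroup G) :
    Subgroup.centralizer (Q : Set G) ≤ chainStab Q B := by
  intro c hc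
  have hcomm : ∀ q ∈ Q, c * q * c⁻¹ = q := by
    intro q hq
    have := (Subgroup.mem_centralizer_iff.mp hc) q hq
    rw [← this]; group
  refine ⟨Subgroup.centralizer_le_normalizer _ hc, ?_, ?_⟩
  · intro q hq
    rw [hcomm q hq, mul_inv_cancel]
    exact B.one_mem
  · intro z hzQ _
    exact hcomm z hzQ

theorem conj_mem_centralizer_of_mem_normalizer {Q : Subgroup G} {h c : G}
    (hh : h ∈ Subgroup.normalizer (Q : Set G)) (hc : c ∈ Subgroup.centralizer (Q : Set G)) :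
    h * c * h⁻¹ ∈ Subgroup.centralizer (Q : Set G) := by
  rw [Subgroup.mem_centralizer_iff] at hc ⊢
  intro q hq
  have hq' : h⁻¹ * q * h ∈ Q := by
    have := ((Subgroup.inv_mem _ hh) q).mp hq
    simpa using this
  have h1 := hc _ hq'
  calc q * (h * c * h⁻¹) = h * ((h⁻¹ * q * h) * c) * h⁻¹ := by group
    _ = h * (c * (h⁻¹ * q * h)) * h⁻¹ := by rw [h1]
    _ = h * c * h⁻¹ * q := by group

theorem chainStab_conj_mem {Q B : Subgroup G}
    (hinv : ∀ h ∈ Subgroup.normalizer (Q : Set G), ∀ z ∈ Q, z ∈ B → h * z * h⁻¹ ∈ B) {h k : G}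
    (hh : h ∈ Subgroup.normalizer (Q : Set G)) (hk : k ∈ chainStab Q B) :
    h * k * h⁻¹ ∈ chainStab Q B := by
  obtain ⟨hk1, hk2, hk3⟩ := hk
  have hh' := Subgroup.inv_mem _ hh
  have hconjQ : ∀ q ∈ Q, h⁻¹ * q * h ∈ Q := by
    intro q hq
    have := (hh' q).mp hq
    simpa using this
  refine ⟨Subgroup.mul_mem _ (Subgroup.mul_mem _ hh hk1) hh', ?_, ?_⟩
  · intro q hq
    have hq' := hconjQ q hq
    have hd : k * (h⁻¹ * q * h) * k⁻¹ * (h⁻¹ * q * h)⁻¹ ∈ Q :=
      Q.mul_mem ((hk1 _).mp hq') (Q.inv_mem hq')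
    have h1 := hinv h hh _ hd (hk2 _ hq')
    have e : h * k * h⁻¹ * q * (h * k * h⁻¹)⁻¹ * q⁻¹
        = h * (k * (h⁻¹ * q * h) * k⁻¹ * (h⁻¹ * q * h)⁻¹) * h⁻¹ := by group
    rw [e]; exact h1
  · intro z hzQ hzB
    have hz' := hconjQ z hzQ
    have hzB' : h⁻¹ * z * h ∈ B := by
      have := hinv h⁻¹ hh' z hzQ hzB
      simpa using this
    have h1 := hk3 _ hz' hzB'
    calc h * k * h⁻¹ * z * (h * k * h⁻¹)⁻¹ = h * (k * (h⁻¹ * z * h) * k⁻¹) * h⁻¹ := by group
      _ = h * (h⁻¹ * z * h) * h⁻¹ := by rw [h1]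
      _ = z := by group

theorem chainStab_pow_mem [Finite G] {p : ℕ} [Fact p.Prime] {Q B : Subgroup G} (hQ : IsPGroup p ↥Q)
    {k : G} (hk : k ∈ chainStab Q B) :
    ∃ n : ℕ, k ^ (p ^ n) ∈ Subgroup.centralizer (Q : Set G) := by
  obtain ⟨hk1, hk2, hk3⟩ := hk
  obtain ⟨n, hn⟩ := (hQ.to_le (inf_le_left : Q ⊓ B ≤ Q)).exists_card_eq
  refine ⟨n, ?_⟩
  rw [Subgroup.mem_centralizer_iff]
  intro q hq
  have hdQ : k * q * k⁻¹ * q⁻¹ ∈ Q := Q.mul_mem ((hk1 q).mp hq) (Q.inv_mem hq)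
  have hdB := hk2 q hq
  have hcomm : k * (k * q * k⁻¹ * q⁻¹) * k⁻¹ = k * q * k⁻¹ * q⁻¹ := hk3 _ hdQ hdB
  have hcomm' : Commute k (k * q * k⁻¹ * q⁻¹) := by
    have : k * (k * q * k⁻¹ * q⁻¹) = (k * q * k⁻¹ * q⁻¹) * k := by
      calc k * (k * q * k⁻¹ * q⁻¹) = (k * (k * q * k⁻¹ * q⁻¹) * k⁻¹) * k := by group
        _ = (k * q * k⁻¹ * q⁻¹) * k := by rw [hcomm]
    exact this
  have key : ∀ m : ℕ, k ^ m * q * (k ^ m)⁻¹ = (k * q * k⁻¹ * q⁻¹) ^ m * q := by
    intro m
    induction m with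
    | zero => simp
    | succ m ih =>
      have hc2 : k * (k * q * k⁻¹ * q⁻¹) ^ m = (k * q * k⁻¹ * q⁻¹) ^ m * k :=
        (hcomm'.pow_right m).eq
      calc k ^ (m + 1) * q * (k ^ (m + 1))⁻¹ = k * (k ^ m * q * (k ^ m)⁻¹) * k⁻¹ := by
            rw [pow_succ']; group
        _ = k * ((k * q * k⁻¹ * q⁻¹) ^ m * q) * k⁻¹ := by rw [ih]
        _ = (k * (k * q * k⁻¹ * q⁻¹) ^ m) * q * k⁻¹ := by group
        _ = (k * q * k⁻¹ * q⁻¹) ^ m * k * q * k⁻¹ := by rw [hc2]
        _ = (k * q * k⁻¹ * q⁻¹) ^ m * ((k * q * k⁻¹ * q⁻¹) * q) := by group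
        _ = (k * q * k⁻¹ * q⁻¹) ^ (m + 1) * q := by rw [pow_succ]; simp only [mul_assoc]
  have h1 : (k * q * k⁻¹ * q⁻¹) ^ (p ^ n) = 1 := by
    rw [← hn]
    exact orderOf_dvd_iff_pow_eq_one.mp
      (Subgroup.orderOf_dvd_natCard (Q ⊓ B) (Subgroup.mem_inf.mpr ⟨hdQ, hdB⟩))
  have h2 := key (p ^ n)
  rw [h1, one_mul] at h2
  calc q * k ^ (p ^ n) = (k ^ (p ^ n) * q * (k ^ (p ^ n))⁻¹) * k ^ (p ^ n) := by rw [h2]
    _ = k ^ (p ^ n) * q := by group

/-- Two conjugates of an abelian strongly closed subgroup `A` of a Sylow `p`-subgroup `S`, taken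
along with `S`, whose Sylow subgroups both contain `Q`, are conjugate under `C_G(Q)`. -/
theorem sc_main [Finite G] {p : ℕ} [Fact p.Prime] (S : Sylow p G) {A : Subgroup G}
    (hA : ∀ a ∈ A, ∀ b ∈ A, a * b = b * a)
    (hsc : Cfsg.IsStronglyClosed A (S : Subgroup G)) (Q : Subgroup G) :
    ∀ g₁ g₂ : G, Q ≤ (S : Subgroup G).map (MulAut.conj g₁).toMonoidHom →
      Q ≤ (S : Subgroup G).map (MulAut.conj g₂).toMonoidHom →
      ∃ c ∈ Subgroup.centralizer (Q : Set G),
        A.map (MulAut.conj (c * g₁)).toMonoidHom = A.map (MulAut.conj g₂).toMonoidHom := by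
  induction Q using WellFoundedGT.induction with
  | ind Q ih =>
  have hSp : ∀ g : G, IsPGroup p ↥((S : Subgroup G).map (MulAut.conj g).toMonoidHom) :=
    fun g => S.isPGroup'.map _
  -- Step 1: the case where `N_{T g₂}(Q)` is a Sylow subgroup of `N_G(Q)`
  have key : ∀ g₁ g₂ : G, Q ≤ (S : Subgroup G).map (MulAut.conj g₁).toMonoidHom →
      Q ≤ (S : Subgroup G).map (MulAut.conj g₂).toMonoidHom →
      IsSylIn p (Subgroup.normalizer (Q : Set G))
        ((S : Subgroup G).map (MulAut.conj g₂).toMonoidHom ⊓ Subgroup.normalizer (Q : Set G)) →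
      ∃ c ∈ Subgroup.centralizer (Q : Set G),
        A.map (MulAut.conj (c * g₁)).toMonoidHom = A.map (MulAut.conj g₂).toMonoidHom := by
    intro g₁ g₂ h1 h2 hsyl
    by_cases hBQ : A.map (MulAut.conj g₁).toMonoidHom ≤ Q
    · refine ⟨1, Subgroup.one_mem _, ?_⟩
      rw [one_mul]
      exact sc_eq_of_le hsc (hBQ.trans h2)
    · -- an element of `B g₁` normalizing `Q`, outside `Q`
      obtain ⟨b, hbB, hbN, hbQ⟩ : ∃ b ∈ A.map (MulAut.conj g₁).toMonoidHom,
          b ∈ Subgroup.normalizer (Q : Set G) ∧ b ∉ Q := by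
        have hQn : Q ≤ Subgroup.normalizer
            ((A.map (MulAut.conj g₁).toMonoidHom : Subgroup G) : Set G) := by
          intro q hq z
          constructor
          · intro hz; exact sc_conj_mem hsc (h1 hq) hz
          · intro hz
            have := sc_conj_mem hsc (Subgroup.inv_mem _ (h1 hq)) hz
            simpa [mul_assoc] using this
        have hlt : Q < Q ⊔ A.map (MulAut.conj g₁).toMonoidHom := by
          refine lt_of_le_of_ne le_sup_left ?_
          intro h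
          exact hBQ (le_sup_right.trans h.ge)
        have hTp : IsPGroup p ↥(Q ⊔ A.map (MulAut.conj g₁).toMonoidHom) :=
          (hSp g₁).to_le (sup_le h1 (map_conj_mono hsc.1 g₁))
        obtain ⟨x, hxT, hxN, hxQ⟩ := exists_mem_normalizer_not_mem hTp hlt
        have hx' : x ∈ ((Q ⊔ A.map (MulAut.conj g₁).toMonoidHom : Subgroup G) : Set G) := hxT
        rw [Subgroup.coe_mul_of_left_le_normalizer_right Q _ hQn] at hx'
        obtain ⟨q, hq, b, hb, rfl⟩ := hx'
        refine ⟨b, hb, ?_, ?_⟩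
        · have := Subgroup.mul_mem _ (Subgroup.inv_mem _ (Subgroup.le_normalizer hq)) hxN
          simpa using this
        · intro hbQ
          exact hxQ (Q.mul_mem hq hbQ)
      have hinv : ∀ h ∈ Subgroup.normalizer (Q : Set G), ∀ z ∈ Q,
          z ∈ A.map (MulAut.conj g₂).toMonoidHom →
          h * z * h⁻¹ ∈ A.map (MulAut.conj g₂).toMonoidHom := by
        intro h hh z hzQ hzB
        have hzQ' : h * z * h⁻¹ ∈ Q := (hh z).mp hzQ
        refine sc_mem_of_mem hsc (g₁ := h * g₂) ?_ (h2 hzQ')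
        rw [mem_map_conj_iff] at hzB ⊢
        have e : (h * g₂)⁻¹ * (h * z * h⁻¹) * (h * g₂) = g₂⁻¹ * z * g₂ := by group
        rw [e]; exact hzB
      have hbK : b ∈ chainStab Q (A.map (MulAut.conj g₂).toMonoidHom) := by
        refine ⟨hbN, ?_, ?_⟩
        · intro q hq
          have hq1 : b * q * b⁻¹ * q⁻¹ ∈ Q := Q.mul_mem ((hbN q).mp hq) (Q.inv_mem hq)
          refine sc_mem_of_mem hsc (g₁ := g₁) ?_ (h2 hq1)
          have h3 : q * b⁻¹ * q⁻¹ ∈ A.map (MulAut.conj g₁).toMonoidHom :=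
            sc_conj_mem hsc (h1 hq) (Subgroup.inv_mem _ hbB)
          have h4 := Subgroup.mul_mem _ hbB h3
          simpa [mul_assoc] using h4
        · intro z hzQ hzB
          have hz1 : z ∈ A.map (MulAut.conj g₁).toMonoidHom := sc_mem_of_mem hsc hzB (h1 hzQ)
          have h3 := sc_comm hA hbB hz1
          rw [h3]; group
      have hQp : IsPGroup p ↥Q := (hSp g₁).to_le h1
      obtain ⟨t, ht, c₀, hc₀, hbt⟩ := exists_mul_of_normal_pquot
        (chainStab_le_normalizer Q (A.map (MulAut.conj g₂).toMonoidHom))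
        (fun h hh c hc => conj_mem_centralizer_of_mem_normalizer hh hc)
        (fun h hh k hk => chainStab_conj_mem hinv hh hk)
        (fun k hk => chainStab_pow_mem hQp hk) hsyl b hbK
      -- Sylow's theorem in `P C_G(Q)`
      have hPC : (S : Subgroup G).map (MulAut.conj g₂).toMonoidHom ⊓
          Subgroup.normalizer (Q : Set G) ≤
          Subgroup.normalizer ((Subgroup.centralizer (Q : Set G) : Subgroup G) : Set G) := by
        rw [Subgroup.le_normalizer_iff]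
        intro x hx c hc
        exact conj_mem_centralizer_of_mem_normalizer hx.2 hc
      have hL := hsyl.of_le (X := (S : Subgroup G).map (MulAut.conj g₂).toMonoidHom ⊓
          Subgroup.normalizer (Q : Set G) ⊔ Subgroup.centralizer (Q : Set G)) le_sup_left
          (sup_le inf_le_right (Subgroup.centralizer_le_normalizer _))
      have hzb : Subgroup.zpowers b ≤ (S : Subgroup G).map (MulAut.conj g₂).toMonoidHom ⊓
          Subgroup.normalizer (Q : Set G) ⊔ Subgroup.centralizer (Q : Set G) := by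
        rw [Subgroup.zpowers_le, hbt]
        exact Subgroup.mul_mem _ (Subgroup.mem_sup_left ht) (Subgroup.mem_sup_right hc₀)
      have hzp : IsPGroup p ↥(Subgroup.zpowers b) :=
        (hSp g₁).to_le (by
          rw [Subgroup.zpowers_le]; exact map_conj_mono hsc.1 g₁ hbB)
      obtain ⟨E, hE, hbE⟩ := exists_isSylIn_ge hzb hzp
      obtain ⟨m, hm, hPE⟩ := hE.exists_conj hL
      have hm' : m ∈ (((S : Subgroup G).map (MulAut.conj g₂).toMonoidHom ⊓
          Subgroup.normalizer (Q : Set G) ⊔ Subgroup.centralizer (Q : Set G) : Subgroup G) :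
          Set G) := hm
      rw [Subgroup.coe_mul_of_left_le_normalizer_right _ _ hPC] at hm'
      obtain ⟨t', ht', c, hc, rfl⟩ := hm'
      have hcb : c * b * c⁻¹ ∈ (S : Subgroup G).map (MulAut.conj g₂).toMonoidHom ⊓
          Subgroup.normalizer (Q : Set G) := by
        have h5 : (t' * c) * b * (t' * c)⁻¹ ∈ (S : Subgroup G).map (MulAut.conj g₂).toMonoidHom ⊓
            Subgroup.normalizer (Q : Set G) := by
          rw [hPE, mem_map_conj_iff]
          have : b ∈ E := hbE (Subgroup.mem_zpowers b)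
          simpa [mul_assoc] using this
        have h6 := Subgroup.mul_mem _ (Subgroup.mul_mem _ (Subgroup.inv_mem _ ht') h5) ht'
        simpa [mul_assoc] using h6
      have hcQ : ∀ q ∈ Q, c⁻¹ * q * c = q := by
        intro q hq
        have := (Subgroup.mem_centralizer_iff.mp hc) q hq
        rw [mul_assoc, this]; group
      have hQlt : Q < Q ⊔ Subgroup.zpowers (c * b * c⁻¹) := by
        refine lt_of_le_of_ne le_sup_left ?_
        intro h
        have h7 : c * b * c⁻¹ ∈ Q := h.ge (Subgroup.mem_sup_right (Subgroup.mem_zpowers _))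
        have h8 := hcQ _ h7
        apply hbQ
        have e : c⁻¹ * (c * b * c⁻¹) * c = b := by group
        rw [e] at h8
        rw [h8]; exact h7
      have h1' : Q ⊔ Subgroup.zpowers (c * b * c⁻¹) ≤
          (S : Subgroup G).map (MulAut.conj (c * g₁)).toMonoidHom := by
        apply sup_le
        · intro q hq
          rw [mem_map_conj_iff]
          have h3 := h1 hq
          rw [mem_map_conj_iff] at h3
          have e : (c * g₁)⁻¹ * q * (c * g₁) = g₁⁻¹ * (c⁻¹ * q * c) * g₁ := by group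
          rw [e, hcQ q hq]; exact h3
        · rw [Subgroup.zpowers_le, mem_map_conj_iff]
          have h3 := map_conj_mono hsc.1 g₁ hbB
          rw [mem_map_conj_iff] at h3
          have e : (c * g₁)⁻¹ * (c * b * c⁻¹) * (c * g₁) = g₁⁻¹ * b * g₁ := by group
          rw [e]; exact h3
      have h2' : Q ⊔ Subgroup.zpowers (c * b * c⁻¹) ≤
          (S : Subgroup G).map (MulAut.conj g₂).toMonoidHom :=
        sup_le h2 (by rw [Subgroup.zpowers_le]; exact hcb.1)
      obtain ⟨c', hc', hc'eq⟩ := ih _ hQlt (c * g₁) g₂ h1' h2'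
      refine ⟨c' * c, Subgroup.mul_mem _
        (Subgroup.centralizer_le (SetLike.coe_subset_coe.mpr le_sup_left) hc') hc, ?_⟩
      rw [mul_assoc]; exact hc'eq
  -- Step 2: the general case
  intro g₁ g₂ h1 h2
  have hQp : IsPGroup p ↥Q := (hSp g₁).to_le h1
  obtain ⟨E, hE, hQE⟩ := exists_isSylIn_ge (M := Subgroup.normalizer (Q : Set G)) (R := Q)
    Subgroup.le_normalizer hQp
  obtain ⟨S', hS'⟩ := hE.isPGroup.exists_le_sylow
  obtain ⟨k, hk⟩ := MulAction.exists_smul_eq G S S'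
  have hEk : E ≤ (S : Subgroup G).map (MulAut.conj k).toMonoidHom := by
    rw [← sylow_smul_coe, hk]; exact hS'
  have hEeq : E = (S : Subgroup G).map (MulAut.conj k).toMonoidHom ⊓
      Subgroup.normalizer (Q : Set G) :=
    hE.eq_of_le (le_inf hEk hE.1) inf_le_right ((hSp k).to_le inf_le_left)
  have hE' : IsSylIn p (Subgroup.normalizer (Q : Set G))
      ((S : Subgroup G).map (MulAut.conj k).toMonoidHom ⊓ Subgroup.normalizer (Q : Set G)) := by
    rw [← hEeq]; exact hE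
  have hQk : Q ≤ (S : Subgroup G).map (MulAut.conj k).toMonoidHom := hQE.trans hEk
  obtain ⟨c₁, hc₁, e₁⟩ := key g₁ k h1 hQk hE'
  obtain ⟨c₂, hc₂, e₂⟩ := key g₂ k h2 hQk hE'
  refine ⟨c₂⁻¹ * c₁, Subgroup.mul_mem _ (Subgroup.inv_mem _ hc₂) hc₁, ?_⟩
  rw [mul_assoc, ← map_conj_map_conj, e₁, ← e₂, map_conj_map_conj, inv_mul_cancel_left]

end Cfsg.Agent.Helper55
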