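import Mathlib

/-! Abstract index-2 lemma for clause 3 of S2951: `Z₀ = {1, z, z₁, z z₁}` a four-group,
`x ∈ N_G(Z₀)` moving `z₁`, `z` not `G`-conjugate to `z₁`, `C_G(Z₀) ≤ L`
⟹ `|N_G(Z₀) : L ∩ C_G(Z₀)| = 2`. -/

set_option autoImplicit false

namespace Cfsg.Agent.Helper55.JzIndex

universe u

variable {G : Type u} [Group G]

/-- a subgroup of order 4 containing distinct involutions `z, z₁` is `{1, z, z₁, z z₁}` -/
theorem mem_four [Finite G] (Z₀ : Subgroup G) (z z₁ : G) (hcard : Nat.card ↥Z₀ = 4)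
    (hz : z ∈ Z₀) (hz₁ : z₁ ∈ Z₀) (hz1 : z ≠ 1) (hz₁1 : z₁ ≠ 1) (hne : z ≠ z₁)
    (hz₁sq : z₁ * z₁ = 1) :
    ∀ y ∈ Z₀, y = 1 ∨ y = z ∨ y = z₁ ∨ y = z * z₁ := by
  classical
  intro y hy
  by_contra hcon
  push_neg at hcon
  obtain ⟨h1, h2, h3, h4⟩ := hcon
  have hzz₁ : z * z₁ ∈ Z₀ := Z₀.mul_mem hz hz₁
  have e1 : z * z₁ ≠ 1 := by
    intro h
    apply hne
    calc z = z * (z₁ * z₁) := by rw [hz₁sq, mul_one]
      _ = (z * z₁) * z₁ := by group
      _ = z₁ := by rw [h, one_mul]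
  have e2 : z * z₁ ≠ z := by
    intro h
    apply hz₁1
    calc z₁ = z⁻¹ * (z * z₁) := by group
      _ = 1 := by rw [h]; group
  have e3 : z * z₁ ≠ z₁ := by
    intro h
    apply hz1
    calc z = (z * z₁) * z₁⁻¹ := by group
      _ = 1 := by rw [h]; group
  have : Fintype ↥Z₀ := Fintype.ofFinite _
  let s : Finset ↥Z₀ := {⟨1, Z₀.one_mem⟩, ⟨z, hz⟩, ⟨z₁, hz₁⟩, ⟨z * z₁, hzz₁⟩, ⟨y, hy⟩}
  have hs : s.card = 5 := by
    rw [Finset.card_insert_of_notMem, Finset.card_insert_of_notMem,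
      Finset.card_insert_of_notMem, Finset.card_insert_of_notMem, Finset.card_singleton]
    · simp only [Finset.mem_singleton, Subtype.mk.injEq]
      exact fun h => h4 h.symm
    · simp only [Finset.mem_insert, Finset.mem_singleton, Subtype.mk.injEq]
      rintro (h | h)
      · exact e3 h.symm
      · exact h3 h.symm
    · simp only [Finset.mem_insert, Finset.mem_singleton, Subtype.mk.injEq]
      rintro (h | h | h)
      · exact hne h
      · exact e2 h.symm
      · exact h2 h.symm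
    · simp only [Finset.mem_insert, Finset.mem_singleton, Subtype.mk.injEq]
      rintro (h | h | h | h)
      · exact hz1 h.symm
      · exact hz₁1 h.symm
      · exact e1 h.symm
      · exact h1 h.symm
  have hle : s.card ≤ Fintype.card ↥Z₀ := Finset.card_le_univ s
  rw [hs, ← Nat.card_eq_fintype_card, hcard] at hle
  omega

/-- the index-2 lemma -/
theorem relIndex_eq_two (L Z₀ : Subgroup G) (z z₁ x : G)
    (hZ₀ : ∀ y ∈ Z₀, y = 1 ∨ y = z ∨ y = z₁ ∨ y = z * z₁)
    (hz : z ∈ Z₀) (hz₁ : z₁ ∈ Z₀) (hz1 : z ≠ 1) (hz₁1 : z₁ ≠ 1) (hne : z ≠ z₁)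
    (hzsq : z * z = 1)
    (hCL : Subgroup.centralizer (Z₀ : Set G) ≤ L)
    (hx : x ∈ Subgroup.normalizer (Z₀ : Set G)) (hxz₁ : x * z₁ * x⁻¹ ≠ z₁)
    (hfus : ∀ g : G, g * z * g⁻¹ ≠ z₁) :
    (L ⊓ Subgroup.centralizer (Z₀ : Set G)).relIndex (Subgroup.normalizer (Z₀ : Set G)) = 2 := by
  have hconj : ∀ n ∈ Subgroup.normalizer (Z₀ : Set G), ∀ y ∈ Z₀, n * y * n⁻¹ ∈ Z₀ :=
    fun n hn y hy => (Subgroup.mem_normalizer_iff.mp hn y).mp hy
  have hinj : ∀ n a b : G, n * a * n⁻¹ = n * b * n⁻¹ → a = b := by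
    intro n a b h
    calc a = n⁻¹ * (n * a * n⁻¹) * n := by group
      _ = n⁻¹ * (n * b * n⁻¹) * n := by rw [h]
      _ = b := by group
  -- step 1
  have h1 : x * z₁ * x⁻¹ = z * z₁ := by
    rcases hZ₀ _ (hconj x hx z₁ hz₁) with h | h | h | h
    · exfalso
      apply hz₁1
      apply hinj x
      rw [h]
      group
    · exfalso
      apply hfus x⁻¹
      rw [← h]
      group
    · exact absurd h hxz₁
    · exact h
  -- step 2
  have h2 : ∀ n ∈ Subgroup.normalizer (Z₀ : Set G), n * z * n⁻¹ = z := by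
    intro n hn
    rcases hZ₀ _ (hconj n hn z hz) with h | h | h | h
    · exfalso
      apply hz1
      apply hinj n
      rw [h]
      group
    · exact h
    · exact absurd h (hfus n)
    · exfalso
      apply hfus (x⁻¹ * n)
      have e : x⁻¹ * n * z * (x⁻¹ * n)⁻¹ = x⁻¹ * (n * z * n⁻¹) * x := by group
      rw [e, h, ← h1]
      group
  -- step 3
  have h3 : ∀ n ∈ Subgroup.normalizer (Z₀ : Set G), n * z₁ * n⁻¹ = z₁ ∨ n * z₁ * n⁻¹ = z * z₁ := by
    intro n hn
    rcases hZ₀ _ (hconj n hn z₁ hz₁) with h | h | h | h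
    · exfalso
      apply hz₁1
      apply hinj n
      rw [h]
      group
    · exfalso
      apply hne
      apply hinj n
      rw [h2 n hn, h]
    · exact Or.inl h
    · exact Or.inr h
  -- step 4
  have h4 : ∀ n ∈ Subgroup.normalizer (Z₀ : Set G), n * z₁ * n⁻¹ = z₁ →
      n ∈ Subgroup.centralizer (Z₀ : Set G) := by
    intro n hn hnz₁
    have c1 : z * n = n * z := by
      calc z * n = (n * z * n⁻¹) * n := by rw [h2 n hn]
        _ = n * z := by group
    have c2 : z₁ * n = n * z₁ := by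
      calc z₁ * n = (n * z₁ * n⁻¹) * n := by rw [hnz₁]
        _ = n * z₁ := by group
    rw [Subgroup.mem_centralizer_iff]
    intro y hy
    rcases hZ₀ y hy with rfl | rfl | rfl | rfl
    · rw [one_mul, mul_one]
    · exact c1
    · exact c2
    · calc z * z₁ * n = z * (z₁ * n) := by group
        _ = z * (n * z₁) := by rw [c2]
        _ = (z * n) * z₁ := by group
        _ = n * z * z₁ := by rw [c1]
        _ = n * (z * z₁) := by group
  rw [Subgroup.relIndex_eq_two_iff_exists_notMem_and]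
  refine ⟨x, hx, ?_, ?_⟩
  · intro hxm
    apply hxz₁
    have hc := (Subgroup.mem_centralizer_iff.mp hxm.2) z₁ hz₁
    calc x * z₁ * x⁻¹ = (z₁ * x) * x⁻¹ := by rw [hc]
      _ = z₁ := by group
  · intro b hb
    rcases h3 b hb with h | h
    · right
      have hc := h4 b hb h
      exact ⟨hCL hc, hc⟩
    · left
      have hbx : b * x ∈ Subgroup.normalizer (Z₀ : Set G) := Subgroup.mul_mem _ hb hx
      have e : b * x * z₁ * (b * x)⁻¹ = z₁ := by
        calc b * x * z₁ * (b * x)⁻¹ = b * (x * z₁ * x⁻¹) * b⁻¹ := by group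
          _ = b * (z * z₁) * b⁻¹ := by rw [h1]
          _ = (b * z * b⁻¹) * (b * z₁ * b⁻¹) := by group
          _ = z * (z * z₁) := by rw [h2 b hb, h]
          _ = (z * z) * z₁ := by group
          _ = z₁ := by rw [hzsq, one_mul]
      have hc := h4 (b * x) hbx e
      exact ⟨hCL hc, hc⟩

end Cfsg.Agent.Helper55.JzIndex
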