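import Mathlib
import Cfsg.Agent.H72.BaerDefs
import Cfsg.Agent.H72.BaerBasic

/-!
# S4125 team project, piece T11 (helper55): `p = 2`, Sylow `2`-subgroup `P` noncyclic

`solvable_two_core` is the assembly with the pieces T5, T6, T8, T9, T10 passed as hypotheses
(specialised to the objects at hand).
-/

set_option autoImplicit false

namespace Cfsg.Agent.Helper55.Baer

open Cfsg.Agent.H72.BaerT

universe u

variable {V : Type u} [CommGroup V]

/-- image of a subgroup under an automorphism -/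
def img (g : MulAut V) (U : Subgroup V) : Subgroup V := U.map (g : V ≃* V).toMonoidHom

theorem mem_img {g : MulAut V} {U : Subgroup V} {x : V} : x ∈ img g U ↔ ∃ u ∈ U, g u = x :=
  Subgroup.mem_map

theorem img_one (U : Subgroup V) : img 1 U = U := by
  ext x
  rw [mem_img]
  constructor
  · rintro ⟨u, hu, rfl⟩; exact hu
  · intro hx; exact ⟨x, hx, rfl⟩

theorem img_mul (g k : MulAut V) (U : Subgroup V) : img (g * k) U = img g (img k U) := by
  ext x
  rw [mem_img, mem_img]
  constructor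
  · rintro ⟨u, hu, rfl⟩
    exact ⟨k u, mem_img.mpr ⟨u, hu, rfl⟩, rfl⟩
  · rintro ⟨w, hw, rfl⟩
    obtain ⟨u, hu, rfl⟩ := mem_img.mp hw
    exact ⟨u, hu, rfl⟩

theorem img_eq_of_inv {C : Subgroup (MulAut V)} {U : Subgroup V} (hU : Inv C U) {x : MulAut V}
    (hx : x ∈ C) : img x U = U := by
  ext v
  rw [mem_img]
  constructor
  · rintro ⟨u, hu, rfl⟩; exact hU x hx u hu
  · intro hv
    refine ⟨x⁻¹ v, hU x⁻¹ (C.inv_mem hx) v hv, ?_⟩
    exact MulAut.apply_inv_self _ x v

theorem card_img (g : MulAut V) (U : Subgroup V) : Nat.card (img g U) = Nat.card U :=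
  Subgroup.card_map_of_injective (MulEquiv.injective g)

theorem img_ne_bot (g : MulAut V) {U : Subgroup V} (hU : U ≠ ⊥) : img g U ≠ ⊥ := by
  intro h0
  apply hU
  rw [eq_bot_iff]
  intro u hu
  have h1 : g u ∈ img g U := mem_img.mpr ⟨u, hu, rfl⟩
  rw [h0, Subgroup.mem_bot] at h1
  rw [Subgroup.mem_bot]
  have h2 : g u = g 1 := by rw [h1, map_one]
  exact MulEquiv.injective g h2

theorem inv_img_of_conj {c b : MulAut V} {U : Subgroup V}
    (hU : Inv (Subgroup.zpowers c) U)
    (hn : ∀ x ∈ Subgroup.zpowers c, b⁻¹ * x * b ∈ Subgroup.zpowers c) :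
    Inv (Subgroup.zpowers c) (img b U) := by
  intro x hx w hw
  obtain ⟨u, hu, rfl⟩ := mem_img.mp hw
  refine mem_img.mpr ⟨(b⁻¹ * x * b) u, hU _ (hn x hx) u hu, ?_⟩
  show b (b⁻¹ (x (b u))) = x (b u)
  exact MulAut.apply_inv_self _ b _

variable [Finite V] {q : ℕ} {A P : Subgroup (MulAut V)}

/-- T11 with the other pieces as hypotheses. -/
theorem solvable_two_core (h : MC 2 q V A P) (hnc : ¬ IsCyclic P)
    (T5 : ∀ {ι : Type} [Fintype ι], Fintype.card ι = 2 → ∀ (W : ι → Subgroup V),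
      (∀ i, W i ≠ ⊥) →
      (∀ (f : ι → V), (∀ i, f i ∈ W i) → (∏ i, f i = 1) → ∀ i, f i = 1) →
      (∀ g ∈ P, ∀ i, ∃ j, (W i).map (g : V ≃* V).toMonoidHom = W j) →
      (∀ i j, ∃ g ∈ P, (W i).map (g : V ≃* V).toMonoidHom = W j) → Group.IsSolvable A)
    (T6 : ∀ (E : Subgroup (MulAut V)), NormalIn E P → Nat.card E = 2 ^ 2 →
      (∀ e ∈ E, e ^ 2 = 1) → Group.IsSolvable A)
    (T8 : q ≠ 2 → (∀ v : V, v ^ q = 1) → ∀ (c b : MulAut V) (m e : ℕ), 2 ≤ m →
      orderOf c = 2 ^ m → e % 4 = 3 → (e * e) % 2 ^ m = 1 → b * c * b⁻¹ = c ^ e →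
      Irr (Subgroup.zpowers c) → Nat.card V ∣ q ^ 2)
    (T9 : (∀ v : V, v ^ q = 1) → Nat.card V ∣ q ^ 2 → Group.IsSolvable A)
    (T10 : (¬ ∃ E : Subgroup P, E.Normal ∧ Nat.card E = 4 ∧ ∀ e ∈ E, e ^ 2 = 1) →
      ∃ (c b : P) (m e : ℕ), 2 ≤ m ∧ orderOf c = 2 ^ m ∧ e % 4 = 3 ∧ (e * e) % 2 ^ m = 1 ∧
        b * c * b⁻¹ = c ^ e ∧ b ^ 2 ∈ Subgroup.zpowers c ∧
        ∀ x : P, x ∈ Subgroup.zpowers c ∨ b⁻¹ * x ∈ Subgroup.zpowers c) :
    Group.IsSolvable A := by
  classical
  by_cases hE : ∃ E : Subgroup P, E.Normal ∧ Nat.card E = 4 ∧ ∀ e ∈ E, e ^ 2 = 1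
  · obtain ⟨E', hEn, hEc, hEe⟩ := hE
    refine T6 (E'.map P.subtype) ⟨Subgroup.map_subtype_le E', ?_⟩ ?_ ?_
    · rintro a ha _ ⟨n, hn, rfl⟩
      exact ⟨⟨a, ha⟩ * n * ⟨a, ha⟩⁻¹, hEn.conj_mem n hn ⟨a, ha⟩, rfl⟩
    · rw [Subgroup.card_map_of_injective P.subtype_injective, hEc]; norm_num
    · rintro _ ⟨n, hn, rfl⟩
      have h2 := congrArg Subtype.val (hEe n hn)
      simpa using h2
  · obtain ⟨c, b, m, e, hm, hc, he4, he2, hbc, hb2, hcov⟩ := T10 hE
    have hPne : P ≠ ⊥ := by
      rintro rfl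
      exact hnc (isCyclic_of_subsingleton)
    have hq2 : q ≠ 2 := (h.p_ne_q hPne).symm
    have hexp : ∀ v : V, v ^ q = 1 := h.exp
    have hc' : orderOf (c : MulAut V) = 2 ^ m := by rw [Subgroup.orderOf_coe]; exact hc
    have hbc' : (b : MulAut V) * (c : MulAut V) * (b : MulAut V)⁻¹ = (c : MulAut V) ^ e := by
      have := congrArg Subtype.val hbc
      simpa using this
    have hcoe : ∀ y : P, y ∈ Subgroup.zpowers c →
        (y : MulAut V) ∈ Subgroup.zpowers (c : MulAut V) := by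
      intro y hy
      obtain ⟨k, hk⟩ := Subgroup.mem_zpowers_iff.mp hy
      refine Subgroup.mem_zpowers_iff.mpr ⟨k, ?_⟩
      rw [← hk]; simp
    by_cases hirr : Irr (Subgroup.zpowers (c : MulAut V))
    · exact T9 hexp (T8 hq2 hexp c b m e hm hc' he4 he2 hbc' hirr)
    · -- blocks `U`, `b U`
      have hbc2 : (b : MulAut V)⁻¹ * (c : MulAut V) * (b : MulAut V) = (c : MulAut V) ^ e := by
        have h1 : (b : MulAut V) * (c : MulAut V) ^ e * (b : MulAut V)⁻¹ = (c : MulAut V) := by
          rw [← conj_pow, hbc', ← pow_mul, ← pow_mod_orderOf, hc', he2, pow_one]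
        calc (b : MulAut V)⁻¹ * (c : MulAut V) * (b : MulAut V)
            = (b : MulAut V)⁻¹ * ((b : MulAut V) * (c : MulAut V) ^ e * (b : MulAut V)⁻¹) *
                (b : MulAut V) := by rw [h1]
          _ = (c : MulAut V) ^ e := by group
      have hnorm : ∀ x ∈ Subgroup.zpowers (c : MulAut V),
          (b : MulAut V)⁻¹ * x * (b : MulAut V) ∈ Subgroup.zpowers (c : MulAut V) := by
        intro x hx
        obtain ⟨k, rfl⟩ := Subgroup.mem_zpowers_iff.mp hx
        have h1 : (b : MulAut V)⁻¹ * (c : MulAut V) ^ k * (b : MulAut V) =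
            ((c : MulAut V) ^ e) ^ k := by
          rw [← hbc2]
          have h2 := conj_zpow (a := (b : MulAut V)⁻¹) (b := (c : MulAut V)) (i := k)
          rw [inv_inv] at h2
          exact h2.symm
        rw [h1]
        exact Subgroup.zpow_mem _ (Subgroup.pow_mem _ (Subgroup.mem_zpowers _) e) k
      have hb2' : (b : MulAut V) * (b : MulAut V) ∈ Subgroup.zpowers (c : MulAut V) := by
        have := hcoe _ hb2
        rw [pow_two] at this
        simpa using this
      have hcov' : ∀ x ∈ P, x ∈ Subgroup.zpowers (c : MulAut V) ∨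
          (b : MulAut V)⁻¹ * x ∈ Subgroup.zpowers (c : MulAut V) := by
        intro x hx
        rcases hcov ⟨x, hx⟩ with h1 | h1
        · left; exact hcoe _ h1
        · right
          have := hcoe _ h1
          simpa using this
      simp only [Irr] at hirr
      push Not at hirr
      obtain ⟨W₀, hWinv, hW0, hW1⟩ := hirr
      let S : Set (Subgroup V) := {U | Inv (Subgroup.zpowers (c : MulAut V)) U ∧ U ≠ ⊥}
      obtain ⟨U, hUS, hUmin⟩ := WellFounded.has_min
        (measure (fun U : Subgroup V => Nat.card U)).wf S ⟨W₀, hWinv, hW0⟩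
      obtain ⟨hUinv, hU0⟩ := hUS
      have hUmin' : ∀ T : Subgroup V, Inv (Subgroup.zpowers (c : MulAut V)) T → T ≠ ⊥ →
          Nat.card U ≤ Nat.card T := by
        intro T hT hT0
        by_contra hlt
        push Not at hlt
        exact hUmin T ⟨hT, hT0⟩ hlt
      have hbUinv : Inv (Subgroup.zpowers (c : MulAut V)) (img (b : MulAut V) U) :=
        inv_img_of_conj hUinv hnorm
      have hbb : img (b : MulAut V) (img (b : MulAut V) U) = U := by
        rw [← img_mul]
        exact img_eq_of_inv hUinv hb2'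
      have hinf : U ⊓ img (b : MulAut V) U = ⊥ := by
        by_contra hne
        have hTinv : Inv (Subgroup.zpowers (c : MulAut V)) (U ⊓ img (b : MulAut V) U) :=
          fun x hx w hw => ⟨hUinv x hx w hw.1, hbUinv x hx w hw.2⟩
        have hle := hUmin' _ hTinv hne
        have hUT : U ⊓ img (b : MulAut V) U = U := Subgroup.eq_of_le_of_card_ge
          (inf_le_left : U ⊓ img (b : MulAut V) U ≤ U) hle
        have hUb : U ≤ img (b : MulAut V) U := by
          have h6 : U ⊓ img (b : MulAut V) U ≤ img (b : MulAut V) U := inf_le_right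
          rwa [hUT] at h6
        have hUeq : U = img (b : MulAut V) U :=
          Subgroup.eq_of_le_of_card_ge hUb (by rw [card_img])
        have hPinv : Inv P U := by
          intro x hx u hu
          rcases hcov' x hx with h1 | h1
          · exact hUinv x h1 u hu
          · have h2 : ((b : MulAut V)⁻¹ * x) u ∈ U := hUinv _ h1 u hu
            have h3 : (b : MulAut V) (((b : MulAut V)⁻¹ * x) u) ∈ img (b : MulAut V) U :=
              mem_img.mpr ⟨_, h2, rfl⟩
            rw [← hUeq] at h3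
            have h4 : (b : MulAut V) (((b : MulAut V)⁻¹ * x) u) = x u :=
              MulAut.apply_inv_self _ (b : MulAut V) (x u)
            rwa [h4] at h3
        rcases h.irr U hPinv with h0 | h1
        · exact hU0 h0
        · have h5 := hUmin' W₀ hWinv hW0
          rw [h1, Subgroup.card_top] at h5
          exact hW1 (Subgroup.eq_top_of_le_card W₀ h5)
      refine T5 (ι := Fin 2) (by simp) ![U, img (b : MulAut V) U] ?_ ?_ ?_ ?_
      · exact Fin.forall_fin_two.mpr ⟨hU0, img_ne_bot _ hU0⟩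
      · intro f hf hprod
        rw [Fin.prod_univ_two] at hprod
        have h0 : f 0 ∈ U := hf 0
        have h1 : f 1 ∈ img (b : MulAut V) U := hf 1
        have h2 : f 0 = (f 1)⁻¹ := eq_inv_of_mul_eq_one_left hprod
        have hmem : f 0 ∈ U ⊓ img (b : MulAut V) U :=
          ⟨h0, by rw [h2]; exact Subgroup.inv_mem _ h1⟩
        rw [hinf, Subgroup.mem_bot] at hmem
        have hf1 : f 1 = 1 := by rw [hmem, one_mul] at hprod; exact hprod
        exact Fin.forall_fin_two.mpr ⟨hmem, hf1⟩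
      · intro g hg
        rcases hcov' g hg with h1 | h1
        · refine Fin.forall_fin_two.mpr ⟨⟨0, ?_⟩, ⟨1, ?_⟩⟩
          · exact img_eq_of_inv hUinv h1
          · exact img_eq_of_inv hbUinv h1
        · have hg' : g = (b : MulAut V) * ((b : MulAut V)⁻¹ * g) := by group
          refine Fin.forall_fin_two.mpr ⟨⟨1, ?_⟩, ⟨0, ?_⟩⟩
          · show img g U = img (b : MulAut V) U
            rw [hg', img_mul, img_eq_of_inv hUinv h1]
          · show img g (img (b : MulAut V) U) = U
            rw [hg', img_mul, img_eq_of_inv hbUinv h1, hbb]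
      · refine Fin.forall_fin_two.mpr ⟨Fin.forall_fin_two.mpr ⟨⟨1, P.one_mem, ?_⟩, ⟨b, b.2, ?_⟩⟩,
          Fin.forall_fin_two.mpr ⟨⟨b, b.2, ?_⟩, ⟨1, P.one_mem, ?_⟩⟩⟩
        · exact img_one U
        · rfl
        · exact hbb
        · exact img_one _

end Cfsg.Agent.Helper55.Baer
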