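import Mathlib
import Cfsg.Agent.H21.BRDefs
import Cfsg.Prelude.Def_Perm
import Cfsg.Agent.S0732

set_option autoImplicit false

/-!
# Brauer–Reynolds team project S0999 (helper21), piece N1 (helper55)

The case `n_p = p + 1`: the action on the `p + 1` Sylow `p`-subgroups and S0732.
-/

namespace Cfsg.Agent.Helper55.BR

open Cfsg Cfsg.Agent.H21.BR
open scoped ComplexConjugate

theorem case_n_one {G : Type*} [Group G] [Finite G] [IsSimpleGroup G]
    (hna : ∃ a b : G, a * b ≠ b * a) (p : ℕ) [Fact p.Prime] (hp2 : p ≠ 2)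
    (hn : Nat.card (Sylow p G) = p + 1) (d : ℕ) (hd2 : 2 ≤ d) (hd : d < p)
    (hcard : Nat.card G = (p + 1) * p * d)
    (hpgl : (G ≃* Matrix.ProjGenLinGroup (Fin 2) (ZMod p)) → False)
    (hsemi : ∀ (q : ℕ) (f : G →* Equiv.Perm (GaloisField 2 q)), Function.Injective f →
      (∀ k, f k ∈ Cfsg.semiaffineGroup (GaloisField 2 q)) → False) :
    ∃ (F : Type) (_ : Field F) (_ : Fintype F), Fintype.card F = p ∧ 3 < p ∧
      Nonempty (G ≃* Matrix.ProjectiveSpecialLinearGroup (Fin 2) F) := by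
  classical
  have hpp : p.Prime := Fact.out
  haveI : Fintype (Sylow p G) := Fintype.ofFinite _
  have hα : Fintype.card (Sylow p G) = p + 1 := by
    rw [← Nat.card_eq_fintype_card]; exact hn
  obtain ⟨φ, hφdef⟩ : ∃ φ : G →* Equiv.Perm (Sylow p G),
      φ = MulAction.toPermHom G (Sylow p G) := ⟨_, rfl⟩
  have hφapp : ∀ (g : G) (a : Sylow p G), φ g a = g • a := by
    intro g a; rw [hφdef]; rfl
  have hinj : Function.Injective φ := by
    rw [← MonoidHom.ker_eq_bot_iff]
    rcases (MonoidHom.normal_ker φ).eq_bot_or_eq_top with h | h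
    · exact h
    · exfalso
      have htriv : ∀ (g : G) (a : Sylow p G), g • a = a := by
        intro g a
        have hg : g ∈ φ.ker := by rw [h]; exact Subgroup.mem_top g
        rw [MonoidHom.mem_ker] at hg
        rw [← hφapp, hg]; rfl
      have hsub : ∀ a b : Sylow p G, a = b := by
        intro a b
        obtain ⟨g, hg⟩ := MulAction.exists_smul_eq G a b
        rw [← hg, htriv]
      have h1 : Fintype.card (Sylow p G) ≤ 1 := Fintype.card_le_one_iff.2 hsub
      omega
  haveI : MulAction.IsPretransitive φ.range (Sylow p G) := by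
    constructor
    intro a b
    obtain ⟨g, hg⟩ := MulAction.exists_smul_eq G a b
    refine ⟨⟨φ g, ⟨g, rfl⟩⟩, ?_⟩
    show φ g a = b
    rw [hφapp]; exact hg
  have hHcard : Nat.card φ.range = (p + 1) * p * d := by
    rw [← hcard]; exact (Nat.card_congr (MonoidHom.ofInjective hinj).toEquiv).symm
  have key := Cfsg.Agent.S0732.result hpp hα φ.range hHcard hd
  rcases key with ⟨-, ⟨e⟩⟩ | ⟨h2d, ⟨e⟩⟩ | ⟨q, -, -, -, e, he⟩
  · exact (hpgl ((MonoidHom.ofInjective hinj).trans e)).elim
  · exact ⟨ZMod p, inferInstance, inferInstance, ZMod.card p, by omega,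
      ⟨(MonoidHom.ofInjective hinj).trans e⟩⟩
  · exfalso
    refine hsemi q ((Equiv.permCongrHom e).toMonoidHom.comp φ) ?_ ?_
    · exact (Equiv.permCongrHom e).injective.comp hinj
    · intro k
      have h1 := he ⟨φ k, ⟨k, rfl⟩⟩
      have h2 : ((Equiv.permCongrHom e).toMonoidHom.comp φ) k = e.symm.trans ((φ k).trans e) := by
        ext x
        rfl
      rw [h2]
      exact h1

example {G : Type*} [Group G] [Finite G] [IsSimpleGroup G]
    (hna : ∃ a b : G, a * b ≠ b * a) (p : ℕ) [Fact p.Prime] (hp2 : p ≠ 2)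
    (hn : Nat.card (Sylow p G) = p + 1) (d : ℕ) (hd2 : 2 ≤ d) (hd : d < p)
    (hcard : Nat.card G = (p + 1) * p * d)
    (hpgl : (G ≃* Matrix.ProjGenLinGroup (Fin 2) (ZMod p)) → False)
    (hsemi : ∀ (q : ℕ) (f : G →* Equiv.Perm (GaloisField 2 q)), Function.Injective f →
      (∀ k, f k ∈ Cfsg.semiaffineGroup (GaloisField 2 q)) → False) :
    ∃ (F : Type) (_ : Field F) (_ : Fintype F), Fintype.card F = p ∧ 3 < p ∧
      Nonempty (G ≃* Matrix.ProjectiveSpecialLinearGroup (Fin 2) F) :=
  case_n_one hna p hp2 hn d hd2 hd hcard hpgl hsemi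

end Cfsg.Agent.Helper55.BR
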