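import Cfsg.Prelude.Def_Solvable
import Cfsg.Agent.Helper55.Basic

/-!
# helper55: groups of characteristic `p` (`C_G(O_p(G)) ≤ O_p(G)`)
-/

set_option autoImplicit false

namespace Cfsg.Agent.Helper55

open scoped Pointwise

variable {G : Type*} [Group G]

/-- If `n r n⁻¹ = z r` and `n` commutes with `z`, then `n^i r n^{-i} = z^i r`. -/
theorem conj_pow_eq_of_commute {n r z : G} (h : n * r * n⁻¹ = z * r) (hz : Commute n z) (i : ℕ) :
    n ^ i * r * (n ^ i)⁻¹ = z ^ i * r := by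
  induction i with
  | zero => simp
  | succ i ih =>
    have e : n ^ (i + 1) * r * (n ^ (i + 1))⁻¹ = n * (n ^ i * r * (n ^ i)⁻¹) * n⁻¹ := by
      rw [pow_succ']; simp [mul_assoc]
    rw [e, ih]
    have e2 : n * (z ^ i * r) * n⁻¹ = (n * z ^ i * n⁻¹) * (n * r * n⁻¹) := by simp [mul_assoc]
    have e3 : n * z ^ i * n⁻¹ = z ^ i := by
      have := (hz.pow_right i).eq
      rw [this]; simp
    rw [e2, e3, h, pow_succ, mul_assoc]

/-- An element whose order divides two coprime numbers is trivial. -/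
theorem eq_one_of_pow_eq_one_of_coprime {z : G} {a b : ℕ} (ha : z ^ a = 1) (hb : z ^ b = 1)
    (hab : Nat.Coprime a b) : z = 1 := by
  have h1 := orderOf_dvd_of_pow_eq_one ha
  have h2 := orderOf_dvd_of_pow_eq_one hb
  have h3 : orderOf z = 1 := Nat.eq_one_of_dvd_coprimes hab h1 h2
  exact orderOf_eq_one_iff.mp h3

/-- A finite group in which all elements of order prime to `p` are trivial is a `p`-group. -/
theorem isPGroup_of_forall_coprime_eq_one [Finite G] {p : ℕ} [hp : Fact p.Prime]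
    (h : ∀ y : G, Nat.Coprime (orderOf y) p → y = 1) : IsPGroup p G := by
  intro x
  have hord : orderOf x ≠ 0 := (orderOf_pos x).ne'
  obtain ⟨e, r, hr, hn⟩ := Nat.exists_eq_pow_mul_and_not_dvd hord p hp.out.ne_one
  refine ⟨e, ?_⟩
  apply h
  have h1 : (x ^ p ^ e) ^ r = 1 := by
    rw [← pow_mul, ← hn, pow_orderOf_eq_one]
  have h2 : orderOf (x ^ p ^ e) ∣ r := orderOf_dvd_of_pow_eq_one h1
  have h3 : Nat.Coprime r p := ((Nat.Prime.coprime_iff_not_dvd hp.out).mpr hr).symm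
  exact Nat.Coprime.coprime_dvd_left h2 h3

/-- `O_p(G)` is normal. -/
theorem pCore_normal' (p : ℕ) (G : Type*) [Group G] : (Cfsg.pCore p G).Normal :=
  Subgroup.sSup_normal _ (fun _ h => h.1)

/-- `O_p(G)` is a `p`-group (finite `G`). -/
theorem isPGroup_pCore (p : ℕ) [Fact p.Prime] (G : Type*) [Group G] [Finite G] :
    IsPGroup p (Cfsg.pCore p G) :=
  Sylow.sSup_of_normal _ (fun _ h => h.2) (fun _ h => h.1)

/-- A normal `p`-subgroup lies in `O_p(G)`. -/
theorem le_pCore {p : ℕ} {N : Subgroup G} (hN : N.Normal) (hp : IsPGroup p N) :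
    N ≤ Cfsg.pCore p G :=
  le_sSup ⟨hN, hp⟩

/-- `O_p(G)` lies in every Sylow `p`-subgroup. -/
theorem pCore_le_sylow [Finite G] {p : ℕ} [Fact p.Prime] (T : Sylow p G) :
    Cfsg.pCore p G ≤ (T : Subgroup G) := by
  have := pCore_normal' p G
  exact (isPGroup_pCore p G).le_sylow_of_normal T

/-- A uniform exponent for a finite `p`-subgroup. -/
theorem exists_uniform_pow_eq_one [Finite G] {p : ℕ} [Fact p.Prime] {R : Subgroup G}
    (hR : IsPGroup p R) : ∃ K : ℕ, ∀ z ∈ R, z ^ (p ^ K) = 1 := by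
  obtain ⟨K, hK⟩ := IsPGroup.iff_card.mp hR
  refine ⟨K, fun z hz => ?_⟩
  have h1 : (⟨z, hz⟩ : R) ^ Nat.card R = 1 := pow_card_eq_one'
  rw [hK] at h1
  simpa using congrArg Subtype.val h1

/-- Stability-group argument: if `R` is a normal `p`-subgroup with `C_G(R) ≤ R`, and `n` acts
trivially on `R / R₀` and on `R₀` for a subgroup `R₀ ≤ R`, then `n` is a `p`-element. -/
theorem exists_pow_eq_one_of_stabilizes [Finite G] {p : ℕ} [Fact p.Prime] {R R₀ : Subgroup G}
    (hR : IsPGroup p R) (hRR : Subgroup.centralizer (R : Set G) ≤ R) (hR₀ : R₀ ≤ R) {n : G}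
    (h1 : ∀ r ∈ R, n * r * n⁻¹ * r⁻¹ ∈ R₀) (h2 : ∀ z ∈ R₀, n * z = z * n) :
    ∃ k : ℕ, n ^ (p ^ k) = 1 := by
  obtain ⟨K, hK⟩ := exists_uniform_pow_eq_one hR
  have h3 : n ^ (p ^ K) ∈ Subgroup.centralizer (R : Set G) := by
    rw [Subgroup.mem_centralizer_iff]
    intro r hr
    have hz := h1 r hr
    have e : n * r * n⁻¹ = (n * r * n⁻¹ * r⁻¹) * r := by simp
    have h4 := conj_pow_eq_of_commute e (h2 _ hz) (p ^ K)
    rw [hK _ (hR₀ hz), one_mul] at h4
    calc r * n ^ p ^ K = (n ^ p ^ K * r * (n ^ p ^ K)⁻¹) * n ^ p ^ K := by rw [h4]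
      _ = n ^ p ^ K * r := by simp [mul_assoc]
  refine ⟨K + K, ?_⟩
  rw [pow_add, pow_mul]
  exact hK _ (hRR h3)

/-- In a group of characteristic `p`, a normal subgroup `Q` of a Sylow `p`-subgroup `T` with
`C_T(Q) ≤ Q` satisfies `C_G(Q) ≤ Q`. -/
theorem centralizer_le_of_charP [Finite G] {p : ℕ} [Fact p.Prime]
    (hG : Subgroup.centralizer (Cfsg.pCore p G : Set G) ≤ Cfsg.pCore p G) (T : Sylow p G)
    (Q : Subgroup G) (hQT : Q ≤ (T : Subgroup G))
    (hQn : (T : Subgroup G) ≤ Subgroup.normalizer (Q : Set G))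
    (hC : (T : Subgroup G) ⊓ Subgroup.centralizer (Q : Set G) ≤ Q) :
    Subgroup.centralizer (Q : Set G) ≤ Q := by
  classical
  have hp : p.Prime := Fact.out
  set R : Subgroup G := Cfsg.pCore p G with hRdef
  have hRn : R.Normal := pCore_normal' p G
  have hRp : IsPGroup p R := isPGroup_pCore p G
  have hRT : R ≤ (T : Subgroup G) := pCore_le_sylow T
  set P₀ : Subgroup G := R ⊔ Q with hP₀
  have hP₀T : P₀ ≤ (T : Subgroup G) := sup_le hRT hQT
  have hP₀p : IsPGroup p P₀ := T.isPGroup'.to_le hP₀T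
  -- (i) p'-elements of the centralizer of Q are trivial
  have hi : ∀ y ∈ Subgroup.centralizer (Q : Set G), Nat.Coprime (orderOf y) p → y = 1 := by
    intro y hy hcop
    -- y normalizes P₀
    have hyP₀ : ∀ x ∈ P₀, y * x * y⁻¹ ∈ P₀ := by
      intro x hx
      have hmap : P₀.map (MulAut.conj y).toMonoidHom ≤ P₀ := by
        rw [hP₀, Subgroup.map_sup]
        refine sup_le ?_ ?_
        · rintro _ ⟨r, hr, rfl⟩
          exact Subgroup.mem_sup_left (hRn.conj_mem r hr y)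
        · rintro _ ⟨q, hq, rfl⟩
          have : (MulAut.conj y).toMonoidHom q = q := by
            have := (Subgroup.mem_centralizer_iff.mp hy) q hq
            simp [MulAut.conj_apply, ← this]
          rw [this]
          exact Subgroup.mem_sup_right hq
      exact hmap ⟨x, hx, by simp [MulAut.conj_apply]⟩
    -- maximal Q₁ between Q and P₀ centralized by y
    let s : Set (Subgroup G) := {Q₁ | Q ≤ Q₁ ∧ Q₁ ≤ P₀ ∧ y ∈ Subgroup.centralizer (Q₁ : Set G)}
    have hQs : Q ∈ s := ⟨le_rfl, le_sup_right, hy⟩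
    obtain ⟨Q₁, hQQ₁, hmax⟩ := Set.Finite.exists_le_maximal (Set.toFinite s) hQs
    obtain ⟨-, hQ₁P₀, hyQ₁⟩ := hmax.prop
    have hQ₁p : IsPGroup p Q₁ := hP₀p.to_le hQ₁P₀
    -- y centralizes N = P₀ ⊓ normalizer Q₁
    have hyN : y ∈ Subgroup.centralizer ((P₀ ⊓ Subgroup.normalizer (Q₁ : Set G) : Subgroup G) : Set G) := by
      rw [Subgroup.mem_centralizer_iff]
      intro x hx
      obtain ⟨hxP₀, hxN⟩ := Subgroup.mem_inf.mp hx
      -- z = y x y⁻¹ x⁻¹
      have hzP₀ : y * x * y⁻¹ * x⁻¹ ∈ P₀ := P₀.mul_mem (hyP₀ x hxP₀) (P₀.inv_mem hxP₀)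
      have hzC : y * x * y⁻¹ * x⁻¹ ∈ Subgroup.centralizer (Q₁ : Set G) := by
        rw [Subgroup.mem_centralizer_iff]
        intro q hq
        have hq' : x⁻¹ * q * x ∈ Q₁ := by
          have := ((Subgroup.inv_mem _ hxN) q).mp hq
          simpa using this
        have c1 : q * y = y * q := (Subgroup.mem_centralizer_iff.mp hyQ₁) q hq
        have c2 : (x⁻¹ * q * x) * y = y * (x⁻¹ * q * x) := (Subgroup.mem_centralizer_iff.mp hyQ₁) _ hq'
        -- q * z = z * q
        have c2' : y⁻¹ * (x⁻¹ * q * x) = (x⁻¹ * q * x) * y⁻¹ :=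
          (Commute.inv_left (show Commute y (x⁻¹ * q * x) from c2.symm)).eq
        calc q * (y * x * y⁻¹ * x⁻¹) = (q * y) * x * y⁻¹ * x⁻¹ := by simp [mul_assoc]
          _ = (y * q) * x * y⁻¹ * x⁻¹ := by rw [c1]
          _ = y * (q * x) * y⁻¹ * x⁻¹ := by simp [mul_assoc]
          _ = y * x * ((x⁻¹ * q * x) * y⁻¹) * x⁻¹ := by simp [mul_assoc]
          _ = y * x * (y⁻¹ * (x⁻¹ * q * x)) * x⁻¹ := by rw [c2']
          _ = y * x * y⁻¹ * x⁻¹ * q := by simp [mul_assoc]
      have hzQ : y * x * y⁻¹ * x⁻¹ ∈ Q := by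
        apply hC
        refine Subgroup.mem_inf.mpr ⟨hP₀T hzP₀, ?_⟩
        exact Subgroup.centralizer_le hQQ₁ hzC
      have hzQ₁ : y * x * y⁻¹ * x⁻¹ ∈ Q₁ := hQQ₁ hzQ
      have hcomm : Commute y (y * x * y⁻¹ * x⁻¹) :=
        ((Subgroup.mem_centralizer_iff.mp hyQ₁) _ hzQ₁).symm
      have e : y * x * y⁻¹ = (y * x * y⁻¹ * x⁻¹) * x := by simp
      have h4 := conj_pow_eq_of_commute e hcomm (orderOf y)
      rw [pow_orderOf_eq_one] at h4
      have h5 : (y * x * y⁻¹ * x⁻¹) ^ orderOf y = 1 := by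
        have : x = (y * x * y⁻¹ * x⁻¹) ^ orderOf y * x := by simpa using h4
        exact mul_right_cancel (by rw [one_mul]; exact this.symm)
      obtain ⟨k, hk⟩ := exists_pow_eq_one_of_mem hQ₁p hzQ₁
      have h6 : y * x * y⁻¹ * x⁻¹ = 1 :=
        eq_one_of_pow_eq_one_of_coprime h5 hk (Nat.Coprime.pow_right k hcop)
      have h7 : y * x * y⁻¹ = x := by
        rw [e, h6, one_mul]
      calc x * y = (y * x * y⁻¹) * y := by rw [h7]
        _ = y * x := by simp [mul_assoc]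
    -- hence N ≤ Q₁ by maximality, hence Q₁ = P₀
    have hNs : (P₀ ⊓ Subgroup.normalizer (Q₁ : Set G) : Subgroup G) ∈ s :=
      ⟨le_trans hQQ₁ (le_inf hQ₁P₀ Subgroup.le_normalizer), inf_le_left, hyN⟩
    have hNle : P₀ ⊓ Subgroup.normalizer (Q₁ : Set G) ≤ Q₁ :=
      hmax.le_of_ge hNs (le_inf hQ₁P₀ Subgroup.le_normalizer)
    have hQ₁eq : Q₁ = P₀ := eq_of_normalizer_inf_le hP₀p hQ₁P₀ hNle
    -- so y centralizes R, so y ∈ R
    have hyR : y ∈ R := by
      apply hG
      rw [hQ₁eq] at hyQ₁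
      exact Subgroup.centralizer_le (show (R : Set G) ⊆ P₀ from fun r hr => Subgroup.mem_sup_left hr) hyQ₁
    obtain ⟨k, hk⟩ := exists_pow_eq_one_of_mem hRp hyR
    exact eq_one_of_pow_eq_one_of_coprime (pow_orderOf_eq_one y) hk (Nat.Coprime.pow_right k hcop)
  -- (ii) the centralizer of Q is a p-group
  set C : Subgroup G := Subgroup.centralizer (Q : Set G) with hCdef
  have hCp : IsPGroup p C := by
    apply isPGroup_of_forall_coprime_eq_one
    intro y hcop
    have hy1 : (y : G) = 1 := hi y y.2 (by rwa [Subgroup.orderOf_coe])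
    exact Subtype.ext hy1
  -- (iii) T normalizes C
  have hTC : (T : Subgroup G) ≤ Subgroup.normalizer (C : Set G) := by
    rw [Subgroup.le_normalizer_iff]
    intro t ht c hc
    rw [hCdef, Subgroup.mem_centralizer_iff] at hc ⊢
    intro q hq
    have hq' : t⁻¹ * q * t ∈ Q := by
      have := ((Subgroup.inv_mem _ (hQn ht)) q).mp hq
      simpa using this
    have c1 := hc _ hq'
    calc q * (t * c * t⁻¹) = t * ((t⁻¹ * q * t) * c) * t⁻¹ := by simp [mul_assoc]
      _ = t * (c * (t⁻¹ * q * t)) * t⁻¹ := by rw [c1]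
      _ = t * c * t⁻¹ * q := by simp [mul_assoc]
  have hsup : IsPGroup p ((T : Subgroup G) ⊔ C : Subgroup G) :=
    T.isPGroup'.to_sup_of_normal_right' hCp hTC
  have hTeq : (T : Subgroup G) ⊔ C = (T : Subgroup G) := T.is_maximal' hsup le_sup_left
  have hCT : C ≤ (T : Subgroup G) := by rw [← hTeq]; exact le_sup_right
  exact le_trans (le_inf hCT le_rfl) hC

end Cfsg.Agent.Helper55
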