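import Mathlib

/-!
# S3572-L2: even autocorrelations in a cyclic 2-group force invariance under the involution

A polynomial argument in `(ZMod 2)[X]` modulo `X ^ n - 1 = (X - 1) ^ n`.
-/

namespace Cfsg.Agent.Helper55.Dih

open Polynomial

/-- The polynomial `∑ y ∈ S, X ^ y.val` over `ZMod 2` of a subset of `ZMod n`. -/
noncomputable def pol {n : ℕ} (S : Finset (ZMod n)) : (ZMod 2)[X] := ∑ y ∈ S, X ^ y.val

theorem coeff_pol {n : ℕ} [NeZero n] (S : Finset (ZMod n)) (y0 : ZMod n) :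
    (pol S).coeff y0.val = if y0 ∈ S then 1 else 0 := by
  classical
  unfold pol
  rw [Polynomial.finset_sum_coeff]
  have h1 : ∀ y ∈ S, ((X : (ZMod 2)[X]) ^ y.val).coeff y0.val = if y = y0 then 1 else 0 := by
    intro y _
    rw [Polynomial.coeff_X_pow]
    by_cases h : y = y0
    · subst h; simp
    · have h' : y0.val ≠ y.val := fun h' => h ((ZMod.val_injective n h').symm)
      simp [h, h']
  rw [Finset.sum_congr rfl h1, Finset.sum_ite_eq']

theorem pol_injective {n : ℕ} [NeZero n] {S S' : Finset (ZMod n)} (h : pol S = pol S') :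
    S = S' := by
  classical
  ext y
  have h1 := coeff_pol S y
  have h2 := coeff_pol S' y
  rw [h] at h1
  rw [h1] at h2
  by_cases hy : y ∈ S <;> by_cases hy' : y ∈ S' <;> simp [hy, hy'] at h2 ⊢

theorem natDegree_pol_lt {n : ℕ} [NeZero n] (S : Finset (ZMod n)) : (pol S).natDegree < n := by
  have h1 : (pol S).natDegree ≤ n - 1 := by
    unfold pol
    apply Polynomial.natDegree_sum_le_of_forall_le
    intro y _
    rw [Polynomial.natDegree_X_pow]
    have := ZMod.val_lt y
    omega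
  have hn : 0 < n := Nat.pos_of_ne_zero (NeZero.ne n)
  omega

theorem phi_dvd_of_modEq {n a b : ℕ} (h : a ≡ b [MOD n]) :
    (X ^ n - 1 : (ZMod 2)[X]) ∣ X ^ a - X ^ b := by
  have key : ∀ a b : ℕ, b ≤ a → a ≡ b [MOD n] →
      (X ^ n - 1 : (ZMod 2)[X]) ∣ X ^ a - X ^ b := by
    intro a b hle h
    have hd : n ∣ a - b := (Nat.modEq_iff_dvd' hle).1 h.symm
    obtain ⟨q, hq⟩ := hd
    have ha : a = b + n * q := by omega
    have h1 : (X ^ a - X ^ b : (ZMod 2)[X]) = X ^ b * ((X ^ n) ^ q - 1 ^ q) := by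
      rw [ha, pow_add, pow_mul, one_pow]; ring
    rw [h1]
    exact Dvd.dvd.mul_left (sub_dvd_pow_sub_pow _ _ _) _
  rcases le_total b a with hle | hle
  · exact key a b hle h
  · have h3 := key b a hle h.symm
    have h2 : (X ^ a - X ^ b : (ZMod 2)[X]) = -(X ^ b - X ^ a) := by ring
    rw [h2]
    exact (dvd_neg).2 h3

theorem pol_image_add {n : ℕ} [NeZero n] (S : Finset (ZMod n)) (z : ZMod n) :
    pol (S.image (fun y => y + z)) = ∑ y ∈ S, X ^ (y + z).val := by
  classical
  unfold pol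
  rw [Finset.sum_image]
  intro a _ b _ hab
  exact add_right_cancel hab

theorem pol_image_neg {n : ℕ} [NeZero n] (S : Finset (ZMod n)) :
    pol (S.image (fun y => -y)) = ∑ y ∈ S, X ^ (-y).val := by
  classical
  unfold pol
  rw [Finset.sum_image]
  intro a _ b _ hab
  exact neg_injective hab

/-- If `X ^ z.val + 1` divides `pol S` (with `2 z = 0`), then `S` is invariant under `+ z`. -/
theorem inv_of_dvd {n : ℕ} [NeZero n] (z : ZMod n) (h2z : 2 • z = 0) (S : Finset (ZMod n))
    (hdvd : (X ^ z.val + 1 : (ZMod 2)[X]) ∣ pol S) : ∀ i ∈ S, i + z ∈ S := by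
  classical
  have h2c : (2 * z.val) ≡ 0 [MOD n] := by
    have h3 : ((2 * z.val : ℕ) : ZMod n) = 0 := by
      rw [Nat.cast_mul, ZMod.natCast_zmod_val, Nat.cast_ofNat, two_mul, ← two_nsmul]
      exact h2z
    have h4 : n ∣ 2 * z.val := (ZMod.natCast_eq_zero_iff _ _).1 h3
    exact (Nat.modEq_zero_iff_dvd).2 h4
  -- `Φ ∣ (X^c + 1) * pol S`
  have hA : (X ^ n - 1 : (ZMod 2)[X]) ∣ X ^ z.val * pol S + pol S := by
    obtain ⟨g, hg⟩ := hdvd
    have h5 : (X ^ z.val * pol S + pol S : (ZMod 2)[X]) = (X ^ (2 * z.val) - X ^ 0) * g := by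
      rw [hg]
      have h6 : ((X : (ZMod 2)[X]) ^ z.val + 1) * ((X : (ZMod 2)[X]) ^ z.val + 1) =
          X ^ (2 * z.val) - X ^ 0 := by
        have h7 : ((X : (ZMod 2)[X]) ^ z.val + 1) * ((X : (ZMod 2)[X]) ^ z.val + 1) =
            X ^ (2 * z.val) + 1 + (X ^ z.val + X ^ z.val) := by ring
        rw [h7, CharTwo.add_self_eq_zero, add_zero, pow_zero, CharTwo.sub_eq_add]
      calc (X ^ z.val * ((X ^ z.val + 1) * g) + (X ^ z.val + 1) * g : (ZMod 2)[X])
          = ((X ^ z.val + 1) * (X ^ z.val + 1)) * g := by ring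
        _ = _ := by rw [h6]
    rw [h5]
    exact Dvd.dvd.mul_right (phi_dvd_of_modEq h2c) _
  have hBd : (X ^ n - 1 : (ZMod 2)[X]) ∣ X ^ z.val * pol S - pol (S.image (fun y => y + z)) := by
    rw [pol_image_add]
    unfold pol
    rw [Finset.mul_sum, ← Finset.sum_sub_distrib]
    apply Finset.dvd_sum
    intro y _
    rw [← pow_add]
    apply phi_dvd_of_modEq
    rw [ZMod.val_add, add_comm]
    exact (Nat.mod_modEq _ _).symm
  have hC : (X ^ n - 1 : (ZMod 2)[X]) ∣ pol (S.image (fun y => y + z)) - pol S := by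
    have h8 : (pol (S.image (fun y => y + z)) - pol S : (ZMod 2)[X]) =
        (X ^ z.val * pol S + pol S) - (X ^ z.val * pol S - pol (S.image (fun y => y + z))) -
          (pol S + pol S) := by ring
    rw [h8, CharTwo.add_self_eq_zero, sub_zero]
    exact dvd_sub hA hBd
  have hdeg : (pol (S.image (fun y => y + z)) - pol S).natDegree <
      (X ^ n - 1 : (ZMod 2)[X]).natDegree := by
    have h9 : (X ^ n - 1 : (ZMod 2)[X]).natDegree = n := by
      have := Polynomial.natDegree_X_pow_sub_C (R := ZMod 2) (n := n) (r := 1)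
      rwa [map_one] at this
    rw [h9]
    have h10 := Polynomial.natDegree_sub_le (pol (S.image (fun y => y + z))) (pol S)
    have h11 := natDegree_pol_lt (S.image (fun y => y + z))
    have h12 := natDegree_pol_lt S
    have h13 := max_lt h11 h12
    omega
  have hzero := Polynomial.eq_zero_of_dvd_of_natDegree_lt hC hdeg
  have heq : S.image (fun y => y + z) = S := pol_injective (sub_eq_zero.1 hzero)
  intro i hi
  rw [← heq]
  exact Finset.mem_image_of_mem _ hi

/-- `X ^ n - 1` divides `pol B * pol (-B)` when all autocorrelation counts are even. -/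
theorem phi_dvd_mul {n : ℕ} [NeZero n] (B : Finset (ZMod n))
    (hB : ∀ k : ZMod n, Even ((B ×ˢ B).filter (fun x => x.2 - x.1 = k)).card) :
    (X ^ n - 1 : (ZMod 2)[X]) ∣ pol B * pol (B.image (fun y => -y)) := by
  classical
  have hW : (∑ x ∈ B ×ˢ B, (X : (ZMod 2)[X]) ^ (x.2 - x.1).val) = 0 := by
    rw [← Finset.sum_fiberwise (B ×ˢ B) (fun x => x.2 - x.1)
      (fun x => (X : (ZMod 2)[X]) ^ (x.2 - x.1).val)]
    apply Finset.sum_eq_zero
    intro k _
    have h1 : ∀ x ∈ (B ×ˢ B).filter (fun x => x.2 - x.1 = k),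
        (X : (ZMod 2)[X]) ^ (x.2 - x.1).val = X ^ k.val := by
      intro x hx
      rw [(Finset.mem_filter.1 hx).2]
    rw [Finset.sum_congr rfl h1, Finset.sum_const]
    obtain ⟨c, hc⟩ := hB k
    rw [hc, add_nsmul]
    exact CharTwo.add_self_eq_zero _
  have hprod : pol B * pol (B.image (fun y => -y)) =
      ∑ x ∈ B ×ˢ B, (X : (ZMod 2)[X]) ^ (x.2.val + (-x.1).val) := by
    rw [pol_image_neg]
    unfold pol
    rw [Finset.sum_mul_sum, Finset.sum_product, Finset.sum_comm]
    exact Finset.sum_congr rfl (fun i _ => Finset.sum_congr rfl (fun j _ => (pow_add _ _ _).symm))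
  have hdiff : (X ^ n - 1 : (ZMod 2)[X]) ∣
      (∑ x ∈ B ×ˢ B, (X : (ZMod 2)[X]) ^ (x.2.val + (-x.1).val)) -
        ∑ x ∈ B ×ˢ B, (X : (ZMod 2)[X]) ^ (x.2 - x.1).val := by
    rw [← Finset.sum_sub_distrib]
    apply Finset.dvd_sum
    intro x _
    apply phi_dvd_of_modEq
    rw [sub_eq_add_neg, ZMod.val_add]
    exact (Nat.mod_modEq _ _).symm
  rw [hW, sub_zero] at hdiff
  rw [hprod]
  exact hdiff

/-- S3572-L2 (exact posted statement). -/
theorem autocorr_even {n : ℕ} [NeZero n] (e : ℕ) (hn : n = 2 ^ e) (z : ZMod n) (hz : z ≠ 0)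
    (h2z : 2 • z = 0) (B : Finset (ZMod n))
    (hB : ∀ k : ZMod n, Even ((B ×ˢ B).filter (fun x => x.2 - x.1 = k)).card) :
    ∀ i ∈ B, i + z ∈ B := by
  classical
  have hzlt : z.val < n := ZMod.val_lt z
  have hzne : z.val ≠ 0 := fun h => hz ((ZMod.val_eq_zero z).1 h)
  obtain ⟨e', rfl⟩ : ∃ e', e = e' + 1 := by
    cases e with
    | zero =>
      exfalso
      rw [pow_zero] at hn
      omega
    | succ e' => exact ⟨e', rfl⟩
  have hm : n = 2 * 2 ^ e' := by rw [hn, pow_succ]; ring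
  have hzval : z.val = 2 ^ e' := by
    have h3 : ((2 * z.val : ℕ) : ZMod n) = 0 := by
      rw [Nat.cast_mul, ZMod.natCast_zmod_val, Nat.cast_ofNat, two_mul, ← two_nsmul]
      exact h2z
    have h4 : n ∣ 2 * z.val := (ZMod.natCast_eq_zero_iff _ _).1 h3
    have h4' : 2 * 2 ^ e' ∣ 2 * z.val := by rw [← hm]; exact h4
    have h1' : z.val < 2 * 2 ^ e' := lt_of_lt_of_eq hzlt hm
    have h5 : 2 ^ e' ∣ z.val := (Nat.mul_dvd_mul_iff_left (by norm_num)).1 h4'
    obtain ⟨q, hq⟩ := h5
    have hq1 : q = 1 := by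
      rcases q with _ | _ | q
      · exfalso; rw [mul_zero] at hq; exact hzne hq
      · rfl
      · exfalso
        have h6 : 2 ^ e' * 2 ≤ 2 ^ e' * (q + 1 + 1) := Nat.mul_le_mul_left _ (by omega)
        omega
    rw [hq, hq1, mul_one]
  have hT : ((X : (ZMod 2)[X]) - C 1) ^ (2 ^ e') = X ^ (2 ^ e') + 1 := by
    rw [map_one, CharTwo.sub_eq_add, add_pow_char_pow, one_pow]
  have hPhi : (X ^ n - 1 : (ZMod 2)[X]) = (X - C 1) ^ n := by
    rw [hn, map_one, CharTwo.sub_eq_add X 1, add_pow_char_pow, one_pow, CharTwo.sub_eq_add]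
  have hdvd := phi_dvd_mul B hB
  rw [hPhi] at hdvd
  have hor : (X ^ z.val + 1 : (ZMod 2)[X]) ∣ pol B ∨
      (X ^ z.val + 1 : (ZMod 2)[X]) ∣ pol (B.image (fun y => -y)) := by
    rw [hzval, ← hT]
    by_cases h0 : pol B * pol (B.image (fun y => -y)) = 0
    · rcases mul_eq_zero.1 h0 with h | h
      · left; rw [h]; exact dvd_zero _
      · right; rw [h]; exact dvd_zero _
    · have hle := (Polynomial.le_rootMultiplicity_iff h0).2 hdvd
      rw [Polynomial.rootMultiplicity_mul h0] at hle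
      have hB0 : pol B ≠ 0 := left_ne_zero_of_mul h0
      have hB1 : pol (B.image (fun y => -y)) ≠ 0 := right_ne_zero_of_mul h0
      by_cases hj : 2 ^ e' ≤ rootMultiplicity 1 (pol B)
      · left; exact (Polynomial.le_rootMultiplicity_iff hB0).1 hj
      · right; exact (Polynomial.le_rootMultiplicity_iff hB1).1 (by omega)
  rcases hor with h | h
  · exact inv_of_dvd z h2z B h
  · have hinv := inv_of_dvd z h2z _ h
    intro i hi
    have h1 : -i ∈ B.image (fun y => -y) := Finset.mem_image_of_mem _ hi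
    have h2 := hinv _ h1
    obtain ⟨y, hy, hyeq⟩ := Finset.mem_image.1 h2
    have hzz : z + z = 0 := by rw [← two_nsmul]; exact h2z
    have h3 : y = i + z := by
      have h4 : y = i - z := by
        have : -y = -(i - z) := by rw [hyeq]; ring
        exact neg_injective this
      rw [h4, sub_eq_add_neg]
      congr 1
      exact (eq_neg_of_add_eq_zero_left hzz).symm
    rw [← h3]
    exact hy

end Cfsg.Agent.Helper55.Dih
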