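import Mathlib.GroupTheory.Sylow
import Mathlib.GroupTheory.PGroup
import Mathlib.GroupTheory.Exponent
import Mathlib.Data.Nat.Choose.Dvd
import Cfsg.Prelude.Def_Transfer
import Cfsg.Agent.Helper55.PRankOne
import Cfsg.Agent.Helper55.SylIn
import Cfsg.Agent.Helper55.StrongFusion

/-!
# helper55: extraspecial groups of order `p ^ 3` and exponent `p ^ 2`, `p` odd
-/

set_option autoImplicit false

namespace Cfsg.Agent.Helper55

section

variable {Q : Type*} [Group Q] [Finite Q] {p : ℕ} [Fact p.Prime]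

omit [Finite Q] [Fact p.Prime] in
theorem es_comm_mem_center (hE : Cfsg.IsExtraspecial p Q) (x y : Q) :
    x * y * x⁻¹ * y⁻¹ ∈ Subgroup.center Q := by
  rw [← hE.1.2.2]
  exact Subgroup.commutator_mem_commutator (Subgroup.mem_top x) (Subgroup.mem_top y)

omit [Finite Q] [Fact p.Prime] in
theorem es_center_pow (hE : Cfsg.IsExtraspecial p Q) {c : Q} (hc : c ∈ Subgroup.center Q) :
    c ^ p = 1 := by
  have := Subgroup.orderOf_dvd_natCard _ hc
  rw [hE.2] at this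
  exact orderOf_dvd_iff_pow_eq_one.mp this

omit [Finite Q] in
theorem es_mul_pow (hp : p ≠ 2) (hE : Cfsg.IsExtraspecial p Q) (x y : Q) :
    (x * y) ^ p = x ^ p * y ^ p := by
  have hpp : p.Prime := Fact.out
  have hc := es_comm_mem_center hE y x
  have hcen : ∀ g : Q, g * (y * x * y⁻¹ * x⁻¹) = (y * x * y⁻¹ * x⁻¹) * g :=
    fun g => Subgroup.mem_center_iff.mp hc g
  have h := (mul_pow_of_central_comm x y (y * x * y⁻¹ * x⁻¹) (by group) hcen).2 p
  have hdvd : p ∣ p.choose 2 :=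
    hpp.dvd_choose_self (by norm_num) (by have := hpp.two_le; omega)
  obtain ⟨k, hk⟩ := hdvd
  rw [h, hk, pow_mul, es_center_pow hE hc, one_pow, mul_one]

omit [Finite Q] [Fact p.Prime] in
theorem es_pow_mem_center (hE : Cfsg.IsExtraspecial p Q) (x : Q) :
    x ^ p ∈ Subgroup.center Q := by
  rw [Subgroup.mem_center_iff]
  intro y
  have hc := es_comm_mem_center hE y x
  have hcomm : Commute (y * x * y⁻¹ * x⁻¹) x := (Subgroup.mem_center_iff.mp hc x).symm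
  have h1 : y * x ^ p * y⁻¹ = x ^ p := by
    rw [← conj_pow]
    have e : y * x * y⁻¹ = (y * x * y⁻¹ * x⁻¹) * x := by group
    rw [e, hcomm.mul_pow, es_center_pow hE hc, one_mul]
  calc y * x ^ p = (y * x ^ p * y⁻¹) * y := by group
    _ = x ^ p * y := by rw [h1]

/-- The `p`-th power map of an extraspecial `p`-group, `p` odd. -/
def esPowHom (hp : p ≠ 2) (hE : Cfsg.IsExtraspecial p Q) : Q →* Q :=
  MonoidHom.mk' (fun x => x ^ p) (es_mul_pow hp hE)

omit [Finite Q] in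
theorem esPowHom_apply (hp : p ≠ 2) (hE : Cfsg.IsExtraspecial p Q) (x : Q) :
    esPowHom hp hE x = x ^ p := rfl

theorem es_card_ker (hp : p ≠ 2) (hE : Cfsg.IsExtraspecial p Q) (hcard : Nat.card Q = p ^ 3)
    (hexp : Monoid.exponent Q = p ^ 2) : Nat.card (esPowHom hp hE).ker = p ^ 2 := by
  have hpp : p.Prime := Fact.out
  have hrange_le : (esPowHom hp hE).range ≤ Subgroup.center Q := by
    rintro _ ⟨x, rfl⟩
    exact es_pow_mem_center hE x
  have h1 : Nat.card (esPowHom hp hE).range ∣ p := by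
    have h0 := Subgroup.card_dvd_of_le hrange_le
    rw [hE.2] at h0
    exact h0
  have h2 : Nat.card (esPowHom hp hE).range ≠ 1 := by
    intro h
    have hbot : (esPowHom hp hE).range = ⊥ := Subgroup.card_eq_one.mp h
    have hall : ∀ g : Q, g ^ p = 1 := by
      intro g
      have : (esPowHom hp hE) g ∈ (esPowHom hp hE).range := ⟨g, rfl⟩
      rw [hbot, Subgroup.mem_bot] at this
      exact this
    have h3 := Monoid.exponent_dvd_iff_forall_pow_eq_one.mpr hall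
    rw [hexp] at h3
    have h4 := Nat.le_of_dvd hpp.pos h3
    have h5 : p < p ^ 2 := by nlinarith [hpp.two_le]
    omega
  have h3 : Nat.card (esPowHom hp hE).range = p := by
    rcases (Nat.dvd_prime hpp).mp h1 with h | h
    · exact absurd h h2
    · exact h
  have h4 := Subgroup.card_mul_index (esPowHom hp hE).ker
  rw [Subgroup.index_ker, h3, hcard] at h4
  have h5 : Nat.card (esPowHom hp hE).ker * p = p ^ 2 * p := by rw [h4]; ring
  exact Nat.eq_of_mul_eq_mul_right hpp.pos h5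

end

theorem conj_pow_mul_of_central {G : Type*} [Group G] {a e c : G} (h : a * e * a⁻¹ = c * e)
    (hc : a * c = c * a) (i : ℕ) : a ^ i * e * (a ^ i)⁻¹ = c ^ i * e := by
  induction i with
  | zero => simp
  | succ i ih =>
    have hci : a * c ^ i = c ^ i * a := (Commute.pow_right (show Commute a c from hc) i).eq
    calc a ^ (i + 1) * e * (a ^ (i + 1))⁻¹ = a * (a ^ i * e * (a ^ i)⁻¹) * a⁻¹ := by
          rw [pow_succ']; group
      _ = a * (c ^ i * e) * a⁻¹ := by rw [ih]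
      _ = (a * c ^ i) * e * a⁻¹ := by group
      _ = c ^ i * (a * e * a⁻¹) := by rw [hci]; group
      _ = c ^ (i + 1) * e := by rw [h, pow_succ]; group

/-- The facts on an extraspecial subgroup `P` of order `p ^ 3` and exponent `p ^ 2` (`p` odd),
stated inside the ambient group. -/
theorem es_facts {G : Type*} [Group G] [Finite G] {p : ℕ} [Fact p.Prime] (hp : p ≠ 2)
    (P : Subgroup G) (hE : Cfsg.IsExtraspecial p ↥P) (hcard : Nat.card P = p ^ 3)
    (hexp : Monoid.exponent ↥P = p ^ 2) :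
    ∃ E : Subgroup G,
      (∀ x, x ∈ (Subgroup.center ↥P).map P.subtype ↔ x ∈ P ∧ ∀ y ∈ P, y * x = x * y) ∧
      Nat.card ((Subgroup.center ↥P).map P.subtype) = p ∧
      (∀ x ∈ P, ∀ y ∈ P, x * y * x⁻¹ * y⁻¹ ∈ (Subgroup.center ↥P).map P.subtype) ∧
      (∀ x ∈ P, ∀ y ∈ P, (x * y) ^ p = x ^ p * y ^ p) ∧
      (∀ x ∈ P, x ^ p ∈ (Subgroup.center ↥P).map P.subtype) ∧
      (∀ x, x ∈ E ↔ x ∈ P ∧ x ^ p = 1) ∧
      Nat.card E = p ^ 2 ∧
      (∀ x ∈ E, ∀ y ∈ E, x * y = y * x) := by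
  have hmemZ : ∀ x, x ∈ (Subgroup.center ↥P).map P.subtype ↔ x ∈ P ∧ ∀ y ∈ P, y * x = x * y := by
    intro x
    constructor
    · rintro ⟨⟨x, hx⟩, hcen, rfl⟩
      refine ⟨hx, ?_⟩
      intro y hy
      have := Subgroup.mem_center_iff.mp hcen ⟨y, hy⟩
      exact congrArg Subtype.val this
    · rintro ⟨hx, h⟩
      refine ⟨⟨x, hx⟩, ?_, rfl⟩
      rw [SetLike.mem_coe, Subgroup.mem_center_iff]
      rintro ⟨y, hy⟩
      exact Subtype.ext (h y hy)
  have hmemE : ∀ x, x ∈ (esPowHom hp hE).ker.map P.subtype ↔ x ∈ P ∧ x ^ p = 1 := by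
    intro x
    constructor
    · rintro ⟨⟨x, hx⟩, hker, rfl⟩
      refine ⟨hx, ?_⟩
      rw [SetLike.mem_coe, MonoidHom.mem_ker, esPowHom_apply] at hker
      exact congrArg Subtype.val hker
    · rintro ⟨hx, h⟩
      refine ⟨⟨x, hx⟩, ?_, rfl⟩
      rw [SetLike.mem_coe, MonoidHom.mem_ker, esPowHom_apply]
      exact Subtype.ext h
  have hcardE : Nat.card ((esPowHom hp hE).ker.map P.subtype) = p ^ 2 := by
    rw [← es_card_ker hp hE hcard hexp]
    exact Nat.card_congr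
      ((esPowHom hp hE).ker.equivMapOfInjective P.subtype P.subtype_injective).symm.toEquiv
  refine ⟨(esPowHom hp hE).ker.map P.subtype, hmemZ, ?_, ?_, ?_, ?_, hmemE, hcardE, ?_⟩
  · rw [← hE.2]
    exact Nat.card_congr
      ((Subgroup.center ↥P).equivMapOfInjective P.subtype P.subtype_injective).symm.toEquiv
  · intro x hx y hy
    exact ⟨⟨x, hx⟩ * ⟨y, hy⟩ * ⟨x, hx⟩⁻¹ * ⟨y, hy⟩⁻¹, es_comm_mem_center hE _ _, rfl⟩
  · intro x hx y hy
    have := es_mul_pow hp hE (⟨x, hx⟩ : ↥P) ⟨y, hy⟩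
    exact congrArg Subtype.val this
  · intro x hx
    exact ⟨⟨x, hx⟩ ^ p, es_pow_mem_center hE _, rfl⟩
  · have hc : IsMulCommutative ↥((esPowHom hp hE).ker.map P.subtype) :=
      IsPGroup.isMulCommutative_of_card_eq_prime_sq hcardE
    intro x hx y hy
    have := mul_comm' (⟨x, hx⟩ : ↥((esPowHom hp hE).ker.map P.subtype)) ⟨y, hy⟩
    exact congrArg Subtype.val this

/-- For `p` odd, if a Sylow `p`-subgroup `P` of `G` is extraspecial of order `p ^ 3` and exponent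
`p ^ 2`, then no element of `Z(P)` is fused to an element of `P` outside `Z(P)`. -/
theorem es_center_strongly_closed {G : Type*} [Group G] [Finite G] {p : ℕ} [Fact p.Prime]
    (hp : p ≠ 2) (P : Sylow p G) (hE : Cfsg.IsExtraspecial p ↥(P : Subgroup G))
    (hcard : Nat.card (P : Subgroup G) = p ^ 3)
    (hexp : Monoid.exponent ↥(P : Subgroup G) = p ^ 2)
    {z : G} (hz : z ∈ (Subgroup.center ↥(P : Subgroup G)).map (P : Subgroup G).subtype) (g : G)
    (hgP : g * z * g⁻¹ ∈ (P : Subgroup G)) :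
    g * z * g⁻¹ ∈ (Subgroup.center ↥(P : Subgroup G)).map (P : Subgroup G).subtype := by
  have hpp : p.Prime := Fact.out
  obtain ⟨E, hmemZ, hcardZ, hcommZ, hmulpow, hpowZ, hmemE, hcardE, hEcomm⟩ :=
    es_facts hp (P : Subgroup G) hE hcard hexp
  generalize hZdef : (Subgroup.center ↥(P : Subgroup G)).map (P : Subgroup G).subtype = Z
    at hz hmemZ hcardZ hcommZ hpowZ ⊢
  by_contra hnot
  have hzP : z ∈ (P : Subgroup G) := ((hmemZ z).mp hz).1
  have hzcen : ∀ y ∈ (P : Subgroup G), y * z = z * y := ((hmemZ z).mp hz).2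
  have hZpow : ∀ c ∈ Z, c ^ p = 1 := by
    intro c hc
    have := Subgroup.orderOf_dvd_natCard _ hc
    rw [hcardZ] at this
    exact orderOf_dvd_iff_pow_eq_one.mp this
  have hz1 : z ≠ 1 := by
    intro h
    apply hnot
    rw [h, mul_one, mul_inv_cancel]
    exact Z.one_mem
  have hzp : z ^ p = 1 := hZpow z hz
  have hep0 : (g * z * g⁻¹) ^ p = 1 := by rw [conj_pow, hzp]; group
  generalize he : g * z * g⁻¹ = e at hgP hnot hep0
  have hZE : Z ≤ E := fun c hc => (hmemE c).mpr ⟨((hmemZ c).mp hc).1, hZpow c hc⟩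
  have hzE : z ∈ E := hZE hz
  have heE : e ∈ E := (hmemE e).mpr ⟨hgP, hep0⟩
  have hEP : E ≤ (P : Subgroup G) := fun x hx => ((hmemE x).mp hx).1
  have he1 : e ≠ 1 := by
    intro h2; apply hnot; rw [h2]; exact Z.one_mem
  -- every nontrivial element of `Z` generates it
  have hZgen : ∀ c ∈ Z, c ≠ 1 → ∀ v ∈ Z, ∃ n : ℕ, c ^ n = v := by
    intro c hc hc1 v hv
    have hord : orderOf c = p := orderOf_eq_prime (hZpow c hc) hc1
    have hle : Subgroup.zpowers c ≤ Z := by rw [Subgroup.zpowers_le]; exact hc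
    have heq : Subgroup.zpowers c = Z := by
      apply Subgroup.eq_of_le_of_card_ge hle
      rw [Nat.card_zpowers, hord, hcardZ]
    have hv' : v ∈ Subgroup.zpowers c := by rw [heq]; exact hv
    obtain ⟨n, hn⟩ := (mem_powers_iff_mem_zpowers).mpr hv'
    exact ⟨n, hn⟩
  -- `P` normalizes `E`
  have hPE : ∀ x ∈ (P : Subgroup G), ∀ v ∈ E, x * v * x⁻¹ ∈ E := by
    intro x hx v hv
    have hv' := (hmemE v).mp hv
    refine (hmemE _).mpr
      ⟨Subgroup.mul_mem _ (Subgroup.mul_mem _ hx hv'.1) (Subgroup.inv_mem _ hx), ?_⟩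
    rw [conj_pow, hv'.2]; group
  -- Step 1: a conjugating element normalizing `E`
  obtain ⟨g', hg'e, hEg'⟩ : ∃ g' : G, g' * z * g'⁻¹ = e ∧ ∀ x ∈ E, g'⁻¹ * x * g' ∈ E := by
    have hP₁C : ((g • P : Sylow p G) : Subgroup G) ≤ Subgroup.centralizer ({e} : Set G) := by
      intro x hx
      rw [sylow_smul_coe, mem_map_conj_iff] at hx
      rw [Subgroup.mem_centralizer_iff]
      intro h hh
      rw [Set.mem_singleton_iff] at hh
      rw [hh]
      have h1 := hzcen _ hx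
      calc e * x = g * (z * (g⁻¹ * x * g)) * g⁻¹ := by rw [← he]; group
        _ = g * ((g⁻¹ * x * g) * z) * g⁻¹ := by rw [h1]
        _ = x * e := by rw [← he]; group
    have hEC : E ≤ Subgroup.centralizer ({e} : Set G) := by
      intro x hx
      rw [Subgroup.mem_centralizer_iff]
      intro h hh
      rw [Set.mem_singleton_iff] at hh
      rw [hh]
      exact hEcomm e heE x hx
    have hEp : IsPGroup p ↥E := P.isPGroup'.to_le hEP
    have hsyl1 := isSylIn_of_sylow_le (g • P) hP₁C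
    obtain ⟨E', hE', hEE'⟩ := exists_isSylIn_ge hEC hEp
    obtain ⟨m, hm, hE'eq⟩ := hsyl1.exists_conj hE'
    rw [sylow_smul_coe, map_conj_map_conj] at hE'eq
    have hme : m * e * m⁻¹ = e := by
      have := (Subgroup.mem_centralizer_iff.mp hm) e (Set.mem_singleton e)
      rw [← this]; group
    refine ⟨m * g, ?_, ?_⟩
    · calc (m * g) * z * (m * g)⁻¹ = m * (g * z * g⁻¹) * m⁻¹ := by group
        _ = e := by rw [he]; exact hme
    · intro x hx
      have h1 : x ∈ E' := hEE' hx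
      rw [hE'eq, mem_map_conj_iff] at h1
      refine (hmemE _).mpr ⟨h1, ?_⟩
      have e1 : (m * g)⁻¹ * x * (m * g) = (m * g)⁻¹ * x * ((m * g)⁻¹)⁻¹ := by rw [inv_inv]
      rw [e1, conj_pow, ((hmemE x).mp hx).2]; group
  have hEg'' : ∀ y ∈ E, g' * y * g'⁻¹ ∈ E := by
    have hle : E.map (MulAut.conj g'⁻¹).toMonoidHom ≤ E := by
      intro y hy
      rw [mem_map_conj_iff, inv_inv] at hy
      have h1 := hEg' _ hy
      have e1 : g'⁻¹ * (g' * y * g'⁻¹) * g' = y := by group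
      rwa [e1] at h1
    have heq : E.map (MulAut.conj g'⁻¹).toMonoidHom = E :=
      Subgroup.eq_of_le_of_card_ge hle (by rw [card_map_conj])
    intro y hy
    have hy' : y ∈ E.map (MulAut.conj g'⁻¹).toMonoidHom := by rw [heq]; exact hy
    rw [mem_map_conj_iff, inv_inv] at hy'
    exact hy'
  -- an element of `P` not commuting with `e`
  obtain ⟨a, haP, hae⟩ : ∃ a ∈ (P : Subgroup G), a * e ≠ e * a := by
    by_contra hcon
    push Not at hcon
    exact hnot ((hmemZ e).mpr ⟨hgP, hcon⟩)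
  obtain ⟨c₀, hc₀⟩ : ∃ c₀ : G, c₀ = a * e * a⁻¹ * e⁻¹ := ⟨_, rfl⟩
  have hc₀Z : c₀ ∈ Z := by rw [hc₀]; exact hcommZ a haP e hgP
  have hc₀1 : c₀ ≠ 1 := by
    intro h
    apply hae
    calc a * e = (a * e * a⁻¹ * e⁻¹) * (e * a) := by group
      _ = e * a := by rw [← hc₀, h, one_mul]
  have hc₀cen : ∀ y ∈ (P : Subgroup G), y * c₀ = c₀ * y := ((hmemZ c₀).mp hc₀Z).2
  have hze : z * e = e * z := (hzcen e hgP).symm
  -- the element `u`
  obtain ⟨u, huP, hu_z, hu_e⟩ : ∃ u ∈ (P : Subgroup G), u * z * u⁻¹ = z ∧ u * e * u⁻¹ = z * e := by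
    obtain ⟨i, hi⟩ := hZgen c₀ hc₀Z hc₀1 z hz
    have hae' : a * e * a⁻¹ = c₀ * e := by rw [hc₀]; group
    have huP : a ^ i ∈ (P : Subgroup G) := Subgroup.pow_mem _ haP i
    refine ⟨a ^ i, huP, ?_, ?_⟩
    · rw [hzcen _ huP]; group
    · rw [conj_pow_mul_of_central hae' (hc₀cen a haP) i, hi]
  -- the element `w`
  obtain ⟨w, hwE, hw_e, hw_z⟩ : ∃ w : G, (∀ v ∈ E, w * v * w⁻¹ ∈ E) ∧ w * e * w⁻¹ = e ∧
      w * z * w⁻¹ = e⁻¹ * z := by
    obtain ⟨z', hz'⟩ : ∃ z' : G, z' = g'⁻¹ * z * g' := ⟨_, rfl⟩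
    have hz'E : z' ∈ E := by rw [hz']; exact hEg' z hzE
    have hz'Z : z' ∉ Z := by
      intro h
      obtain ⟨k, hk⟩ := hZgen z hz hz1 _ h
      have h1 : e ^ k = z := by
        rw [← hg'e, conj_pow, hk, hz']; group
      have horde : orderOf e = p := orderOf_eq_prime hep0 he1
      have hordz : orderOf z = p := orderOf_eq_prime hzp hz1
      have hle : Subgroup.zpowers z ≤ Subgroup.zpowers e := by
        rw [Subgroup.zpowers_le, ← h1]; exact Subgroup.pow_mem _ (Subgroup.mem_zpowers e) k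
      have heq : Subgroup.zpowers z = Subgroup.zpowers e :=
        Subgroup.eq_of_le_of_card_ge hle (by rw [Nat.card_zpowers, Nat.card_zpowers, horde, hordz])
      have h2 : e ∈ Subgroup.zpowers z := by rw [heq]; exact Subgroup.mem_zpowers e
      have hzle : Subgroup.zpowers z ≤ Z := by rw [Subgroup.zpowers_le]; exact hz
      exact hnot (hzle h2)
    obtain ⟨a', ha'P, ha'z⟩ : ∃ a' ∈ (P : Subgroup G), a' * z' ≠ z' * a' := by
      by_contra hcon
      push Not at hcon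
      exact hz'Z ((hmemZ _).mpr ⟨hEP hz'E, hcon⟩)
    obtain ⟨c₁, hc₁⟩ : ∃ c₁ : G, c₁ = a' * z' * a'⁻¹ * z'⁻¹ := ⟨_, rfl⟩
    have hc₁Z : c₁ ∈ Z := by rw [hc₁]; exact hcommZ a' ha'P z' (hEP hz'E)
    have hc₁1 : c₁ ≠ 1 := by
      intro h
      apply ha'z
      calc a' * z' = (a' * z' * a'⁻¹ * z'⁻¹) * (z' * a') := by group
        _ = z' * a' := by rw [← hc₁, h, one_mul]
    have hc₁cen : ∀ y ∈ (P : Subgroup G), y * c₁ = c₁ * y := ((hmemZ c₁).mp hc₁Z).2
    obtain ⟨j, hj⟩ := hZgen c₁ hc₁Z hc₁1 z⁻¹ (Z.inv_mem hz)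
    have ha'z' : a' * z' * a'⁻¹ = c₁ * z' := by rw [hc₁]; group
    have hw₀_z' : a' ^ j * z' * (a' ^ j)⁻¹ = z⁻¹ * z' := by
      rw [conj_pow_mul_of_central ha'z' (hc₁cen a' ha'P) j, hj]
    have hw₀P : a' ^ j ∈ (P : Subgroup G) := Subgroup.pow_mem _ ha'P j
    have hw₀_z : a' ^ j * z * (a' ^ j)⁻¹ = z := by
      rw [hzcen _ hw₀P]; group
    have hge : g'⁻¹ * e * g' = z := by rw [← hg'e]; group
    have hgz' : g' * z' * g'⁻¹ = z := by rw [hz']; group
    refine ⟨g' * a' ^ j * g'⁻¹, ?_, ?_, ?_⟩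
    · intro v hv
      have h1 := hEg' v hv
      have h2 := hPE _ hw₀P _ h1
      have h3 := hEg'' _ h2
      have e1 : g' * (a' ^ j * (g'⁻¹ * v * g') * (a' ^ j)⁻¹) * g'⁻¹
          = g' * a' ^ j * g'⁻¹ * v * (g' * a' ^ j * g'⁻¹)⁻¹ := by group
      rw [e1] at h3
      exact h3
    · calc g' * a' ^ j * g'⁻¹ * e * (g' * a' ^ j * g'⁻¹)⁻¹
          = g' * (a' ^ j * (g'⁻¹ * e * g') * (a' ^ j)⁻¹) * g'⁻¹ := by group
        _ = g' * (a' ^ j * z * (a' ^ j)⁻¹) * g'⁻¹ := by rw [hge]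
        _ = g' * z * g'⁻¹ := by rw [hw₀_z]
        _ = e := hg'e
    · calc g' * a' ^ j * g'⁻¹ * z * (g' * a' ^ j * g'⁻¹)⁻¹
          = g' * (a' ^ j * (g'⁻¹ * z * g') * (a' ^ j)⁻¹) * g'⁻¹ := by group
        _ = g' * (a' ^ j * z' * (a' ^ j)⁻¹) * g'⁻¹ := by rw [← hz']
        _ = g' * (z⁻¹ * z') * g'⁻¹ := by rw [hw₀_z']
        _ = (g' * z * g'⁻¹)⁻¹ * (g' * z' * g'⁻¹) := by group
        _ = e⁻¹ * z := by rw [hg'e, hgz']
  -- the element `t` inverting `z` and `e`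
  obtain ⟨t, htE, ht_z, ht_e⟩ : ∃ t : G, (∀ v ∈ E, t * v * t⁻¹ ∈ E) ∧ t * z * t⁻¹ = z⁻¹ ∧
      t * e * t⁻¹ = e⁻¹ := by
    have hs_z : (u * w * u) * z * (u * w * u)⁻¹ = e⁻¹ := by
      calc (u * w * u) * z * (u * w * u)⁻¹ = u * (w * (u * z * u⁻¹) * w⁻¹) * u⁻¹ := by group
        _ = u * (e⁻¹ * z) * u⁻¹ := by rw [hu_z, hw_z]
        _ = (u * e * u⁻¹)⁻¹ * (u * z * u⁻¹) := by group
        _ = (z * e)⁻¹ * z := by rw [hu_e, hu_z]
        _ = e⁻¹ := by group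
    have hs_e : (u * w * u) * e * (u * w * u)⁻¹ = z := by
      calc (u * w * u) * e * (u * w * u)⁻¹ = u * (w * (u * e * u⁻¹) * w⁻¹) * u⁻¹ := by group
        _ = u * (w * (z * e) * w⁻¹) * u⁻¹ := by rw [hu_e]
        _ = u * ((w * z * w⁻¹) * (w * e * w⁻¹)) * u⁻¹ := by group
        _ = u * (e⁻¹ * (z * e)) * u⁻¹ := by rw [hw_z, hw_e]; group
        _ = u * (e⁻¹ * (e * z)) * u⁻¹ := by rw [hze]
        _ = u * z * u⁻¹ := by group
        _ = z := hu_z
    have hsE : ∀ v ∈ E, (u * w * u) * v * (u * w * u)⁻¹ ∈ E := by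
      intro v hv
      have h1 := hPE u huP _ (hwE _ (hPE u huP v hv))
      have e1 : u * (w * (u * v * u⁻¹) * w⁻¹) * u⁻¹ = (u * w * u) * v * (u * w * u)⁻¹ := by group
      rw [e1] at h1
      exact h1
    refine ⟨(u * w * u) * (u * w * u), ?_, ?_, ?_⟩
    · intro v hv
      have h1 := hsE _ (hsE v hv)
      have e1 : (u * w * u) * ((u * w * u) * v * (u * w * u)⁻¹) * (u * w * u)⁻¹
          = (u * w * u) * (u * w * u) * v * ((u * w * u) * (u * w * u))⁻¹ := by group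
      rw [e1] at h1
      exact h1
    · calc (u * w * u) * (u * w * u) * z * ((u * w * u) * (u * w * u))⁻¹
          = (u * w * u) * ((u * w * u) * z * (u * w * u)⁻¹) * (u * w * u)⁻¹ := by group
        _ = (u * w * u) * e⁻¹ * (u * w * u)⁻¹ := by rw [hs_z]
        _ = ((u * w * u) * e * (u * w * u)⁻¹)⁻¹ := by group
        _ = z⁻¹ := by rw [hs_e]
    · calc (u * w * u) * (u * w * u) * e * ((u * w * u) * (u * w * u))⁻¹
          = (u * w * u) * ((u * w * u) * e * (u * w * u)⁻¹) * (u * w * u)⁻¹ := by group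
        _ = (u * w * u) * z * (u * w * u)⁻¹ := by rw [hs_e]
        _ = e⁻¹ := hs_z
  -- `t` inverts `E`
  have ht_inv : ∀ v ∈ E, t * v * t⁻¹ = v⁻¹ := by
    let E₀ : Subgroup G :=
      { carrier := {v | v ∈ E ∧ t * v * t⁻¹ = v⁻¹}
        mul_mem' := by
          rintro x y ⟨hx, hx'⟩ ⟨hy, hy'⟩
          refine ⟨E.mul_mem hx hy, ?_⟩
          have e1 : t * (x * y) * t⁻¹ = (t * x * t⁻¹) * (t * y * t⁻¹) := by group
          rw [e1, hx', hy', mul_inv_rev]
          exact hEcomm _ (E.inv_mem hx) _ (E.inv_mem hy)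
        one_mem' := ⟨E.one_mem, by group⟩
        inv_mem' := by
          rintro x ⟨hx, hx'⟩
          refine ⟨E.inv_mem hx, ?_⟩
          have e1 : t * x⁻¹ * t⁻¹ = (t * x * t⁻¹)⁻¹ := by group
          rw [e1, hx'] }
    have hE₀E : E₀ ≤ E := fun v hv => hv.1
    have hzE₀ : z ∈ E₀ := ⟨hzE, ht_z⟩
    have heE₀ : e ∈ E₀ := ⟨heE, ht_e⟩
    have hZE₀ : Z ≤ E₀ := by
      intro c hc
      obtain ⟨n, rfl⟩ := hZgen z hz hz1 c hc
      exact E₀.pow_mem hzE₀ n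
    have hdvd : Nat.card E₀ ∣ p ^ 2 := by
      rw [← hcardE]; exact Subgroup.card_dvd_of_le hE₀E
    obtain ⟨k, hk2, hk⟩ := (Nat.dvd_prime_pow hpp).mp hdvd
    have hZle : p ≤ Nat.card E₀ := by
      rw [← hcardZ]; exact Subgroup.card_le_of_le hZE₀
    have hE₀eq : E₀ = E := by
      interval_cases k
      · rw [hk, pow_zero] at hZle
        have := hpp.two_le
        omega
      · exfalso
        have h1 : Z = E₀ := Subgroup.eq_of_le_of_card_ge hZE₀ (by rw [hk, hcardZ, pow_one])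
        apply hnot
        rw [h1]; exact heE₀
      · exact Subgroup.eq_of_le_of_card_ge hE₀E (by rw [hk, hcardE])
    intro v hv
    have hv' : v ∈ E₀ := by rw [hE₀eq]; exact hv
    exact hv'.2
  -- an element of `N_G(P)` inverting `E`
  obtain ⟨n, hnP, hn_inv⟩ : ∃ n : G, (∀ x ∈ (P : Subgroup G), n * x * n⁻¹ ∈ (P : Subgroup G)) ∧
      ∀ v ∈ E, n * v * n⁻¹ = v⁻¹ := by
    have hPnE : (P : Subgroup G) ≤ Subgroup.normalizer (E : Set G) := by
      intro x hx v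
      constructor
      · exact hPE x hx v
      · intro hv
        have h1 := hPE x⁻¹ (Subgroup.inv_mem _ hx) _ hv
        have e1 : x⁻¹ * (x * v * x⁻¹) * x⁻¹⁻¹ = v := by group
        rw [e1] at h1
        exact h1
    have hPnC : (P : Subgroup G) ≤ Subgroup.normalizer
        ((Subgroup.centralizer (E : Set G) : Subgroup G) : Set G) := by
      rw [Subgroup.le_normalizer_iff]
      intro x hx c hc
      exact conj_mem_centralizer_of_mem_normalizer (hPnE hx) hc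
    have ht_inv' : ∀ v ∈ E, t⁻¹ * v * t = v⁻¹ := by
      intro v hv
      have h1 := ht_inv v⁻¹ (E.inv_mem hv)
      rw [inv_inv] at h1
      calc t⁻¹ * v * t = t⁻¹ * (t * v⁻¹ * t⁻¹) * t := by rw [h1]
        _ = v⁻¹ := by group
    have hP₂ : ((t • P : Sylow p G) : Subgroup G) ≤
        (P : Subgroup G) ⊔ Subgroup.centralizer (E : Set G) := by
      intro x' hx'
      rw [sylow_smul_coe, mem_map_conj_iff] at hx'
      obtain ⟨x, hxdef⟩ : ∃ x : G, x = t⁻¹ * x' * t := ⟨_, rfl⟩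
      rw [← hxdef] at hx'
      have hk : t * x * t⁻¹ * x⁻¹ ∈ Subgroup.centralizer (E : Set G) := by
        rw [Subgroup.mem_centralizer_iff]
        intro v hv
        have hv₁ : x⁻¹ * v * x ∈ E := by
          have h1 := hPE x⁻¹ (Subgroup.inv_mem _ hx') v hv
          rw [inv_inv] at h1
          exact h1
        have h1 : t⁻¹ * (x⁻¹ * v * x) * t = (x⁻¹ * v * x)⁻¹ := ht_inv' _ hv₁
        have h2 : t * v⁻¹ * t⁻¹ = v := by
          have h3 := ht_inv v⁻¹ (E.inv_mem hv)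
          rwa [inv_inv] at h3
        have hkv : (t * x * t⁻¹ * x⁻¹) * v * (t * x * t⁻¹ * x⁻¹)⁻¹ = v := by
          calc (t * x * t⁻¹ * x⁻¹) * v * (t * x * t⁻¹ * x⁻¹)⁻¹
              = t * (x * (t⁻¹ * (x⁻¹ * v * x) * t) * x⁻¹) * t⁻¹ := by group
            _ = t * (x * (x⁻¹ * v * x)⁻¹ * x⁻¹) * t⁻¹ := by rw [h1]
            _ = t * v⁻¹ * t⁻¹ := by group
            _ = v := h2
        calc v * (t * x * t⁻¹ * x⁻¹)
            = ((t * x * t⁻¹ * x⁻¹) * v * (t * x * t⁻¹ * x⁻¹)⁻¹) * (t * x * t⁻¹ * x⁻¹) := by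
              rw [hkv]
          _ = (t * x * t⁻¹ * x⁻¹) * v := by group
      have hx'eq : x' = (t * x * t⁻¹ * x⁻¹) * x := by rw [hxdef]; group
      rw [hx'eq]
      exact Subgroup.mul_mem _ (Subgroup.mem_sup_right hk) (Subgroup.mem_sup_left hx')
    have hsylP := isSylIn_of_sylow_le P
      (le_sup_left : (P : Subgroup G) ≤ (P : Subgroup G) ⊔ Subgroup.centralizer (E : Set G))
    have hsylP₂ := isSylIn_of_sylow_le (t • P) hP₂
    obtain ⟨m₂, hm₂, hPeq⟩ := hsylP₂.exists_conj hsylP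
    have hm₂' : m₂ ∈ (((P : Subgroup G) ⊔ Subgroup.centralizer (E : Set G) : Subgroup G) :
        Set G) := hm₂
    rw [Subgroup.coe_mul_of_left_le_normalizer_right _ _ hPnC] at hm₂'
    obtain ⟨x₂, hx₂, c₂, hc₂, rfl⟩ := hm₂'
    refine ⟨c₂ * t, ?_, ?_⟩
    · intro x hx
      have h1 : (x₂ * c₂) * (t * x * t⁻¹) * (x₂ * c₂)⁻¹ ∈
          ((t • P : Sylow p G) : Subgroup G).map (MulAut.conj (x₂ * c₂)).toMonoidHom := by
        rw [mem_map_conj_iff, sylow_smul_coe, mem_map_conj_iff]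
        have e1 : t⁻¹ * ((x₂ * c₂)⁻¹ * ((x₂ * c₂) * (t * x * t⁻¹) * (x₂ * c₂)⁻¹) * (x₂ * c₂)) * t
            = x := by group
        rw [e1]; exact hx
      rw [← hPeq] at h1
      have h2 := Subgroup.mul_mem _ (Subgroup.mul_mem _ (Subgroup.inv_mem _ hx₂) h1) hx₂
      have e2 : x₂⁻¹ * ((x₂ * c₂) * (t * x * t⁻¹) * (x₂ * c₂)⁻¹) * x₂
          = (c₂ * t) * x * (c₂ * t)⁻¹ := by group
      rw [e2] at h2
      exact h2
    · intro v hv
      have h1 := ht_inv v hv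
      have h2 := (Subgroup.mem_centralizer_iff.mp hc₂) v⁻¹ (E.inv_mem hv)
      calc (c₂ * t) * v * (c₂ * t)⁻¹ = c₂ * (t * v * t⁻¹) * c₂⁻¹ := by group
        _ = c₂ * v⁻¹ * c₂⁻¹ := by rw [h1]
        _ = v⁻¹ := by rw [← h2]; group
  -- the final contradiction
  have hapZ : a ^ p ∈ Z := hpowZ a haP
  have ha₂P : n * a * n⁻¹ ∈ (P : Subgroup G) := hnP a haP
  have ha₂p : (n * a * n⁻¹) ^ p = (a ^ p)⁻¹ := by
    rw [conj_pow]; exact hn_inv _ (hZE hapZ)
  have he₀E : n * a * n⁻¹ * a ∈ E := by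
    refine (hmemE _).mpr ⟨Subgroup.mul_mem _ ha₂P haP, ?_⟩
    rw [hmulpow _ ha₂P _ haP, ha₂p, inv_mul_cancel]
  have hc₀n : n * c₀ * n⁻¹ = c₀⁻¹ := hn_inv c₀ (hZE hc₀Z)
  have hen : n * e * n⁻¹ = e⁻¹ := hn_inv e heE
  have h1 : a⁻¹ * e⁻¹ * a = e⁻¹ * c₀ := by
    have h2 : a⁻¹ * c₀ * a = c₀ := by
      have h3 := hc₀cen a haP
      calc a⁻¹ * c₀ * a = a⁻¹ * (c₀ * a) := by group
        _ = a⁻¹ * (a * c₀) := by rw [h3]
        _ = c₀ := by group
    calc a⁻¹ * e⁻¹ * a = e⁻¹ * (a⁻¹ * (a * e * a⁻¹ * e⁻¹) * a) := by group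
      _ = e⁻¹ * c₀ := by rw [← hc₀, h2]
  have h3 : n * c₀ * n⁻¹ = c₀ := by
    obtain ⟨e₀, he₀⟩ : ∃ e₀ : G, e₀ = n * a * n⁻¹ * a := ⟨_, rfl⟩
    have he₀E' : e₀ ∈ E := by rw [he₀]; exact he₀E
    have ha₂ : n * a * n⁻¹ = e₀ * a⁻¹ := by rw [he₀]; group
    have h4 : c₀ * e₀⁻¹ = e₀⁻¹ * c₀ := (hc₀cen _ (Subgroup.inv_mem _ (hEP he₀E'))).symm
    have h5 : e⁻¹ * c₀ = c₀ * e⁻¹ := hc₀cen _ (Subgroup.inv_mem _ hgP)
    calc n * c₀ * n⁻¹
        = (n * a * n⁻¹) * (n * e * n⁻¹) * (n * a * n⁻¹)⁻¹ * (n * e * n⁻¹)⁻¹ := by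
          rw [hc₀]; group
      _ = (e₀ * a⁻¹) * e⁻¹ * (e₀ * a⁻¹)⁻¹ * e⁻¹⁻¹ := by rw [ha₂, hen]
      _ = e₀ * (a⁻¹ * e⁻¹ * a) * e₀⁻¹ * e := by group
      _ = e₀ * (e⁻¹ * c₀) * e₀⁻¹ * e := by rw [h1]
      _ = (e₀ * e⁻¹) * (c₀ * e₀⁻¹) * e := by group
      _ = (e⁻¹ * e₀) * (e₀⁻¹ * c₀) * e := by
          rw [hEcomm e₀ he₀E' e⁻¹ (E.inv_mem heE), h4]
      _ = (e⁻¹ * c₀) * e := by group
      _ = c₀ := by rw [h5]; group
  have hsq : c₀ ^ 2 = 1 := by
    have h4 : c₀⁻¹ = c₀ := by rw [← hc₀n, h3]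
    calc c₀ ^ 2 = c₀ * c₀ := pow_two c₀
      _ = c₀⁻¹ * c₀ := by rw [h4]
      _ = 1 := inv_mul_cancel c₀
  have hc₀p : c₀ ^ p = 1 := hZpow c₀ hc₀Z
  have hcop : Nat.Coprime 2 p := (Nat.coprime_primes Nat.prime_two hpp).mpr (Ne.symm hp)
  have hord : orderOf c₀ ∣ Nat.gcd 2 p :=
    Nat.dvd_gcd (orderOf_dvd_of_pow_eq_one hsq) (orderOf_dvd_of_pow_eq_one hc₀p)
  rw [hcop.gcd_eq_one, Nat.dvd_one, orderOf_eq_one_iff] at hord
  exact hc₀1 hord

end Cfsg.Agent.Helper55
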