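import Cfsg.Agent.H10.HO.Defs2

/-! HO-HG (S2075, helper10's project HO): an automorphism fixing `x, z, t` is trivial, via a
fourth generator `n` normalising `⟨z⟩`. -/

set_option autoImplicit false

namespace Cfsg.Agent.Helper55.Ho

open Cfsg.Agent.H10.HO

universe u

/-- an automorphism fixing `x, z, t` fixes every word in them -/
theorem evS_fixed {G : Type u} [Group G] (x z t : G) (β : MulAut G) (hx : β x = x)
    (hz : β z = z) (ht : β t = t) : ∀ w : List ℕ, β (evS x z t w) = evS x z t w := by
  intro w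
  induction w with
  | nil => simp [evS]
  | cons a w ih =>
    match a with
    | 0 => simp [evS, hx, ih]
    | 1 => simp [evS, hx, ih]
    | 2 => simp [evS, hz, ih]
    | 3 => simp [evS, hz, ih]
    | (m + 4) => simp [evS, ht, ih]

/-- HG. -/
theorem hg : StHG.{u} := by
  intro G _ x z t n k D hC hnz hD h1 h2 hgen β hx hz ht
  have hfix := evS_fixed x z t β hx hz ht
  have hcomm : ∀ d : G, β d = d → β (n * d * n⁻¹) = n * d * n⁻¹ →
      (n⁻¹ * β n) * d = d * (n⁻¹ * β n) := by
    intro d hd hnd
    have h : β n * d * (β n)⁻¹ = n * d * n⁻¹ := by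
      have h0 := hnd
      rw [map_mul, map_mul, map_inv, hd] at h0
      exact h0
    have h' : β n * d = n * d * n⁻¹ * β n := by
      rw [← h]
      group
    calc n⁻¹ * β n * d = n⁻¹ * (β n * d) := by group
      _ = n⁻¹ * (n * d * n⁻¹ * β n) := by rw [h']
      _ = d * (n⁻¹ * β n) := by group
  have hwz : (n⁻¹ * β n) * z = z * (n⁻¹ * β n) := by
    apply hcomm z hz
    rw [hnz, map_pow, hz]
  have hwD : ∀ p ∈ D, (n⁻¹ * β n) * evS x z t p.1 = evS x z t p.1 * (n⁻¹ * β n) := by
    intro p hp
    apply hcomm _ (hfix p.1)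
    rw [hD p hp]
    exact hfix p.2
  obtain ⟨a, ha, hw⟩ := hC _ hwz
  have hw1 : n⁻¹ * β n = 1 := by
    rcases hw with hw | hw
    · by_cases ha0 : a = 0
      · rw [hw, ha0, pow_zero]
      · exfalso
        obtain ⟨p, hp, hne⟩ := h1 a (Nat.pos_of_ne_zero ha0) ha
        apply hne
        have h3 := hwD p hp
        rw [hw] at h3
        exact h3
    · exfalso
      obtain ⟨p, hp, hne⟩ := h2 a ha
      apply hne
      have h3 := hwD p hp
      rw [hw] at h3
      exact h3
  have hn : β n = n := by
    have h3 : β n = n * (n⁻¹ * β n) := by group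
    rw [h3, hw1, mul_one]
  apply MulEquiv.ext
  intro g
  rw [MulAut.one_apply]
  have hg : g ∈ Subgroup.closure ({x, z, t, n} : Set G) := by
    rw [hgen]
    exact Subgroup.mem_top g
  induction hg using Subgroup.closure_induction with
  | mem y hy =>
    rcases hy with rfl | rfl | rfl | rfl
    exacts [hx, hz, ht, hn]
  | one => exact map_one β
  | mul a b _ _ ha hb => rw [map_mul, ha, hb]
  | inv a _ ha => rw [map_inv, ha]

example : Cfsg.Agent.H10.HO.StHG.{u} := hg

end Cfsg.Agent.Helper55.Ho
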