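import Mathlib
import Cfsg.Prelude.Def_JComponents
import Cfsg.Agent.Helper55.J48

/-! Maximal straddling 2-subgroups: existence, invariance under conjugation by `M`, and a
representative inside a given Sylow 2-subgroup of `G` contained in `M`. -/

set_option autoImplicit false
open Cfsg

namespace Cfsg.Agent.Helper55.JzMax

open Cfsg.Agent.Helper55 Cfsg.Agent.Helper55.ThJ Cfsg.Agent.Helper55.J48

universe u

variable {G : Type u} [Group G]

theorem map_conj_map_conj_inv (T : Subgroup G) (g : G) :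
    (T.map (MulAut.conj g).toMonoidHom).map (MulAut.conj g⁻¹).toMonoidHom = T := by
  ext x
  constructor
  · rintro ⟨_, ⟨t, ht, rfl⟩, rfl⟩
    simpa [MulAut.conj_apply, mul_assoc] using ht
  · intro hx
    exact ⟨g * x * g⁻¹, ⟨x, hx, rfl⟩, by simp [MulAut.conj_apply, mul_assoc]⟩

theorem map_conj_inv_map_conj (T : Subgroup G) (g : G) :
    (T.map (MulAut.conj g⁻¹).toMonoidHom).map (MulAut.conj g).toMonoidHom = T := by
  have h := map_conj_map_conj_inv T g⁻¹
  rw [inv_inv] at h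
  exact h

theorem card_map_conj (T : Subgroup G) (g : G) :
    Nat.card ↥(T.map (MulAut.conj g).toMonoidHom) = Nat.card ↥T :=
  Subgroup.card_map_of_injective (MulAut.conj g).injective

theorem a_conj_le [Finite G] (T : Subgroup G) (g : G) :
    maxElemAbelianOrder (T.map (MulAut.conj g).toMonoidHom) ≤ maxElemAbelianOrder T := by
  obtain ⟨A, hAT, hA, hcard⟩ := gens_nonempty (T.map (MulAut.conj g).toMonoidHom)
  rw [← hcard, ← card_map_conj A g⁻¹]
  apply card_le_a T
  · have h := Subgroup.map_mono (f := (MulAut.conj g⁻¹).toMonoidHom) hAT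
    rw [map_conj_map_conj_inv] at h
    exact h
  · exact Cfsg.Agent.H14.elemAb_map' hA _

theorem a_conj [Finite G] (T : Subgroup G) (g : G) :
    maxElemAbelianOrder (T.map (MulAut.conj g).toMonoidHom) = maxElemAbelianOrder T := by
  apply le_antisymm (a_conj_le T g)
  have h := a_conj_le (T.map (MulAut.conj g).toMonoidHom) g⁻¹
  rw [map_conj_map_conj_inv] at h
  exact h

theorem card_J_conj (T : Subgroup G) (g : G) :
    Nat.card ↥(thompsonSubgroupOf 2 (T.map (MulAut.conj g).toMonoidHom)) =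
      Nat.card ↥(thompsonSubgroupOf 2 T) := by
  rw [← Cfsg.Agent.H14.thompsonSubgroupOf_conj 2 g T, card_map_conj]

theorem isTwoLocal_conj {L : Subgroup G} (h : IsTwoLocal L) (g : G) :
    IsTwoLocal (L.map (MulAut.conj g).toMonoidHom) := by
  obtain ⟨P, hP, hP1, rfl⟩ := h
  refine ⟨P.map (MulAut.conj g).toMonoidHom, hP.map _, ?_, ?_⟩
  · intro hb
    apply hP1
    rw [← map_conj_map_conj_inv P g, hb, Subgroup.map_bot]
  · exact Subgroup.map_equiv_normalizer_eq P (MulAut.conj g)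

theorem map_conj_le_of_mem {T M : Subgroup G} (hTM : T ≤ M) {m : G} (hm : m ∈ M) :
    T.map (MulAut.conj m).toMonoidHom ≤ M := by
  rintro _ ⟨t, ht, rfl⟩
  exact M.mul_mem (M.mul_mem hm (hTM ht)) (M.inv_mem hm)

theorem straddling_conj {M T : Subgroup G} (hT : T ∈ straddlingTwoSubgroups M) {m : G}
    (hm : m ∈ M) : T.map (MulAut.conj m).toMonoidHom ∈ straddlingTwoSubgroups M := by
  obtain ⟨hT2, hT1, hTM, L, hL, hTL, hLM⟩ := hT
  refine ⟨hT2.map _, ?_, map_conj_le_of_mem hTM hm, L.map (MulAut.conj m).toMonoidHom,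
    isTwoLocal_conj hL m, Subgroup.map_mono hTL, ?_⟩
  · intro hb
    apply hT1
    rw [← map_conj_map_conj_inv T m, hb, Subgroup.map_bot]
  · intro hle
    apply hLM
    have h := map_conj_le_of_mem hle (M.inv_mem hm)
    rw [map_conj_map_conj_inv] at h
    exact h

theorem maxStraddling_conj [Finite G] {M T : Subgroup G} (hT : T ∈ maxStraddlingTwoSubgroups M)
    {m : G} (hm : m ∈ M) : T.map (MulAut.conj m).toMonoidHom ∈ maxStraddlingTwoSubgroups M := by
  refine ⟨straddling_conj hT.1 hm, ?_⟩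
  intro T₁ hT₁
  rw [a_conj, card_J_conj, card_map_conj]
  exact hT.2 T₁ hT₁

/-- a nonempty family of straddling subgroups has a maximal member -/
theorem exists_maxStraddling [Finite G] {M : Subgroup G}
    (h : (straddlingTwoSubgroups M).Nonempty) : (maxStraddlingTwoSubgroups M).Nonempty := by
  classical
  obtain ⟨T₁, hT₁, hmax₁⟩ := Set.exists_max_image (straddlingTwoSubgroups M)
    maxElemAbelianOrder (Set.toFinite _) h
  obtain ⟨T₂, hT₂, hmax₂⟩ := Set.exists_max_image
    {T | T ∈ straddlingTwoSubgroups M ∧ maxElemAbelianOrder T = maxElemAbelianOrder T₁}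
    (fun T => Nat.card ↥(thompsonSubgroupOf 2 T)) (Set.toFinite _) ⟨T₁, hT₁, rfl⟩
  obtain ⟨T₃, hT₃, hmax₃⟩ := Set.exists_max_image
    {T | (T ∈ straddlingTwoSubgroups M ∧ maxElemAbelianOrder T = maxElemAbelianOrder T₁) ∧
      Nat.card ↥(thompsonSubgroupOf 2 T) = Nat.card ↥(thompsonSubgroupOf 2 T₂)}
    (fun T => Nat.card ↥T) (Set.toFinite _) ⟨T₂, hT₂, rfl⟩
  refine ⟨T₃, hT₃.1.1, ?_⟩
  intro T hT
  rw [hT₃.1.2, hT₃.2]
  refine ⟨hmax₁ T hT, fun ha => ⟨hmax₂ T ⟨hT, ha⟩, fun hj => hmax₃ T ⟨⟨hT, ha⟩, hj⟩⟩⟩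

/-- a maximal straddling subgroup inside a given Sylow 2-subgroup `S ≤ M` -/
theorem exists_maxStraddling_le [Finite G] {M : Subgroup G} (S : Sylow 2 G)
    (hSM : (S : Subgroup G) ≤ M) (h : (straddlingTwoSubgroups M).Nonempty) :
    ∃ T ∈ maxStraddlingTwoSubgroups M, T ≤ (S : Subgroup G) := by
  obtain ⟨T, hT⟩ := exists_maxStraddling h
  obtain ⟨m, hmM, hTS⟩ := exists_sylow_conj S M hSM T hT.1.1 hT.1.2.2.1
  refine ⟨T.map (MulAut.conj m⁻¹).toMonoidHom, maxStraddling_conj hT (M.inv_mem hmM), ?_⟩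
  rintro _ ⟨t, ht, rfl⟩
  have h1 := hTS ht
  rw [Sylow.coe_subgroup_smul, Subgroup.mem_pointwise_smul_iff_inv_smul_mem] at h1
  simpa [MulAut.smul_def, MulAut.conj_apply] using h1

end Cfsg.Agent.Helper55.JzMax
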