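import Cfsg.Agent.H64.JzDefs
import Cfsg.Agent.Helper55.JzMax

/-! JZ-MAXS (S2951, helper64's project JZ). -/

set_option autoImplicit false
open Cfsg

namespace Cfsg.Agent.Helper55.Jz

universe u

/-- MAXS: a nonempty straddling family has a maximal member inside a given Sylow 2-subgroup of
`G` contained in `M`. -/
theorem maxS : Cfsg.Agent.H64.Jz.StMaxS.{u} := by
  intro G _ _ S M hSM h
  obtain ⟨T, hT, hTS⟩ := Cfsg.Agent.Helper55.JzMax.exists_maxStraddling_le S hSM h
  exact ⟨T, hT, hTS⟩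

example : Cfsg.Agent.H64.Jz.StMaxS.{u} := maxS

end Cfsg.Agent.Helper55.Jz
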