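import Mathlib.GroupTheory.GroupAction.Quotient
import Mathlib.GroupTheory.PGroup
import Mathlib.GroupTheory.SpecificGroups.Cyclic
import Mathlib.GroupTheory.Commutator.Finite
import Cfsg.Prelude.Def_OddOrderLocal
import Cfsg.Agent.Helper55.ConjPow

/-!
# helper55: metacyclic `p`-groups, `p` odd: `|G : Z(G)| = |G'| ^ 2`
-/

set_option autoImplicit false

namespace Cfsg.Agent.Helper55

/-- Iterated lifting of the exponent. -/
theorem int_pow_dvd_sub_one_of_pow_prime_pow {p : ℕ} [Fact p.Prime] (hodd : p ≠ 2) (j : ℕ) :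
    ∀ (m : ℕ) (r : ℤ), (p : ℤ) ^ (m + j) ∣ r ^ (p ^ j) - 1 → (p : ℤ) ^ m ∣ r - 1 := by
  induction j with
  | zero => intro m r h; simpa using h
  | succ j ih =>
    intro m r h
    apply ih m r
    apply int_pow_dvd_sub_one_of_pow_prime hodd (m := m + j)
    rw [← pow_mul, ← pow_succ]
    exact h

theorem metacyclic_index_center {G : Type*} [Group G] [Finite G] {p : ℕ} [Fact p.Prime]
    (hp : p ≠ 2) (hG : IsPGroup p G) (hmc : Cfsg.IsMetacyclic G) :
    (Subgroup.center G).index = Nat.card ↥(commutator G) ^ 2 := by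
  have hpp : p.Prime := Fact.out
  obtain ⟨N, hN, hNc, hQc⟩ := hmc
  haveI := hN
  haveI := hNc
  haveI := hQc
  obtain ⟨⟨a, haN⟩, ha⟩ := IsCyclic.exists_generator (α := ↥N)
  obtain ⟨q, hq⟩ := IsCyclic.exists_generator (α := G ⧸ N)
  obtain ⟨b, rfl⟩ := QuotientGroup.mk_surjective q
  have hNa : ∀ x ∈ N, ∃ k : ℤ, a ^ k = x := by
    intro x hx
    obtain ⟨k, hk⟩ := Subgroup.mem_zpowers_iff.mp (ha ⟨x, hx⟩)
    refine ⟨k, ?_⟩
    have := congrArg Subtype.val hk
    simpa using this
  have hGb : ∀ g : G, ∃ k : ℤ, ∃ x ∈ N, g = b ^ k * x := by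
    intro g
    obtain ⟨k, hk⟩ := Subgroup.mem_zpowers_iff.mp (hq (QuotientGroup.mk g))
    rw [← QuotientGroup.mk_zpow] at hk
    have h1 := QuotientGroup.eq.mp hk
    exact ⟨k, (b ^ k)⁻¹ * g, h1, by group⟩
  have hNab : ∀ x ∈ N, ∀ y ∈ N, x * y = y * x := by
    intro x hx y hy
    obtain ⟨k, rfl⟩ := hNa x hx
    obtain ⟨l, rfl⟩ := hNa y hy
    exact ((Commute.refl a).zpow_zpow k l).eq
  have hNcomm : ∀ x ∈ N, x * a = a * x := fun x hx => hNab x hx a haN
  -- central criterion
  have hcen : ∀ g : G, g * a = a * g → g * b = b * g → g ∈ Subgroup.center G := by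
    intro g h1 h2
    rw [Subgroup.mem_center_iff]
    intro h
    obtain ⟨k, x, hx, rfl⟩ := hGb h
    obtain ⟨l, rfl⟩ := hNa x hx
    have c1 : Commute g (b ^ k) := (show Commute g b from h2).zpow_right k
    have c2 : Commute g (a ^ l) := (show Commute g a from h1).zpow_right l
    exact ((c1.mul_right c2).eq).symm
  -- the commutator `c = [b, a]`
  have hbab : b * a * b⁻¹ ∈ N := hN.conj_mem a haN b
  obtain ⟨r, hr⟩ := hNa _ hbab
  obtain ⟨c, hc⟩ : ∃ c : G, c = b * a * b⁻¹ * a⁻¹ := ⟨_, rfl⟩
  have hcN : c ∈ N := by rw [hc]; exact N.mul_mem hbab (N.inv_mem haN)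
  have hc_pow : c = a ^ (r - 1) := by rw [hc, ← hr, zpow_sub_one]
  have hDn : (Subgroup.zpowers c).Normal := by
    constructor
    intro d hd g
    obtain ⟨k, rfl⟩ := Subgroup.mem_zpowers_iff.mp hd
    obtain ⟨s, hs⟩ := hNa _ (hN.conj_mem a haN g)
    have h1 : g * c * g⁻¹ = c ^ s := by
      rw [hc_pow, ← conj_zpow, ← hs, ← zpow_mul, ← zpow_mul, mul_comm]
    rw [← conj_zpow, h1]
    exact Subgroup.zpow_mem _ (Subgroup.zpow_mem _ (Subgroup.mem_zpowers c) s) k
  -- the commutator subgroup
  have hcomm_le : commutator G ≤ Subgroup.zpowers c := by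
    rw [commutator_def, Subgroup.commutator_le]
    intro g₁ _ g₂ _
    have key : ∀ u v : G ⧸ Subgroup.zpowers c, u * v = v * u := by
      have hab : Commute (QuotientGroup.mk b : G ⧸ Subgroup.zpowers c) (QuotientGroup.mk a) := by
        have h1 : (QuotientGroup.mk (b * a * b⁻¹ * a⁻¹) : G ⧸ Subgroup.zpowers c) = 1 := by
          rw [QuotientGroup.eq_one_iff, ← hc]; exact Subgroup.mem_zpowers c
        rw [QuotientGroup.mk_mul, QuotientGroup.mk_mul, QuotientGroup.mk_mul, QuotientGroup.mk_inv,
          QuotientGroup.mk_inv] at h1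
        show (QuotientGroup.mk b : G ⧸ Subgroup.zpowers c) * QuotientGroup.mk a
          = QuotientGroup.mk a * QuotientGroup.mk b
        calc (QuotientGroup.mk b : G ⧸ Subgroup.zpowers c) * QuotientGroup.mk a
            = (QuotientGroup.mk b * QuotientGroup.mk a * (QuotientGroup.mk b)⁻¹
                * (QuotientGroup.mk a)⁻¹) * (QuotientGroup.mk a * QuotientGroup.mk b) := by group
          _ = QuotientGroup.mk a * QuotientGroup.mk b := by rw [h1, one_mul]
      intro u v
      induction u using QuotientGroup.induction_on with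
      | H g =>
      induction v using QuotientGroup.induction_on with
      | H h =>
      obtain ⟨k, x, hx, rfl⟩ := hGb g
      obtain ⟨l, rfl⟩ := hNa x hx
      obtain ⟨k', x', hx', rfl⟩ := hGb h
      obtain ⟨l', rfl⟩ := hNa x' hx'
      simp only [QuotientGroup.mk_mul, QuotientGroup.mk_zpow]
      have cBB := (Commute.refl (QuotientGroup.mk b : G ⧸ Subgroup.zpowers c)).zpow_zpow k k'
      have cBA := hab.zpow_zpow k l'
      have cAB := hab.symm.zpow_zpow l k'
      have cAA := (Commute.refl (QuotientGroup.mk a : G ⧸ Subgroup.zpowers c)).zpow_zpow l l'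
      exact ((cBB.mul_right cBA).mul_left (cAB.mul_right cAA)).eq
    rw [← QuotientGroup.eq_one_iff, commutatorElement_def, QuotientGroup.mk_mul,
      QuotientGroup.mk_mul, QuotientGroup.mk_mul, QuotientGroup.mk_inv, QuotientGroup.mk_inv,
      key (QuotientGroup.mk g₁) (QuotientGroup.mk g₂)]
    group
  have hcomm_eq : commutator G = Subgroup.zpowers c := by
    apply le_antisymm hcomm_le
    rw [Subgroup.zpowers_le, commutator_def, hc]
    exact Subgroup.commutator_mem_commutator (Subgroup.mem_top b) (Subgroup.mem_top a)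
  have hcard_comm : Nat.card ↥(commutator G) = orderOf c := by rw [hcomm_eq, Nat.card_zpowers]
  -- the commutator map on `N`
  let φ : ↥N →* ↥N := MonoidHom.mk'
    (fun x => ⟨b * x * b⁻¹ * (x : G)⁻¹, N.mul_mem (hN.conj_mem x x.2 b) (N.inv_mem x.2)⟩) (by
      intro x y
      apply Subtype.ext
      have hmem : b * (y : G) * b⁻¹ * (y : G)⁻¹ ∈ N :=
        N.mul_mem (hN.conj_mem y y.2 b) (N.inv_mem y.2)
      have h1 := hNab _ hmem _ (N.inv_mem x.2)
      show b * ((x : G) * (y : G)) * b⁻¹ * ((x : G) * (y : G))⁻¹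
        = (b * (x : G) * b⁻¹ * (x : G)⁻¹) * (b * (y : G) * b⁻¹ * (y : G)⁻¹)
      calc b * ((x : G) * (y : G)) * b⁻¹ * ((x : G) * (y : G))⁻¹
          = (b * (x : G) * b⁻¹) * ((b * (y : G) * b⁻¹ * (y : G)⁻¹) * (x : G)⁻¹) := by group
        _ = (b * (x : G) * b⁻¹) * ((x : G)⁻¹ * (b * (y : G) * b⁻¹ * (y : G)⁻¹)) := by rw [h1]
        _ = (b * (x : G) * b⁻¹ * (x : G)⁻¹) * (b * (y : G) * b⁻¹ * (y : G)⁻¹) := by group)
  have hφapp : ∀ x : ↥N, ((φ x : ↥N) : G) = b * x * b⁻¹ * (x : G)⁻¹ := fun x => rfl
  have hφker : φ.ker = (Subgroup.center G).subgroupOf N := by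
    ext ⟨x, hx⟩
    rw [MonoidHom.mem_ker, Subgroup.mem_subgroupOf]
    constructor
    · intro h
      have h1 : b * x * b⁻¹ * x⁻¹ = 1 := by
        have := congrArg Subtype.val h
        rw [hφapp] at this
        exact this
      apply hcen x (hNcomm x hx)
      calc x * b = (b * x * b⁻¹ * x⁻¹)⁻¹ * (b * x) := by group
        _ = b * x := by rw [h1]; group
    · intro h
      apply Subtype.ext
      rw [hφapp]
      have h1 : b * x = x * b := Subgroup.mem_center_iff.mp h b
      show b * x * b⁻¹ * x⁻¹ = 1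
      rw [h1]; group
  have hφrange : Nat.card φ.range = orderOf c := by
    have htop : (⊤ : Subgroup ↥N) = Subgroup.zpowers ⟨a, haN⟩ :=
      ((Subgroup.eq_top_iff' _).mpr ha).symm
    rw [MonoidHom.range_eq_map, htop, MonoidHom.map_zpowers, Nat.card_zpowers,
      ← Subgroup.orderOf_coe, hφapp, hc]
  have hrel : (Subgroup.center G).relIndex N = orderOf c := by
    rw [Subgroup.relIndex, ← hφker, Subgroup.index_ker, hφrange]
  -- the centralizer of `N`
  have hCmem : ∀ g : G, g ∈ Subgroup.centralizer (N : Set G) ↔ g * a = a * g := by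
    intro g
    rw [Subgroup.mem_centralizer_iff]
    constructor
    · intro h; exact (h a haN).symm
    · intro h x hx
      obtain ⟨k, rfl⟩ := hNa x hx
      exact ((show Commute g a from h).zpow_right k).eq.symm
  have hZC : Subgroup.center G ≤ Subgroup.centralizer (N : Set G) :=
    Subgroup.center_le_centralizer _
  have hCeq : Subgroup.centralizer (N : Set G) = N ⊔ Subgroup.center G := by
    apply le_antisymm
    · intro g hg
      obtain ⟨k, x, hx, rfl⟩ := hGb g
      have h2 := (hCmem _).mp hg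
      have h3 := hNcomm x hx
      have h4 : b ^ k * a * x = a * b ^ k * x := by
        calc b ^ k * a * x = b ^ k * (a * x) := by group
          _ = b ^ k * (x * a) := by rw [h3]
          _ = b ^ k * x * a := by group
          _ = a * (b ^ k * x) := h2
          _ = a * b ^ k * x := by group
      have h1 : b ^ k * a = a * b ^ k := mul_right_cancel h4
      have hbk : b ^ k ∈ Subgroup.center G := hcen _ h1 ((Commute.refl b).zpow_left k).eq
      exact Subgroup.mul_mem _ (Subgroup.mem_sup_right hbk) (Subgroup.mem_sup_left hx)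
    · apply sup_le
      · intro x hx; exact (hCmem x).mpr (hNcomm x hx)
      · exact hZC
  have h1 := Subgroup.relIndex_mul_index hZC
  have h2 : (Subgroup.center G).relIndex (Subgroup.centralizer (N : Set G)) = orderOf c := by
    rw [hCeq, Subgroup.relIndex_sup_right, hrel]
  have hCa : Subgroup.centralizer (N : Set G) = Subgroup.centralizer ({a} : Set G) := by
    ext g
    rw [hCmem, Subgroup.mem_centralizer_iff]
    constructor
    · intro h x hx; rw [Set.mem_singleton_iff.mp hx]; exact h.symm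
    · intro h; exact (h a rfl).symm
  have h3 : (Subgroup.centralizer (N : Set G)).index ≤ orderOf c := by
    rw [hCa, ← hcard_comm]
    have e1 : (Subgroup.centralizer ({a} : Set G)).index ≤ Nat.card (commutatorSet G) :=
      Nat.card_le_card_of_injective _ (Subgroup.quotientCentralizerEmbedding a).injective
    have hsub : commutatorSet G ⊆ (commutator G : Set G) := by
      rw [commutator_eq_closure]; exact Subgroup.subset_closure
    have e2 : Nat.card (commutatorSet G) ≤ Nat.card ↥(commutator G) :=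
      Nat.card_le_card_of_injective (fun x => (⟨x.1, hsub x.2⟩ : ↥(commutator G)))
        (fun x y h => Subtype.ext (by
          have h' := congrArg (Subtype.val : ↥(commutator G) → G) h
          exact h'))
    exact e1.trans e2
  have h4 : orderOf c ≤ (Subgroup.centralizer (N : Set G)).index := by
    obtain ⟨j, hj⟩ := hG.index (Subgroup.centralizer (N : Set G))
    obtain ⟨n, hn⟩ := (IsPGroup.iff_orderOf.mp hG) a
    have hb : b ^ p ^ j ∈ Subgroup.centralizer (N : Set G) := by
      rw [← hj]; exact Subgroup.pow_index_mem _ b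
    have hb' := (hCmem _).mp hb
    have h5 : a ^ (r ^ (p ^ j)) = a ^ (1 : ℤ) := by
      rw [← pow_conj_of_conj_eq hr.symm (p ^ j), hb', zpow_one, mul_inv_cancel_right]
    rw [zpow_eq_zpow_iff_modEq, hn, Int.modEq_iff_dvd] at h5
    push_cast at h5
    have h6 : ((p : ℤ)) ^ n ∣ (r - 1) * (p : ℤ) ^ j := by
      by_cases hnj : n ≤ j
      · exact dvd_mul_of_dvd_right (pow_dvd_pow _ hnj) _
      · push Not at hnj
        obtain ⟨m, rfl⟩ : ∃ m, n = m + j := ⟨n - j, by omega⟩
        have h7 : (p : ℤ) ^ m ∣ r - 1 :=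
          int_pow_dvd_sub_one_of_pow_prime_pow hp j m r (dvd_sub_comm.mp h5)
        rw [pow_add]; exact mul_dvd_mul_right h7 _
    have h8 : c ^ (p ^ j) = 1 := by
      rw [hc_pow, ← zpow_natCast, ← zpow_mul]
      apply orderOf_dvd_iff_zpow_eq_one.mp
      rw [hn]; push_cast; exact h6
    have h9 := orderOf_dvd_of_pow_eq_one h8
    rw [hj]; exact Nat.le_of_dvd (pow_pos hpp.pos j) h9
  have h5 : (Subgroup.centralizer (N : Set G)).index = orderOf c := le_antisymm h3 h4
  rw [← h1, h2, h5, hcard_comm, pow_two]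

end Cfsg.Agent.Helper55
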