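import Cfsg.Prelude.Def_IsolatedElements
import Cfsg.Agent.Helper55.Isolated
import Cfsg.Agent.Helper55.PPrimeCore
import Cfsg.Agent.Helper55.Coprime

/-!
# helper55: minimal counterexamples to the `Z*_p` statement — shared lemmas
-/

set_option autoImplicit false

namespace Cfsg.Agent.Helper55

open scoped Pointwise

variable {G : Type*} [Group G]

/-- In a finite group, an element conjugating a subgroup into itself normalizes it. -/
theorem mem_normalizer_of_conj_mem [Finite G] {H : Subgroup G} {x : G}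
    (h : ∀ z ∈ H, x * z * x⁻¹ ∈ H) : x ∈ Subgroup.normalizer (H : Set G) := by
  rw [Subgroup.mem_normalizer_iff_map_conj_eq]
  have hle : H.map (MulAut.conj x : G →* G) ≤ H := by
    rintro _ ⟨z, hz, rfl⟩
    exact h z hz
  have hcard : Nat.card (H.map (MulAut.conj x : G →* G)) = Nat.card H :=
    Nat.card_congr (H.equivMapOfInjective (MulAut.conj x : G →* G) (MulAut.conj x).injective).symm.toEquiv
  exact Subgroup.eq_of_le_of_card_ge hle (le_of_eq hcard.symm)

/-- In a minimal counterexample to the `Z*_p` statement, `O_{p'}(G) = 1`. -/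
theorem minc_pPrimeCore_eq_bot [Finite G] {p : ℕ} (x : G) (hnz : ¬ Cfsg.InZStar p x)
    (hquot : ∀ (N : Subgroup G) [N.Normal], N ≠ ⊥ →
      Cfsg.InZStar p (QuotientGroup.mk x : G ⧸ N)) :
    Cfsg.pPrimeCore p G = ⊥ := by
  by_contra hne
  have hn := pPrimeCore_normal' p G
  have h1 := hquot (Cfsg.pPrimeCore p G) hne
  apply hnz
  intro g
  have h2 := h1 (QuotientGroup.mk g)
  rw [pPrimeCore_quotient_eq_bot, Subgroup.mem_bot] at h2
  have h3 : ((g * x * g⁻¹ * x⁻¹ : G) : G ⧸ Cfsg.pPrimeCore p G) = 1 := by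
    simpa using h2
  exact (QuotientGroup.eq_one_iff _).mp h3

/-- Isolated `p`-elements: the centralizer permutes the invariant Sylow `q`-subgroups
transitively. -/
theorem isIsolated_exists_centralizer_conj_sylow [Finite G] {p : ℕ} [Fact p.Prime] {x : G}
    (hx : ∃ k : ℕ, orderOf x = p ^ k) (hiso : Cfsg.IsIsolated x) {q : ℕ} [Fact q.Prime]
    (S₁ S₂ : Sylow q G) (h₁ : x ∈ Subgroup.normalizer ((S₁ : Subgroup G) : Set G))
    (h₂ : x ∈ Subgroup.normalizer ((S₂ : Subgroup G) : Set G)) :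
    ∃ c ∈ Subgroup.centralizer ({x} : Set G),
      (S₁ : Subgroup G).map (MulAut.conj c).toMonoidHom = (S₂ : Subgroup G) := by
  obtain ⟨g, hg⟩ := MulAction.exists_smul_eq G S₁ S₂
  have hx₁ : x • S₁ = S₁ := Sylow.smul_eq_iff_mem_normalizer.mpr h₁
  have hx' : (g * x * g⁻¹) • S₂ = S₂ := by
    rw [← hg, mul_smul, mul_smul, inv_smul_smul, hx₁]
  have hx'N : g * x * g⁻¹ ∈ Subgroup.normalizer ((S₂ : Subgroup G) : Set G) :=
    Sylow.smul_eq_iff_mem_normalizer.mp hx'
  obtain ⟨h, hh, hhx⟩ := isIsolated_exists_conj_of_mem hx hiso _ h₂ hx'N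
  have hh' : h • S₂ = S₂ := Sylow.smul_eq_iff_mem_normalizer.mpr hh
  refine ⟨h⁻¹ * g, ?_, ?_⟩
  · rw [Subgroup.mem_centralizer_iff]
    intro y hy
    rw [Set.mem_singleton_iff.mp hy]
    have e : (h⁻¹ * g) * x * (h⁻¹ * g)⁻¹ = x := by
      have : (h⁻¹ * g) * x * (h⁻¹ * g)⁻¹ = h⁻¹ * (g * x * g⁻¹) * h := by simp [mul_assoc]
      rw [this, ← hhx]; simp [mul_assoc]
    calc x * (h⁻¹ * g) = ((h⁻¹ * g) * x * (h⁻¹ * g)⁻¹) * (h⁻¹ * g) := by rw [e]
      _ = h⁻¹ * g * x := by simp [mul_assoc]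
  · have e : (h⁻¹ * g) • S₁ = S₂ := by
      rw [mul_smul, hg, inv_smul_eq_iff, hh']
    ext z
    rw [mem_map_conj_iff, ← sylow_smul_mem_iff e]

end Cfsg.Agent.Helper55
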