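import Mathlib.GroupTheory.Transfer
import Mathlib.GroupTheory.Abelianization.Defs
import Cfsg.Agent.Helper55.MinCounter
import Cfsg.Agent.Helper55.CharP

/-!
# helper55: minimal counterexamples to the `Z*_p` statement — structure of `G`
-/

set_option autoImplicit false

namespace Cfsg.Agent.Helper55

open scoped Pointwise commutatorElement

section

variable {G : Type*} [Group G] [Finite G] {p : ℕ} [Fact p.Prime] (x : G)

/-- If all conjugates of `x` equal `x` then `x` is in `Z*`. -/
theorem inZStar_of_forall_conj_eq (h : ∀ g : G, g * x * g⁻¹ = x) : Cfsg.InZStar p x := by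
  intro g
  rw [h g, mul_inv_cancel]
  exact Subgroup.one_mem _

/-- (b): a normal subgroup either supplements `⟨x⟩` or is centralized by `x`. -/
theorem minc_normal_dichotomy (hO : Cfsg.pPrimeCore p G = ⊥)
    (hmin : ∀ (H : Subgroup G) (hxH : x ∈ H), H ≠ ⊤ → Cfsg.InZStar p (⟨x, hxH⟩ : ↥H))
    (N : Subgroup G) [hN : N.Normal] :
    N ⊔ Subgroup.zpowers x = ⊤ ∨ ∀ n ∈ N, n * x = x * n := by
  by_cases htop : N ⊔ Subgroup.zpowers x = ⊤
  · exact Or.inl htop
  right
  set H : Subgroup G := N ⊔ Subgroup.zpowers x with hH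
  have hxH : x ∈ H := Subgroup.mem_sup_right (Subgroup.mem_zpowers x)
  have hNH : N ≤ H := le_sup_left
  have hz := hmin H hxH htop
  set K : Subgroup ↥H := Cfsg.pPrimeCore p ↥H with hK
  have hKn : K.Normal := pPrimeCore_normal' p ↥H
  have hKc : (Nat.card K).Coprime p := coprime_card_pPrimeCore p ↥H
  set M : Subgroup G := K.map H.subtype ⊓ N with hM
  have hMbot : M = ⊥ := by
    apply eq_bot_of_normal_in_normal_of_coprime hO N M inf_le_right
    · rw [Subgroup.le_normalizer_iff]
      intro n hn m hm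
      obtain ⟨hm1, hm2⟩ := Subgroup.mem_inf.mp hm
      refine Subgroup.mem_inf.mpr ⟨?_, hN.conj_mem m hm2 n⟩
      obtain ⟨k, hk, rfl⟩ := hm1
      exact ⟨(⟨n, hNH hn⟩ : H) * k * (⟨n, hNH hn⟩ : H)⁻¹, hKn.conj_mem k hk _, by simp⟩
    · have h1 : Nat.card M ∣ Nat.card (K.map H.subtype) := Subgroup.card_dvd_of_le inf_le_left
      have h2 : Nat.card (K.map H.subtype) = Nat.card K :=
        Nat.card_congr (K.equivMapOfInjective H.subtype H.subtype_injective).symm.toEquiv
      rw [h2] at h1
      exact Nat.Coprime.coprime_dvd_left h1 hKc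
  intro n hn
  have h1 := hz ⟨n, hNH hn⟩
  have h2 : n * x * n⁻¹ * x⁻¹ ∈ M := by
    refine Subgroup.mem_inf.mpr ⟨⟨_, h1, by simp⟩, ?_⟩
    have h3 : x * n⁻¹ * x⁻¹ ∈ N := hN.conj_mem _ (N.inv_mem hn) x
    have e : n * x * n⁻¹ * x⁻¹ = n * (x * n⁻¹ * x⁻¹) := by simp [mul_assoc]
    rw [e]; exact N.mul_mem hn h3
  rw [hMbot, Subgroup.mem_bot] at h2
  have h4 : n * x * n⁻¹ = x := by
    have := mul_inv_eq_one.mp h2
    exact this
  calc n * x = (n * x * n⁻¹) * n := by simp [mul_assoc]
    _ = x * n := by rw [h4]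

/-- (c): `G` is the normal closure of `x`. -/
theorem minc_normalClosure (hiso : Cfsg.IsIsolated x) (hnz : ¬ Cfsg.InZStar p x)
    (hO : Cfsg.pPrimeCore p G = ⊥)
    (hmin : ∀ (H : Subgroup G) (hxH : x ∈ H), H ≠ ⊤ → Cfsg.InZStar p (⟨x, hxH⟩ : ↥H)) :
    Subgroup.normalClosure ({x} : Set G) = ⊤ := by
  have hxM : x ∈ Subgroup.normalClosure ({x} : Set G) := Subgroup.subset_normalClosure rfl
  rcases minc_normal_dichotomy x hO hmin (Subgroup.normalClosure ({x} : Set G)) with h | h
  · rw [← h]
    exact (sup_eq_left.mpr (by rw [Subgroup.zpowers_le]; exact hxM)).symm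
  · exfalso
    apply hnz
    apply inZStar_of_forall_conj_eq
    intro g
    apply hiso
    have h1 : g * x * g⁻¹ ∈ Subgroup.normalClosure ({x} : Set G) :=
      Subgroup.normalClosure_normal.conj_mem x hxM g
    exact (h _ h1).symm

/-- (e): the centre of `G` is trivial. -/
theorem minc_center_eq_bot (hiso : Cfsg.IsIsolated x) (hnz : ¬ Cfsg.InZStar p x)
    (hO : Cfsg.pPrimeCore p G = ⊥)
    (hquot : ∀ (N : Subgroup G) [N.Normal], N ≠ ⊥ →
      Cfsg.InZStar p (QuotientGroup.mk x : G ⧸ N)) :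
    Subgroup.center G = ⊥ := by
  classical
  have hp : p.Prime := Fact.out
  by_contra hZ
  set Z : Subgroup G := Subgroup.center G with hZdef
  have hq := hquot Z hZ
  set Kb : Subgroup (G ⧸ Z) := Cfsg.pPrimeCore p (G ⧸ Z) with hKb
  have hKbn : Kb.Normal := pPrimeCore_normal' p (G ⧸ Z)
  have hKbc : (Nat.card Kb).Coprime p := coprime_card_pPrimeCore p (G ⧸ Z)
  set π : G →* G ⧸ Z := QuotientGroup.mk' Z with hπ
  have hsurj : Function.Surjective π := QuotientGroup.mk'_surjective Z
  set K : Subgroup G := Kb.comap π with hK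
  have hKn : K.Normal := hKbn.comap π
  have hZK : Z ≤ K := by
    intro z hz
    rw [hK, Subgroup.mem_comap]
    have : π z = 1 := by rw [hπ, QuotientGroup.mk'_apply, QuotientGroup.eq_one_iff]; exact hz
    rw [this]; exact Subgroup.one_mem _
  have hker : π.ker = Z := QuotientGroup.ker_mk' Z
  have e1 : Z.relIndex K = Nat.card Kb := by
    have := Subgroup.relIndex_ker (K := K) π
    rw [hker] at this
    rw [this, hK, Subgroup.map_comap_eq_self_of_surjective hsurj]
  have e2 : Nat.card Z * Nat.card Kb = Nat.card K := by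
    have := Subgroup.relIndex_mul_relIndex (H := (⊥ : Subgroup G)) (K := Z) (L := K) bot_le hZK
    rwa [Subgroup.relIndex_bot_left, Subgroup.relIndex_bot_left, e1] at this
  -- Z is a p-group
  have hZp : IsPGroup p Z := by
    apply isPGroup_of_forall_coprime_eq_one
    intro z hcop
    have hzc : (z : G) ∈ Subgroup.center G := z.2
    have hn : (Subgroup.zpowers (z : G)).Normal := by
      constructor
      intro a ha g
      have : g * a * g⁻¹ = a := by
        obtain ⟨k, rfl⟩ := Subgroup.mem_zpowers_iff.mp ha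
        have hc : (z : G) ^ k ∈ Subgroup.center G := Subgroup.zpow_mem _ hzc k
        rw [Subgroup.mem_center_iff] at hc
        rw [hc g]; simp
      rw [this]; exact ha
    have hc : (Nat.card (Subgroup.zpowers (z : G))).Coprime p := by
      rw [Nat.card_zpowers, Subgroup.orderOf_coe]; exact hcop
    have hle := le_pPrimeCore hn hc
    rw [hO] at hle
    have := hle (Subgroup.mem_zpowers (z : G))
    rw [Subgroup.mem_bot] at this
    exact Subtype.ext this
  -- Sylow p-subgroup of K equal to Z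
  have hZ'p : IsPGroup p (Z.subgroupOf K) := hZp.comap_subtype
  obtain ⟨P, hP⟩ := hZ'p.exists_le_sylow
  have hcardZ' : Nat.card (Z.subgroupOf K) = Nat.card Z :=
    Nat.card_congr (Subgroup.subgroupOfEquivOfLe hZK).toEquiv
  have hPeq : Z.subgroupOf K = (P : Subgroup K) := by
    apply Subgroup.eq_of_le_of_card_ge hP
    obtain ⟨a, ha⟩ := IsPGroup.iff_card.mp P.isPGroup'
    have h1 : Nat.card (P : Subgroup K) ∣ Nat.card K := Subgroup.card_subgroup_dvd_card _
    rw [ha, ← e2] at h1
    have h2 : p ^ a ∣ Nat.card Z :=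
      (Nat.Coprime.pow_left a ((Nat.Prime.coprime_iff_not_dvd hp).mpr (fun hd =>
        hp.one_lt.ne' (Nat.Coprime.eq_one_of_dvd hKbc.symm hd)))).dvd_of_dvd_mul_right h1
    rw [hcardZ']
    have hpos : 0 < Nat.card Z := Nat.card_pos
    calc Nat.card (P : Subgroup K) = p ^ a := ha
      _ ≤ Nat.card Z := Nat.le_of_dvd hpos h2
  have hPc : Subgroup.normalizer ((P : Subgroup K) : Set K) ≤ Subgroup.centralizer ((P : Subgroup K) : Set K) := by
    intro k _
    rw [Subgroup.mem_centralizer_iff]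
    intro a ha
    have ha' : a ∈ Z.subgroupOf K := by rw [hPeq]; exact ha
    rw [Subgroup.mem_subgroupOf, hZdef, Subgroup.mem_center_iff] at ha'
    apply Subtype.ext
    have := ha' (k : G)
    simpa using this.symm
  have hcompl := MonoidHom.ker_transferSylow_isComplement' P hPc
  set K₀ : Subgroup K := (MonoidHom.transferSylow P hPc).ker with hK₀
  have hK₀n : K₀.Normal := MonoidHom.normal_ker _
  have hcard := hcompl.card_mul_card
  have hcardP : Nat.card (P : Subgroup K) = Nat.card Z := by rw [← hPeq, hcardZ']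
  have hK₀card : Nat.card K₀ = Nat.card Kb := by
    have h1 : Nat.card K₀ * Nat.card Z = Nat.card Z * Nat.card Kb := by
      rw [e2, ← hcard, hcardP]
    have hpos : 0 < Nat.card Z := Nat.card_pos
    rw [mul_comm] at h1
    exact Nat.eq_of_mul_eq_mul_left hpos h1
  -- the image of K₀ is trivial
  have hK₀bot : K₀.map K.subtype = ⊥ := by
    apply eq_bot_of_normal_in_normal_of_coprime hO K (K₀.map K.subtype) (Subgroup.map_subtype_le _)
    · rw [Subgroup.le_normalizer_iff]
      intro k hk m hm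
      obtain ⟨m', hm', rfl⟩ := hm
      exact ⟨(⟨k, hk⟩ : K) * m' * (⟨k, hk⟩ : K)⁻¹, hK₀n.conj_mem m' hm' _, by simp⟩
    · have h2 : Nat.card (K₀.map K.subtype) = Nat.card K₀ :=
        Nat.card_congr (K₀.equivMapOfInjective K.subtype K.subtype_injective).symm.toEquiv
      rw [h2, hK₀card]; exact hKbc
  have hKb1 : Nat.card Kb = 1 := by
    rw [← hK₀card]
    have h2 : Nat.card (K₀.map K.subtype) = Nat.card K₀ :=
      Nat.card_congr (K₀.equivMapOfInjective K.subtype K.subtype_injective).symm.toEquiv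
    rw [← h2, hK₀bot]
    exact Subgroup.card_bot
  have hKbbot : Kb = ⊥ := Subgroup.card_eq_one.mp hKb1
  -- so all commutators with x are central
  apply hnz
  apply inZStar_of_forall_conj_eq
  intro g
  apply hiso
  have h1 := hq (QuotientGroup.mk g)
  rw [← hKb, hKbbot, Subgroup.mem_bot] at h1
  have h3 : ((g * x * g⁻¹ * x⁻¹ : G) : G ⧸ Z) = 1 := by simpa using h1
  have h4 : g * x * g⁻¹ * x⁻¹ ∈ Subgroup.center G := (QuotientGroup.eq_one_iff _).mp h3
  rw [Subgroup.mem_center_iff] at h4
  have h5 := h4 x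
  -- x * (g x g⁻¹) = (g x g⁻¹) * x
  show x * (g * x * g⁻¹) = (g * x * g⁻¹) * x
  have e1 : g * x * g⁻¹ = (g * x * g⁻¹ * x⁻¹) * x := by simp
  rw [e1, ← mul_assoc, h5, mul_assoc]

end

end Cfsg.Agent.Helper55
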