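import Mathlib

/-!
# S2953 / KILL2, case `V ⊄ Q₁`: the abstract core `r1_out`

Exact signature of helper1's post 11052.  Proof: with `W₀` the central involutions of `Q₁`,
conjugation by `k` on `Q₁` is trivial modulo `W₀`, so `Q₁ = W₀ · C_{Q₁}(k)`, and `v` centralizes
`C_{Q₁}(k)`; then the centralizer in `T'` of `s z₁ s⁻¹` lies in `Q₁`.
-/

set_option autoImplicit false
set_option linter.unusedVariables false

namespace Cfsg.Agent.Helper55.R1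

universe u

theorem r1_out {G : Type u} [Group G] [Finite G] (T' Q₁ K' O : Subgroup G) (z v k s : G)
    (hQT : Q₁ ≤ T') (hT2 : IsPGroup 2 ↥T') (hvT : v ∈ T') (hvQ : v ∉ Q₁)
    (hTQv : ∀ t ∈ T', t ∈ Q₁ ∨ t * v ∈ Q₁) (hv2 : v * v = 1) (hz2 : z * z = 1) (hzQ : z ∈ Q₁)
    (hzT : ∀ t ∈ T', t * z = z * t)
    (hQv : ∀ q ∈ Q₁, v * q * v⁻¹ = q ∨ v * q * v⁻¹ = q * z)
    (hkK : k ∈ K') (hk3 : k ^ 3 = 1) (hkz : k * z * k⁻¹ ≠ z)
    (hkQ : ∀ q ∈ Q₁, k * q * k⁻¹ ∈ Q₁) (hOQ : O ≤ Q₁)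
    (hKO : ∀ g ∈ K', ∃ o ∈ O, ∃ i : ℕ, g = o * k ^ i)
    (hKgen : Subgroup.closure {g : G | g ∈ K' ∧ Odd (orderOf g)} = K')
    (hvk : v * k * v⁻¹ ∈ K') (hvk' : v * k * v⁻¹ * k ∈ Q₁)
    (hsT : ∀ t ∈ T', s * t * s⁻¹ ∈ T') (hsv : s * v * s⁻¹ = v ∨ s * v * s⁻¹ = v * z) :
    ∀ q ∈ Q₁, s * q * s⁻¹ ∈ Q₁ := by
  classical
  obtain ⟨φ, hφ⟩ : ∃ φ : MulAut G, ∀ x, φ x = k * x * k⁻¹ := ⟨MulAut.conj k, fun x => rfl⟩
  obtain ⟨ψ, hψ⟩ : ∃ ψ : MulAut G, ∀ x, ψ x = v * x * v⁻¹ := ⟨MulAut.conj v, fun x => rfl⟩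
  obtain ⟨σ, hσ⟩ : ∃ σ : MulAut G, ∀ x, σ x = s * x * s⁻¹ := ⟨MulAut.conj s, fun x => rfl⟩
  have hvinv : v⁻¹ = v := inv_eq_of_mul_eq_one_right hv2
  have hφ3 : ∀ x, φ (φ (φ x)) = x := by
    intro x
    simp only [hφ]
    have e : k * (k * (k * x * k⁻¹) * k⁻¹) * k⁻¹ = (k * k * k) * x * (k * k * k)⁻¹ := by group
    have e3 : k * k * k = 1 := by rw [← hk3, pow_succ, pow_succ, pow_one]
    rw [e, e3]; simp
  have hφQ : ∀ q ∈ Q₁, φ q ∈ Q₁ := fun q hq => by rw [hφ]; exact hkQ q hq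
  have hφinv : ∀ x, k⁻¹ * x * k = φ (φ x) := by
    intro x
    have h1 : φ (k⁻¹ * x * k) = x := by rw [hφ]; group
    have h2 := hφ3 (k⁻¹ * x * k)
    rw [h1] at h2
    exact h2.symm
  -- the central involutions of `Q₁`
  let Wp : G → Prop := fun x => x ∈ Q₁ ∧ (∀ q ∈ Q₁, q * x = x * q) ∧ x * x = 1
  have hW1 : Wp 1 := ⟨Q₁.one_mem, fun q _ => by simp, by simp⟩
  have hWmul : ∀ x y, Wp x → Wp y → Wp (x * y) := by
    intro x y hx hy
    refine ⟨Q₁.mul_mem hx.1 hy.1, fun q hq => ?_, ?_⟩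
    · rw [← mul_assoc, hx.2.1 q hq, mul_assoc, hy.2.1 q hq, mul_assoc]
    · have h1 : y * x = x * y := hx.2.1 y hy.1
      calc x * y * (x * y) = x * (y * x) * y := by group
        _ = x * (x * y) * y := by rw [h1]
        _ = (x * x) * (y * y) := by group
        _ = 1 := by rw [hx.2.2, hy.2.2, one_mul]
  have hWφ : ∀ x, Wp x → Wp (φ x) := by
    intro x hx
    refine ⟨hφQ x hx.1, fun q hq => ?_, ?_⟩
    · have hq' : φ (φ q) ∈ Q₁ := hφQ _ (hφQ q hq)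
      calc q * φ x = φ (φ (φ q)) * φ x := by rw [hφ3]
        _ = φ (φ (φ q) * x) := (map_mul φ _ _).symm
        _ = φ (x * φ (φ q)) := by rw [hx.2.1 _ hq']
        _ = φ x * φ (φ (φ q)) := map_mul φ _ _
        _ = φ x * q := by rw [hφ3]
    · rw [← map_mul, hx.2.2, map_one]
  have hWz : Wp z := ⟨hzQ, fun q hq => hzT q (hQT hq), hz2⟩
  have hWinv : ∀ x, Wp x → x⁻¹ = x := fun x hx => inv_eq_of_mul_eq_one_right hx.2.2
  have hψQ : ∀ q ∈ Q₁, ∃ ζ, Wp ζ ∧ ψ q = q * ζ := by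
    intro q hq
    rcases hQv q hq with h | h
    · exact ⟨1, hW1, by rw [hψ, h, mul_one]⟩
    · exact ⟨z, hWz, by rw [hψ, h]⟩
  have hWψ : ∀ x, Wp x → Wp (ψ x) := by
    intro x hx
    obtain ⟨ζ, hζ, e⟩ := hψQ x hx.1
    rw [e]; exact hWmul _ _ hx hζ
  have hψ' : ∀ x, v⁻¹ * x * v = ψ x := by
    intro x; rw [hψ, hvinv]
  -- `z₁`, `z₂`
  obtain ⟨z₁, hz₁⟩ : ∃ z₁, z₁ = φ z := ⟨_, rfl⟩
  obtain ⟨z₂, hz₂⟩ : ∃ z₂, z₂ = φ z₁ := ⟨_, rfl⟩
  have hWz₁ : Wp z₁ := hz₁ ▸ hWφ z hWz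
  have hWz₂ : Wp z₂ := hz₂ ▸ hWφ z₁ hWz₁
  have hzz₁ : z₁ ≠ z := by rw [hz₁, hφ]; exact hkz
  obtain ⟨q₀, hq₀⟩ : ∃ q₀, q₀ = v * k * v⁻¹ * k := ⟨_, rfl⟩
  have hq₀Q : q₀ ∈ Q₁ := hq₀ ▸ hvk'
  have hψz : ψ z = z := by
    rw [hψ, hzT v hvT, mul_inv_cancel_right]
  have hψz₁ : ψ z₁ = z₂ := by
    calc ψ z₁ = v * (k * z * k⁻¹) * v⁻¹ := by rw [hψ, hz₁, hφ]
      _ = (v * k * v⁻¹ * k) * (k⁻¹ * (v * z * v⁻¹) * k) * (v * k * v⁻¹ * k)⁻¹ := by group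
      _ = q₀ * (k⁻¹ * z * k) * q₀⁻¹ := by rw [← hq₀, ← hψ z, hψz]
      _ = q₀ * z₂ * q₀⁻¹ := by rw [hφinv, ← hz₁, ← hz₂]
      _ = z₂ := by rw [hWz₂.2.1 q₀ hq₀Q, mul_inv_cancel_right]
  have hz₂eq : z₂ = z₁ * z := by
    rcases hQv z₁ hWz₁.1 with h | h
    · exfalso
      have h1 : z₂ = z₁ := by rw [← hψz₁, hψ, h]
      have h2 : φ z₁ = φ z := by rw [← hz₂, h1, hz₁]
      exact hzz₁ (φ.injective h2)
    · rw [← hψz₁, hψ, h]
  have hz₁z₂ : z₁ ≠ z₂ := by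
    intro h
    rw [hz₂eq] at h
    have hz1 : z = 1 := by
      have := mul_left_cancel (a := z₁) (b := 1) (c := z) (by rw [mul_one]; exact h)
      exact this.symm
    apply hzz₁
    rw [hz₁, hz1, map_one]
  -- conjugation by `k` is conjugation by `q₀⁻¹` modulo `W₀`
  have hR0 : ∀ q ∈ Q₁, ∃ u, Wp u ∧ k⁻¹ * q * k = u * (q₀⁻¹ * φ q * q₀) := by
    intro q hq
    obtain ⟨ζ₁, hζ₁, e₁⟩ := hψQ q hq
    obtain ⟨ζ₂, hζ₂, e₂⟩ := hψQ (φ q) (hφQ q hq)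
    have hu : Wp (ζ₂ * ψ (φ ζ₁)) := hWmul _ _ hζ₂ (hWψ _ (hWφ _ hζ₁))
    refine ⟨ζ₂ * ψ (φ ζ₁), hu, ?_⟩
    have h1 : k⁻¹ * q * k = q₀⁻¹ * (v * (k * (v⁻¹ * q * v) * k⁻¹) * v⁻¹) * q₀ := by
      rw [hq₀]; group
    have h2 : v * (k * (v⁻¹ * q * v) * k⁻¹) * v⁻¹ = φ q * (ζ₂ * ψ (φ ζ₁)) := by
      rw [hψ', ← hφ, ← hψ, e₁, map_mul, map_mul, e₂, mul_assoc]
    rw [h1, h2]
    have hc1 : q₀ * (ζ₂ * ψ (φ ζ₁)) = (ζ₂ * ψ (φ ζ₁)) * q₀ := hu.2.1 q₀ hq₀Q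
    have hc2 : (q₀⁻¹ * φ q * q₀) * (ζ₂ * ψ (φ ζ₁)) = (ζ₂ * ψ (φ ζ₁)) * (q₀⁻¹ * φ q * q₀) :=
      hu.2.1 _ (Q₁.mul_mem (Q₁.mul_mem (Q₁.inv_mem hq₀Q) (hφQ q hq)) hq₀Q)
    calc q₀⁻¹ * (φ q * (ζ₂ * ψ (φ ζ₁))) * q₀
        = q₀⁻¹ * φ q * ((ζ₂ * ψ (φ ζ₁)) * q₀) := by group
      _ = q₀⁻¹ * φ q * (q₀ * (ζ₂ * ψ (φ ζ₁))) := by rw [hc1]
      _ = (q₀⁻¹ * φ q * q₀) * (ζ₂ * ψ (φ ζ₁)) := by group
      _ = (ζ₂ * ψ (φ ζ₁)) * (q₀⁻¹ * φ q * q₀) := hc2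
  have hR : ∀ q ∈ Q₁, ∃ w, Wp w ∧ φ q = w * (q₀⁻¹ * q * q₀) := by
    intro q hq
    obtain ⟨u, hu, e⟩ := hR0 (φ (φ q)) (hφQ _ (hφQ q hq))
    refine ⟨u, hu, ?_⟩
    rw [hφinv, hφ3, hφ3] at e
    exact e
  have hpow : ∀ n : ℕ, ∀ q ∈ Q₁, ∃ w, Wp w ∧
      k ^ n * q * (k ^ n)⁻¹ = w * ((q₀ ^ n)⁻¹ * q * q₀ ^ n) := by
    intro n
    induction n with
    | zero => intro q hq; exact ⟨1, hW1, by simp⟩
    | succ n ih =>
      intro q hq
      obtain ⟨w, hw, e⟩ := ih q hq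
      have hq'' : (q₀ ^ n)⁻¹ * q * q₀ ^ n ∈ Q₁ :=
        Q₁.mul_mem (Q₁.mul_mem (Q₁.inv_mem (Q₁.pow_mem hq₀Q n)) hq) (Q₁.pow_mem hq₀Q n)
      obtain ⟨w', hw', e'⟩ := hR _ hq''
      refine ⟨φ w * w', hWmul _ _ (hWφ w hw) hw', ?_⟩
      calc k ^ (n + 1) * q * (k ^ (n + 1))⁻¹ = k * (k ^ n * q * (k ^ n)⁻¹) * k⁻¹ := by
            rw [pow_succ']; group
        _ = φ (w * ((q₀ ^ n)⁻¹ * q * q₀ ^ n)) := by rw [e, hφ]
        _ = φ w * φ ((q₀ ^ n)⁻¹ * q * q₀ ^ n) := map_mul _ _ _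
        _ = φ w * (w' * (q₀⁻¹ * ((q₀ ^ n)⁻¹ * q * q₀ ^ n) * q₀)) := by rw [e']
        _ = φ w * w' * ((q₀ ^ (n + 1))⁻¹ * q * q₀ ^ (n + 1)) := by
            rw [pow_succ]; group
  have hk4 : ∀ j : ℕ, k ^ (4 ^ j) = k := by
    intro j
    induction j with
    | zero => simp
    | succ j ih =>
      rw [pow_succ, pow_mul, ih]
      have h4 : k ^ 4 = k ^ 3 * k := pow_succ k 3
      rw [h4, hk3, one_mul]
  obtain ⟨j, hj⟩ := hT2 ⟨q₀, hQT hq₀Q⟩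
  have hj' : q₀ ^ (2 ^ j) = 1 := by
    have := congrArg Subtype.val hj
    simpa using this
  have hq₀4 : q₀ ^ (4 ^ j) = 1 := by
    have h4 : (4 : ℕ) ^ j = 2 ^ j * 2 ^ j := by
      have : (4 : ℕ) = 2 * 2 := rfl
      rw [this, mul_pow]
    rw [h4, pow_mul, hj', one_pow]
  have hB1 : ∀ q ∈ Q₁, ∃ w, Wp w ∧ φ q = w * q := by
    intro q hq
    obtain ⟨w, hw, e⟩ := hpow (4 ^ j) q hq
    refine ⟨w, hw, ?_⟩
    rw [hk4 j, hq₀4] at e
    rw [hφ, e]; simp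
  have hB2 : ∀ q ∈ Q₁, ∃ w r, Wp w ∧ r ∈ Q₁ ∧ φ r = r ∧ q = w * r := by
    intro q hq
    obtain ⟨c, hc, e⟩ := hB1 q hq
    have hφc := hWφ c hc
    have hnorm : c * φ c * φ (φ c) = 1 := by
      have hc' : c = φ q * q⁻¹ := by rw [e, mul_inv_cancel_right]
      have hcomm : φ c * c = c * φ c := hc.2.1 _ hφc.1
      rw [← hcomm]
      subst hc'
      simp only [map_mul, map_inv, hφ3]
      group
    have h3 : φ (φ c) = φ c * c := by
      have := eq_inv_of_mul_eq_one_right hnorm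
      rw [this, mul_inv_rev, hWinv c hc, hWinv _ hφc]
    refine ⟨φ c, φ c * q, hφc, Q₁.mul_mem hφc.1 hq, ?_, ?_⟩
    · rw [map_mul, h3, e]
      calc φ c * c * (c * q) = φ c * (c * c) * q := by group
        _ = φ c * q := by rw [hc.2.2, mul_one]
    · rw [← mul_assoc, hφc.2.2, one_mul]
  have hB3 : ∀ r ∈ Q₁, φ r = r → ψ r = r := by
    intro r hr hfix
    rcases hQv r hr with h | h
    · rw [hψ, h]
    · exfalso
      have hψr : ψ r = r * z := by rw [hψ, h]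
      have h1 : ψ (φ r) = q₀ * φ (φ (ψ r)) * q₀⁻¹ := by
        rw [← hφinv, hψ, hφ, hψ, hq₀]; group
      rw [hfix, hψr, map_mul, map_mul, hfix, hfix, ← hz₁, ← hz₂] at h1
      have hE1 : q₀ * r * q₀⁻¹ = r * z₁ := by
        have hc2 : q₀ * z₂ = z₂ * q₀ := hWz₂.2.1 q₀ hq₀Q
        have hc3 : z₂ * q₀⁻¹ = q₀⁻¹ * z₂ := by
          calc z₂ * q₀⁻¹ = q₀⁻¹ * (q₀ * z₂) * q₀⁻¹ := by group
            _ = q₀⁻¹ * (z₂ * q₀) * q₀⁻¹ := by rw [hc2]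
            _ = q₀⁻¹ * z₂ := by group
        have h2 : q₀ * (r * z₂) * q₀⁻¹ = (q₀ * r * q₀⁻¹) * z₂ := by
          calc q₀ * (r * z₂) * q₀⁻¹ = q₀ * r * (z₂ * q₀⁻¹) := by group
            _ = q₀ * r * (q₀⁻¹ * z₂) := by rw [hc3]
            _ = (q₀ * r * q₀⁻¹) * z₂ := by group
        rw [h2] at h1
        have h4 : q₀ * r * q₀⁻¹ = r * z * z₂⁻¹ := by rw [h1, mul_inv_cancel_right]
        rw [h4, hWinv z₂ hWz₂, hz₂eq]
        calc r * z * (z₁ * z) = r * (z * z₁) * z := by group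
          _ = r * (z₁ * z) * z := by rw [← hWz.2.1 z₁ hWz₁.1]
          _ = r * z₁ * (z * z) := by group
          _ = r * z₁ := by rw [hz2, mul_one]
      obtain ⟨c₀, hc₀, e₀⟩ := hB1 q₀ hq₀Q
      have h3 := congrArg φ hE1
      rw [map_mul, map_mul, map_inv, hfix, map_mul, hfix, ← hz₂, e₀] at h3
      have h4 : c₀ * q₀ * r * (c₀ * q₀)⁻¹ = q₀ * r * q₀⁻¹ := by
        have hcc : (q₀ * r * q₀⁻¹) * c₀ = c₀ * (q₀ * r * q₀⁻¹) :=
          hc₀.2.1 _ (Q₁.mul_mem (Q₁.mul_mem hq₀Q hr) (Q₁.inv_mem hq₀Q))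
        calc c₀ * q₀ * r * (c₀ * q₀)⁻¹ = c₀ * (q₀ * r * q₀⁻¹) * c₀⁻¹ := by group
          _ = (q₀ * r * q₀⁻¹) * c₀ * c₀⁻¹ := by rw [hcc]
          _ = q₀ * r * q₀⁻¹ := by rw [mul_inv_cancel_right]
      rw [h4, hE1] at h3
      exact hz₁z₂ (mul_left_cancel h3)
  -- the element `y = s z₁ s⁻¹`
  obtain ⟨y, hy⟩ : ∃ y, y = σ z₁ := ⟨_, rfl⟩
  have hyT : y ∈ T' := by rw [hy, hσ]; exact hsT z₁ (hQT hWz₁.1)
  have hyy : y * y = 1 := by rw [hy, ← map_mul, hWz₁.2.2, map_one]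
  have hyz : y * z = z * y := hzT y hyT
  have hyv : y * v ≠ v * y := by
    intro h
    have h1 : y * σ v = σ v * y := by
      rcases hsv with h' | h'
      · rw [hσ v, h', h]
      · rw [hσ v, h']
        calc y * (v * z) = (y * v) * z := by group
          _ = (v * y) * z := by rw [h]
          _ = v * (y * z) := by group
          _ = v * (z * y) := by rw [hyz]
          _ = v * z * y := by group
    rw [hy, ← map_mul, ← map_mul] at h1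
    have h2 : z₁ * v = v * z₁ := σ.injective h1
    have h3 : ψ z₁ = z₁ := by rw [hψ, ← h2, mul_inv_cancel_right]
    rw [hψz₁] at h3
    exact hz₁z₂ h3.symm
  have hC : ∀ t ∈ T', t * y = y * t → t ∈ Q₁ := by
    intro t ht hty
    by_contra htQ
    have htv : t * v ∈ Q₁ := (hTQv t ht).resolve_left htQ
    obtain ⟨w', r', hw', hr', hr'fix, eq'⟩ := hB2 (t * v) htv
    have ht' : t = w' * r' * v := by
      have h0 : t = (t * v) * v := by rw [mul_assoc, hv2, mul_one]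
      rw [← eq']; exact h0
    rcases hTQv y hyT with hyQ | hyvQ
    · obtain ⟨w, r, hw, hr, hrfix, eq⟩ := hB2 y hyQ
      have hψr := hB3 r hr hrfix
      rcases hQv w hw.1 with h | h
      · apply hyv
        have h5 : ψ y = y := by rw [eq, map_mul, hψr, hψ w, h]
        rw [hψ] at h5
        calc y * v = (v * y * v⁻¹) * v := by rw [h5]
          _ = v * y := by group
      · have hψy : ψ y = y * z := by
          rw [eq, map_mul, hψr, hψ w, h]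
          calc w * z * r = w * (z * r) := by group
            _ = w * (r * z) := by rw [hWz.2.1 r hr]
            _ = w * r * z := by group
        have h1 : w' * r' * (y * z) = y * (w' * r') := by
          have h0 : w' * r' * v * y = y * (w' * r' * v) := by rw [← ht']; exact hty
          have h00 : v * y = (y * z) * v := by
            rw [← hψy, hψ]; group
          calc w' * r' * (y * z) = w' * r' * ((y * z) * v) * v⁻¹ := by group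
            _ = w' * r' * (v * y) * v⁻¹ := by rw [h00]
            _ = (w' * r' * v * y) * v⁻¹ := by group
            _ = (y * (w' * r' * v)) * v⁻¹ := by rw [h0]
            _ = y * (w' * r') := by group
        have h2 : r' * r * z = r * r' := by
          rw [eq] at h1
          have e1 : w' * r' * (w * r * z) = (w' * w) * (r' * r * z) := by
            calc w' * r' * (w * r * z) = w' * (r' * w) * (r * z) := by group
              _ = w' * (w * r') * (r * z) := by rw [hw.2.1 r' hr']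
              _ = (w' * w) * (r' * r * z) := by group
          have e2 : w * r * (w' * r') = (w' * w) * (r * r') := by
            calc w * r * (w' * r') = w * (r * w') * r' := by group
              _ = w * (w' * r) * r' := by rw [hw'.2.1 r hr]
              _ = (w * w') * (r * r') := by group
              _ = (w' * w) * (r * r') := by rw [hw'.2.1 w hw.1]
          rw [e1, e2] at h1
          exact mul_left_cancel h1
        have h3 := congrArg φ h2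
        rw [map_mul, map_mul, map_mul, hrfix, hr'fix, ← hz₁] at h3
        rw [← h2] at h3
        exact hzz₁ (mul_left_cancel h3)
    · obtain ⟨w, r, hw, hr, hrfix, eq⟩ := hB2 (y * v) hyvQ
      have hψr := hB3 r hr hrfix
      have hy' : y = w * r * v := by
        have h0 : y = (y * v) * v := by rw [mul_assoc, hv2, mul_one]
        rw [← eq]; exact h0
      rcases hQv w hw.1 with h | h
      · apply hyv
        have h5 : ψ y = y := by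
          rw [hy', map_mul, map_mul, hψr, hψ w, h, hψ v]; group
        rw [hψ] at h5
        calc y * v = (v * y * v⁻¹) * v := by rw [h5]
          _ = v * y := by group
      · have h1 : y * y = w * r * ψ (w * r) := by
          have h0 : y * y = w * r * (v * (w * r) * v) := by rw [hy']; group
          rw [h0, hψ, hvinv]
        rw [hyy, map_mul, hψr, hψ w, h] at h1
        have h2 : r * r = z := by
          have e1 : w * r * (w * z * r) = (w * w) * (z * (r * r)) := by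
            calc w * r * (w * z * r) = w * (r * w) * (z * r) := by group
              _ = w * (w * r) * (z * r) := by rw [hw.2.1 r hr]
              _ = w * w * (r * z) * r := by group
              _ = w * w * (z * r) * r := by rw [hWz.2.1 r hr]
              _ = (w * w) * (z * (r * r)) := by group
          rw [e1, hw.2.2, one_mul] at h1
          have h6 : r * r = z⁻¹ := eq_inv_of_mul_eq_one_right h1.symm
          rw [h6, hWinv z hWz]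
        have h3 := congrArg φ h2
        rw [map_mul, hrfix, ← hz₁, h2] at h3
        exact hzz₁ h3.symm
  intro q hq
  have hqT : s * q * s⁻¹ ∈ T' := hsT q (hQT hq)
  apply hC _ hqT
  rw [← hσ q, hy, ← map_mul, ← map_mul, hWz₁.2.1 q hq]

end Cfsg.Agent.Helper55.R1

section Check
universe u'
example {G : Type u'} [Group G] [Finite G] (T' Q₁ K' O : Subgroup G) (z v k s : G) (hQT : Q₁ ≤ T') (hT2 : IsPGroup 2 ↥T') (hvT : v ∈ T') (hvQ : v ∉ Q₁) (hTQv : ∀ t ∈ T', t ∈ Q₁ ∨ t * v ∈ Q₁) (hv2 : v * v = 1) (hz2 : z * z = 1) (hzQ : z ∈ Q₁) (hzT : ∀ t ∈ T', t * z = z * t) (hQv : ∀ q ∈ Q₁, v * q * v⁻¹ = q ∨ v * q * v⁻¹ = q * z) (hkK : k ∈ K') (hk3 : k ^ 3 = 1) (hkz : k * z * k⁻¹ ≠ z) (hkQ : ∀ q ∈ Q₁, k * q * k⁻¹ ∈ Q₁) (hOQ : O ≤ Q₁) (hKO : ∀ g ∈ K', ∃ o ∈ O, ∃ i : ℕ, g = o * k ^ i) (hKgen : Subgroup.closure {g : G | g ∈ K' ∧ Odd (orderOf g)} = K') (hvk : v * k * v⁻¹ ∈ K') (hvk'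 : v * k * v⁻¹ * k ∈ Q₁) (hsT : ∀ t ∈ T', s * t * s⁻¹ ∈ T') (hsv : s * v * s⁻¹ = v ∨ s * v * s⁻¹ = v * z) : ∀ q ∈ Q₁, s * q * s⁻¹ ∈ Q₁ :=
  Cfsg.Agent.Helper55.R1.r1_out T' Q₁ K' O z v k s hQT hT2 hvT hvQ hTQv hv2 hz2 hzQ hzT hQv hkK hk3 hkz hkQ hOQ hKO hKgen hvk hvk' hsT hsv
end Check
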