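import Mathlib
import Cfsg.Agent.H45.S8Defs0

/-!
# S8-LA2 (piece of helper45's team project S1158)

In `GL₇(q)`, an element `A` normalising `⟨Y⟩` (`Y` of prime order `p`, `ord_p(q) = 6`) has its
6th power commuting with `Y`.
-/

set_option autoImplicit false

namespace Cfsg.Agent.Helper55.S8

open Cfsg.Agent.H45.S8 Polynomial

universe u v

/-- `aeval` commutes with conjugation by a unit. -/
theorem aeval_units_conj {K : Type*} [Field K] {A : Type*} [Ring A] [Algebra K A] (U : Aˣ)
    (a : A) (P : K[X]) :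
    aeval ((U : A) * a * ((U⁻¹ : Aˣ) : A)) P = (U : A) * aeval a P * ((U⁻¹ : Aˣ) : A) := by
  rw [aeval_eq_sum_range, aeval_eq_sum_range, Finset.mul_sum, Finset.sum_mul]
  apply Finset.sum_congr rfl
  intro i _
  rw [Units.conj_pow, mul_smul_comm, smul_mul_assoc]

/-- The combinatorial core: a subset `R` of `ZMod p` with at most 7 elements, containing `1` and
closed under multiplication by `a` (of multiplicative order 6) and by `b ≠ 0`, forces
`b ^ 6 = 1`. -/
theorem pow_six_of_closed (p : ℕ) [Fact p.Prime] (R : Finset (ZMod p)) (a b : ZMod p)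
    (ha : ∀ d : ℕ, a ^ d = 1 ↔ 6 ∣ d) (hb : b ≠ 0) (h1 : (1 : ZMod p) ∈ R)
    (hRa : ∀ i ∈ R, i * a ∈ R) (hRb : ∀ i ∈ R, i * b ∈ R) (hcard : R.card ≤ 7) :
    b ^ 6 = 1 := by
  classical
  have ha6 : a ^ 6 = 1 := (ha 6).mpr (dvd_refl 6)
  have ha0 : a ≠ 0 := by
    rintro rfl
    rw [zero_pow (by norm_num)] at ha6
    exact zero_ne_one ha6
  have hapow : ∀ i : ℕ, a ^ i ∈ R := by
    intro i
    induction i with
    | zero => simpa using h1
    | succ i ih => rw [pow_succ]; exact hRa _ ih
  by_cases hex : ∃ i : ℕ, b = a ^ i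
  · obtain ⟨i, rfl⟩ := hex
    rw [← pow_mul, mul_comm, pow_mul, ha6, one_pow]
  exfalso
  push Not at hex
  have hbR : b ∈ R := by simpa using hRb 1 h1
  have hbaR : b * a ∈ R := hRa b hbR
  have hlt : ∀ i k : ℕ, i < k → k < 6 → a ^ i ≠ a ^ k := by
    intro i k hik hk6 heq
    have h1' : a ^ (k - i) = 1 := by
      have h : a ^ i * a ^ (k - i) = a ^ i * 1 := by
        rw [← pow_add, mul_one]
        have e : i + (k - i) = k := by omega
        rw [e]; exact heq.symm
      exact mul_left_cancel₀ (pow_ne_zero _ ha0) h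
    have h6 := (ha (k - i)).mp h1'
    omega
  have hinj : Set.InjOn (fun i : ℕ => a ^ i) (Finset.range 6 : Set ℕ) := by
    intro i hi k hk hik
    simp only [Finset.coe_range, Set.mem_Iio] at hi hk
    by_contra hne
    rcases Nat.lt_or_gt_of_ne hne with h | h
    · exact hlt i k h hk hik
    · exact hlt k i h hi hik.symm
  have hScard : ((Finset.range 6).image (fun i : ℕ => a ^ i)).card = 6 := by
    rw [Finset.card_image_of_injOn hinj, Finset.card_range]
  have hbS : b ∉ (Finset.range 6).image (fun i : ℕ => a ^ i) := by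
    intro h
    obtain ⟨i, -, hi⟩ := Finset.mem_image.mp h
    exact hex i hi.symm
  have hbaS : b * a ∉ (Finset.range 6).image (fun i : ℕ => a ^ i) := by
    intro h
    obtain ⟨i, -, hi⟩ := Finset.mem_image.mp h
    apply hex (i + 5)
    have hi' : a ^ i = b * a := hi
    calc b = b * a ^ 6 := by rw [ha6, mul_one]
      _ = (b * a) * a ^ 5 := by ring
      _ = a ^ i * a ^ 5 := by rw [hi']
      _ = a ^ (i + 5) := by rw [pow_add]
  have hbab : b ≠ b * a := by
    intro h
    have h' : b * 1 = b * a := by rw [mul_one]; exact h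
    have ha1 : a = 1 := (mul_left_cancel₀ hb h').symm
    have h6 := (ha 1).mp (by rw [pow_one]; exact ha1)
    omega
  have hc1 : (insert (b * a) ((Finset.range 6).image (fun i : ℕ => a ^ i))).card = 7 := by
    rw [Finset.card_insert_of_notMem hbaS, hScard]
  have hb2 : b ∉ insert (b * a) ((Finset.range 6).image (fun i : ℕ => a ^ i)) := by
    intro h
    rcases Finset.mem_insert.mp h with h | h
    · exact hbab h
    · exact hbS h
  have hc2 : (insert b (insert (b * a) ((Finset.range 6).image (fun i : ℕ => a ^ i)))).card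
      = 8 := by
    rw [Finset.card_insert_of_notMem hb2, hc1]
  have hsub : insert b (insert (b * a) ((Finset.range 6).image (fun i : ℕ => a ^ i))) ⊆ R := by
    intro x hx
    rcases Finset.mem_insert.mp hx with h | h
    · rw [h]; exact hbR
    · rcases Finset.mem_insert.mp h with h | h
      · rw [h]; exact hbaR
      · obtain ⟨i, -, hi⟩ := Finset.mem_image.mp h
        rw [← hi]; exact hapow i
  have := Finset.card_le_card hsub
  omega

theorem la2 : StLA2.{u, v} := by
  intro n _ _ K _ _ p hp hn hord Y hY A j hAY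
  classical
  haveI : Fact p.Prime := ⟨hp⟩
  have hq1 : ∀ d : ℕ, 1 ≤ Fintype.card K ^ d := fun d => Nat.one_le_pow _ _ Fintype.card_pos
  -- `p` is invertible in `K`
  have hpK : (p : K) ≠ 0 := by
    intro h0
    obtain ⟨r, hr⟩ := CharP.exists K
    have hrp : r ∣ p := (CharP.cast_eq_zero_iff K r p).mp h0
    have hr' : r.Prime := CharP.char_is_prime K r
    have hrp' : r = p := (Nat.prime_dvd_prime_iff_eq hr' hp).mp hrp
    subst hrp'
    have hcard : r ∣ Fintype.card K :=
      (CharP.cast_eq_zero_iff K r _).mp (Nat.cast_card_eq_zero K)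
    have h6 : r ∣ Fintype.card K ^ 6 - 1 := (hord 6).mpr (dvd_refl 6)
    have h6' : r ∣ Fintype.card K ^ 6 := Dvd.dvd.pow hcard (by norm_num)
    have h1' : r ∣ 1 := by
      have h := Nat.dvd_sub h6' h6
      rwa [Nat.sub_sub_self (hq1 6)] at h
    exact hp.one_lt.ne' (Nat.dvd_one.mp h1')
  -- matrix facts
  have hYp : (Y : Matrix n n K) ^ p = 1 := by
    have h := pow_orderOf_eq_one Y
    rw [hY] at h
    have h' := congrArg Units.val h
    rw [Units.val_pow_eq_pow_val] at h'
    exact h'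
  have hY1 : (Y : Matrix n n K) ≠ 1 := by
    intro h
    have h' : Y = 1 := Units.ext h
    rw [h', orderOf_one] at hY
    exact hp.one_lt.ne hY
  have hconj : (A : Matrix n n K) * (Y : Matrix n n K) * ((A⁻¹ : GL n K) : Matrix n n K) =
      (Y : Matrix n n K) ^ j := by
    have h' := congrArg Units.val hAY
    rw [Units.val_mul, Units.val_mul, Units.val_pow_eq_pow_val] at h'
    exact h'
  -- the minimal polynomial
  obtain ⟨μ, hμ⟩ : ∃ μ : K[X], μ = minpoly K (Y : Matrix n n K) := ⟨_, rfl⟩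
  have hint : IsIntegral K (Y : Matrix n n K) := Matrix.isIntegral _
  have hμmonic : μ.Monic := by rw [hμ]; exact minpoly.monic hint
  have hμY : aeval (Y : Matrix n n K) μ = 0 := by rw [hμ]; exact minpoly.aeval K _
  have hμdvd : ∀ P : K[X], aeval (Y : Matrix n n K) P = 0 → μ ∣ P := by
    intro P hP; rw [hμ]; exact minpoly.dvd K _ hP
  have hμdeg : μ.natDegree ≤ 7 := by
    have h1 : μ ∣ (Y : Matrix n n K).charpoly := by
      rw [hμ]; exact Matrix.minpoly_dvd_charpoly _
    have h2 := Polynomial.natDegree_le_of_dvd h1 (Matrix.charpoly_monic _).ne_zero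
    rw [Matrix.charpoly_natDegree_eq_dim, hn] at h2
    exact h2
  have hμXp : μ ∣ (X - 1) * ∑ i ∈ Finset.range p, (X : K[X]) ^ i := by
    apply hμdvd
    rw [mul_geom_sum]
    simp [hYp]
  have hncop : ¬ IsCoprime μ (∑ i ∈ Finset.range p, (X : K[X]) ^ i) := by
    intro hc
    have h1 : μ ∣ (X - 1 : K[X]) := hc.dvd_of_dvd_mul_right hμXp
    obtain ⟨c, hc'⟩ := h1
    have h2 : aeval (Y : Matrix n n K) (X - 1 : K[X]) = 0 := by
      rw [hc', map_mul, hμY, zero_mul]
    apply hY1
    have h3 : (Y : Matrix n n K) - 1 = 0 := by simpa using h2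
    exact sub_eq_zero.mp h3
  rw [Polynomial.isCoprime_iff_aeval_ne_zero_of_isAlgClosed K (AlgebraicClosure K)] at hncop
  push Not at hncop
  obtain ⟨ζ, hζμ, hζΨ⟩ := hncop
  have hpE : (p : AlgebraicClosure K) ≠ 0 := by
    have e : (p : AlgebraicClosure K) = algebraMap K (AlgebraicClosure K) (p : K) := by simp
    rw [e]
    exact (_root_.map_ne_zero _).mpr hpK
  have hζΨ' : ∑ i ∈ Finset.range p, ζ ^ i = 0 := by
    simpa [map_sum] using hζΨ
  have hζp : ζ ^ p = 1 := by
    have h := mul_geom_sum ζ p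
    rw [hζΨ', mul_zero] at h
    exact sub_eq_zero.mp h.symm
  have hζ1 : ζ ≠ 1 := by
    rintro rfl
    simp at hζΨ'
    exact hpE hζΨ'
  have hordζ : orderOf ζ = p := orderOf_eq_prime hζp hζ1
  have hf : ∀ m : ℕ, ζ ^ ((m : ZMod p)).val = ζ ^ m := by
    intro m
    rw [ZMod.val_natCast]
    conv_lhs => rw [← hordζ]
    exact pow_mod_orderOf ζ m
  -- the set of exponents
  obtain ⟨R, hR⟩ : ∃ R : Finset (ZMod p),
      R = Finset.univ.filter (fun i : ZMod p => aeval (ζ ^ i.val) μ = 0) := ⟨_, rfl⟩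
  have hmemR : ∀ i : ZMod p, i ∈ R ↔ aeval (ζ ^ i.val) μ = 0 := by
    intro i; rw [hR, Finset.mem_filter]; simp
  have h1R : (1 : ZMod p) ∈ R := by
    rw [hmemR]
    have h := hf 1
    rw [Nat.cast_one, pow_one] at h
    rw [h]; exact hζμ
  have hRq : ∀ i ∈ R, i * (Fintype.card K : ZMod p) ∈ R := by
    intro i hi
    rw [hmemR] at hi ⊢
    have e : i * (Fintype.card K : ZMod p) = ((i.val * Fintype.card K : ℕ) : ZMod p) := by
      rw [Nat.cast_mul, ZMod.natCast_zmod_val]
    rw [e, hf, pow_mul, ← Polynomial.expand_aeval, FiniteField.expand_card, map_pow, hi,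
      zero_pow Fintype.card_ne_zero]
  have hcomp : μ ∣ μ.comp (X ^ j) := by
    apply hμdvd
    rw [aeval_comp, aeval_X_pow, ← hconj, aeval_units_conj, hμY, mul_zero, zero_mul]
  have hRj : ∀ i ∈ R, i * (j : ZMod p) ∈ R := by
    intro i hi
    rw [hmemR] at hi ⊢
    have e : i * (j : ZMod p) = ((i.val * j : ℕ) : ZMod p) := by
      rw [Nat.cast_mul, ZMod.natCast_zmod_val]
    rw [e, hf, pow_mul]
    obtain ⟨c, hc⟩ := hcomp
    have h2 : aeval ((ζ ^ i.val) ^ j) μ = aeval (ζ ^ i.val) (μ.comp (X ^ j)) := by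
      rw [aeval_comp, aeval_X_pow]
    rw [h2, hc, map_mul, hi, zero_mul]
  have hRc : R.card ≤ 7 := by
    have hμmap : μ.map (algebraMap K (AlgebraicClosure K)) ≠ 0 := (hμmonic.map _).ne_zero
    have hmaps : Set.MapsTo (fun i : ZMod p => ζ ^ i.val) (R : Set (ZMod p))
        ((μ.map (algebraMap K (AlgebraicClosure K))).roots.toFinset : Set (AlgebraicClosure K)) := by
      intro i hi
      have hi' := (hmemR i).mp hi
      simp only [Finset.mem_coe, Multiset.mem_toFinset]
      rw [Polynomial.mem_roots hμmap, Polynomial.IsRoot.def, Polynomial.eval_map, ← aeval_def]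
      exact hi'
    have hinj : Set.InjOn (fun i : ZMod p => ζ ^ i.val) (R : Set (ZMod p)) := by
      intro i _ k _ hik
      have hik' : ζ ^ i.val = ζ ^ k.val := hik
      have hfin : IsOfFinOrder ζ := isOfFinOrder_iff_pow_eq_one.mpr ⟨p, hp.pos, hζp⟩
      have h0 := hfin.pow_eq_pow_iff_modEq.mp hik'
      rw [hordζ] at h0
      have h := (ZMod.natCast_eq_natCast_iff i.val k.val p).mpr h0
      rwa [ZMod.natCast_zmod_val, ZMod.natCast_zmod_val] at h
    calc R.card ≤ (μ.map (algebraMap K (AlgebraicClosure K))).roots.toFinset.card :=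
          Finset.card_le_card_of_injOn _ hmaps hinj
      _ ≤ Multiset.card (μ.map (algebraMap K (AlgebraicClosure K))).roots :=
          Multiset.toFinset_card_le _
      _ ≤ (μ.map (algebraMap K (AlgebraicClosure K))).natDegree := Polynomial.card_roots' _
      _ = μ.natDegree := Polynomial.natDegree_map _
      _ ≤ 7 := hμdeg
  have ha : ∀ d : ℕ, (Fintype.card K : ZMod p) ^ d = 1 ↔ 6 ∣ d := by
    intro d
    rw [← hord d, ← ZMod.natCast_eq_zero_iff, Nat.cast_sub (hq1 d), Nat.cast_pow, Nat.cast_one,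
      sub_eq_zero]
  have hb : (j : ZMod p) ≠ 0 := by
    intro h0
    have hpj : p ∣ j := (ZMod.natCast_eq_zero_iff j p).mp h0
    have hYj : Y ^ j = 1 := by
      rw [← hY] at hpj; exact orderOf_dvd_iff_pow_eq_one.mp hpj
    rw [hYj] at hAY
    have h := mul_inv_eq_one.mp hAY
    have hY1' : Y = 1 := mul_left_cancel (a := A) (by rw [h, mul_one])
    rw [hY1', orderOf_one] at hY
    exact hp.one_lt.ne hY
  have hb6 := pow_six_of_closed p R _ _ ha hb h1R hRq hRj hRc
  have hmod : j ^ 6 ≡ 1 [MOD p] := by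
    rw [← ZMod.natCast_eq_natCast_iff]
    push_cast
    exact hb6
  have hYj6 : Y ^ (j ^ 6) = Y := by
    have h := (pow_eq_pow_iff_modEq (x := Y) (n := j ^ 6) (m := 1)).mpr (by rw [hY]; exact hmod)
    rw [h, pow_one]
  have hiter : ∀ i : ℕ, A ^ i * Y * (A ^ i)⁻¹ = Y ^ (j ^ i) := by
    intro i
    induction i with
    | zero => simp
    | succ i ih =>
      have h : A ^ (i + 1) * Y * (A ^ (i + 1))⁻¹ = A * (A ^ i * Y * (A ^ i)⁻¹) * A⁻¹ := by
        rw [pow_succ', mul_inv_rev]
        simp only [mul_assoc]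
      rw [h, ih, ← conj_pow, hAY, ← pow_mul, pow_succ']
  have h6 := hiter 6
  rw [hYj6] at h6
  exact mul_inv_eq_iff_eq_mul.mp h6

example : Cfsg.Agent.H45.S8.StLA2.{u, v} := la2

end Cfsg.Agent.Helper55.S8
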