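import Cfsg.Agent.H74.TsDefs
import Cfsg.Agent.Helper55.J48

/-! S2948 from the existence statement `StEx` alone (the four G-level pieces NJ / EQ / OV / SYL
are all contained in `Cfsg.Agent.Helper55.J48.elem`). -/

set_option autoImplicit false
open Cfsg

namespace Cfsg.Agent.Helper55.Ts

open Cfsg.Agent.H74.Ts

universe u

/-- S2948 from EX. -/
theorem main4_of_ex (hEx : StEx.{u}) : StMain4.{u} := by
  intro G _ _ hL hNsol hZN hO S M hM hMJ T hT L hL2 hLM T₀ hT₀ hJT₀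
  obtain ⟨h1, h2, h3, h4⟩ :=
    Cfsg.Agent.Helper55.J48.elem hL S M hMJ T hT L hL2 hLM T₀ hT₀ hJT₀
  exact ⟨h1, h2, h3, fun hTL => ⟨h4 hTL, hEx hL hNsol hZN T hT.1.1 hT.1.2.1 L (h4 hTL)⟩⟩

example (hEx : Cfsg.Agent.H74.Ts.StEx.{u}) : Cfsg.Agent.H74.Ts.StMain4.{u} := main4_of_ex hEx

end Cfsg.Agent.Helper55.Ts
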