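import Cfsg.Agent.H64.TtDefs

/-!
# S3385 team project (helper64): piece TT-C6

The case `k = 6`, `λ = 4` of the abstract Tutte lemma is impossible.
-/

set_option autoImplicit false

namespace Cfsg.Agent.Helper55.Tt

open Cfsg.Agent.H64.Tt

universe u

section Aux

variable {G : Type u} [Group G]

/-- Conjugating a commutator. -/
theorem conj_comm_eq (g a b : G) :
    g * (a * b * a⁻¹ * b⁻¹) * g⁻¹
      = (g * a * g⁻¹) * (g * b * g⁻¹) * (g * a * g⁻¹)⁻¹ * (g * b * g⁻¹)⁻¹ := by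
  group

/-- The shift maps `X[a,b]` into `X[a+1,b+1]`. -/
theorem conj_mem_X {x : ℤ → G} {g : G} {k : ℕ} (T : TData x g k) {a b : ℤ} {y : G}
    (hy : y ∈ X x a b) : g * y * g⁻¹ ∈ X x (a + 1) (b + 1) := by
  have h : X x a b ≤ (X x (a + 1) (b + 1)).comap (MulAut.conj g).toMonoidHom := by
    rw [X_le_iff]
    intro i h1 h2
    rw [Subgroup.mem_comap]
    show g * x i * g⁻¹ ∈ _
    rw [T.shift]
    exact mem_X x (by omega) (by omega)
  exact h hy

/-- An element commuting with the generators of a window commutes with the window. -/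
theorem X_centralized {x : ℤ → G} {a b : ℤ} {y : G}
    (hc : ∀ i, a ≤ i → i ≤ b → y * x i = x i * y) {w : G} (hw : w ∈ X x a b) :
    y * w = w * y := by
  have h : X x a b ≤ Subgroup.centralizer {y} := by
    rw [X_le_iff]
    intro i hi1 hi2
    rw [Subgroup.mem_centralizer_iff]
    intro h hh
    rw [Set.mem_singleton_iff] at hh
    rw [hh]
    exact hc i hi1 hi2
  have h2 := h hw
  rw [Subgroup.mem_centralizer_iff] at h2
  exact h2 y rfl

/-- A window of pairwise commuting generators is commutative. -/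
theorem X_comm {x : ℤ → G} {a b : ℤ}
    (hc : ∀ i j, a ≤ i → i ≤ b → a ≤ j → j ≤ b → x i * x j = x j * x i) {y z : G}
    (hy : y ∈ X x a b) (hz : z ∈ X x a b) : y * z = z * y := by
  have h1 : ∀ j, a ≤ j → j ≤ b → z * x j = x j * z := by
    intro j hj1 hj2
    exact (X_centralized (fun i hi1 hi2 => hc j i hj1 hj2 hi1 hi2) hz).symm
  exact (X_centralized h1 hy).symm

/-- A window of pairwise commuting involutions has exponent two. -/
theorem X_sq {x : ℤ → G} {a b : ℤ} (hinv : ∀ i, x i * x i = 1)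
    (hc : ∀ i j, a ≤ i → i ≤ b → a ≤ j → j ≤ b → x i * x j = x j * x i) {y : G}
    (hy : y ∈ X x a b) : y * y = 1 := by
  have hy' : y ∈ Subgroup.closure (x '' Set.Icc a b) := hy
  induction hy' using Subgroup.closure_induction with
  | mem w hw =>
    obtain ⟨i, -, rfl⟩ := hw
    exact hinv i
  | one => simp
  | mul w z hw hz ihw ihz =>
    have hcomm : w * z = z * w := X_comm hc hw hz
    have e : w * z * (w * z) = w * (z * w) * z := by group
    rw [e, ← hcomm]
    have e2 : w * (w * z) * z = (w * w) * (z * z) := by group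
    rw [e2, ihw hw, ihz hz, one_mul]
  | inv w hw ihw =>
    rw [← mul_inv_rev, ihw hw, inv_one]

/-- The conjugate of an involution by an involution is an involution. -/
theorem sq_conj {a b : G} (ha : a * a = 1) (hb : b * b = 1) :
    (b * a * b) * (b * a * b) = 1 := by
  have e : (b * a * b) * (b * a * b) = b * (a * ((b * b) * a)) * b := by group
  rw [e, hb, one_mul, ha, mul_one, hb]

end Aux

/-- TT-C6. -/
theorem c6 (hcard : CardStmt.{u}) (hc1 : C1Stmt.{u}) (hsplit : SplitStmt.{u})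
    (hcomm : CommStmt.{u}) (hc4 : C4Stmt.{u}) : C6Stmt.{u} := by
  intro G _ _ x g T L
  obtain ⟨hA, hB⟩ := hcomm x g 6 4 T L
  have hinv := T.inv
  have hxinv : ∀ i, (x i)⁻¹ = x i := fun i => inv_eq_of_mul_eq_one_left (hinv i)
  have hcm : ∀ i j : ℤ, i - j < 4 → j - i < 4 → x i * x j = x j * x i := by
    intro i j h1 h2
    apply hA i j
    rw [abs_lt]
    push_cast
    constructor <;> omega
  have hnc : ∀ i : ℤ, x i * x (i + 4) ≠ x (i + 4) * x i := by
    intro i
    have h := hB i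
    simpa using h
  have sh : ∀ i j : ℤ, j = i + 1 → g * x i * g⁻¹ = x j := by
    intro i j h
    rw [h]
    exact T.shift i
  have s01 := sh 0 1 (by norm_num)
  have s12 := sh 1 2 (by norm_num)
  have s23 := sh 2 3 (by norm_num)
  have s34 := sh 3 4 (by norm_num)
  have s45 := sh 4 5 (by norm_num)
  have s56 := sh 5 6 (by norm_num)
  have s67 := sh 6 7 (by norm_num)
  have hgen : X x 0 6 ⊔ X x 1 7 = ⊤ := by
    have h := T.gen
    have e1 : ((6 : ℕ) : ℤ) = 6 := by norm_num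
    have e2 : ((6 : ℕ) : ℤ) + 1 = 7 := by norm_num
    rw [e2, e1] at h
    exact h
  -- the commutator `[x_0, x_4] = x_2`
  have h4 : x 0 * x 4 * (x 0)⁻¹ * (x 4)⁻¹ ∈ X x 2 2 := by
    have h := hc4 x g 6 4 T L (by norm_num)
    have e1 : ((6 : ℕ) : ℤ) - ((4 : ℕ) : ℤ) = 2 := by norm_num
    have e2 : 2 * ((4 : ℕ) : ℤ) - ((6 : ℕ) : ℤ) = 2 := by norm_num
    have e3 : ((4 : ℕ) : ℤ) = 4 := by norm_num
    rw [e1, e2, e3] at h
    exact h
  have hcne : x 0 * x 4 * (x 0)⁻¹ * (x 4)⁻¹ ≠ 1 := by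
    intro h
    apply hnc 0
    have e : x 0 * x 4 = (x 0 * x 4 * (x 0)⁻¹ * (x 4)⁻¹) * (x 4 * x 0) := by group
    rw [h, one_mul] at e
    simpa using e
  have P0 : x 0 * x 4 * (x 0)⁻¹ * (x 4)⁻¹ = x 2 := by
    have hs := (hsplit x g 6 T 2 2 le_rfl (by norm_num) _ h4).1
    have hbot : X x 2 (2 - 1) = ⊥ := X_empty x (by norm_num)
    rw [hbot, Subgroup.mem_bot, Subgroup.mem_bot] at hs
    rcases hs with h | h
    · exact absurd h hcne
    · have h2 := eq_inv_of_mul_eq_one_left h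
      rw [h2, hxinv]
  have P1 : x 1 * x 5 * (x 1)⁻¹ * (x 5)⁻¹ = x 3 := by
    have h : g * (x 0 * x 4 * (x 0)⁻¹ * (x 4)⁻¹) * g⁻¹ = g * x 2 * g⁻¹ := by rw [P0]
    rw [conj_comm_eq, s01, s45, s23] at h
    exact h
  have P2 : x 2 * x 6 * (x 2)⁻¹ * (x 6)⁻¹ = x 4 := by
    have h : g * (x 1 * x 5 * (x 1)⁻¹ * (x 5)⁻¹) * g⁻¹ = g * x 3 * g⁻¹ := by rw [P1]
    rw [conj_comm_eq, s12, s56, s34] at h
    exact h
  have P3 : x 3 * x 7 * (x 3)⁻¹ * (x 7)⁻¹ = x 5 := by
    have h : g * (x 2 * x 6 * (x 2)⁻¹ * (x 6)⁻¹) * g⁻¹ = g * x 4 * g⁻¹ := by rw [P2]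
    rw [conj_comm_eq, s23, s67, s45] at h
    exact h
  -- the commutator `d = [x_0, x_5]`
  have hd14' : x 0 * x 5 * (x 0)⁻¹ * (x 5)⁻¹ ∈ X x 1 4 := by
    have h := hc1 x g 6 T 0 5 (by norm_num) (by norm_num)
    rw [show (0 : ℤ) + 1 = 1 by norm_num, show (5 : ℤ) - 1 = 4 by norm_num] at h
    exact h
  obtain ⟨d, hd⟩ : ∃ d, d = x 0 * x 5 * (x 0)⁻¹ * (x 5)⁻¹ := ⟨_, rfl⟩
  have hd14 : d ∈ X x 1 4 := by
    rw [hd]
    exact hd14'
  have hdd : d * d = 1 :=
    X_sq hinv (fun i j hi1 hi2 hj1 hj2 => hcm i j (by omega) (by omega)) hd14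
  have hdinv : d⁻¹ = d := inv_eq_of_mul_eq_one_left hdd
  have hd' : d = x 0 * x 5 * x 0 * x 5 := by
    rw [hd, hxinv, hxinv]
  -- `x_0` commutes with `d`
  have hx0d : x 0 * d = d * x 0 := by
    have e1 : x 0 * d = x 5 * x 0 * x 5 := by
      rw [hd', ← mul_assoc, ← mul_assoc, ← mul_assoc, hinv 0, one_mul]
    have e2 : (x 0 * d) * (x 0 * d) = 1 := by
      rw [e1]
      exact sq_conj (hinv 0) (hinv 5)
    have e3 := eq_inv_of_mul_eq_one_left e2
    rw [mul_inv_rev, hdinv, hxinv] at e3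
    exact e3
  -- `x_5` commutes with `d`
  have hx5d : x 5 * d = d * x 5 := by
    have e1 : d * x 5 = x 0 * x 5 * x 0 := by
      rw [hd', mul_assoc, hinv 5, mul_one]
    have e2 : (d * x 5) * (d * x 5) = 1 := by
      rw [e1]
      exact sq_conj (hinv 5) (hinv 0)
    have e3 := eq_inv_of_mul_eq_one_left e2
    rw [mul_inv_rev, hdinv, hxinv] at e3
    exact e3.symm
  -- `d ∈ X[1,3]`
  have hd13 : d ∈ X x 1 3 := by
    have hs := (hsplit x g 6 T 1 4 (by norm_num) (by norm_num) d hd14).1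
    rw [show (4 : ℤ) - 1 = 3 by norm_num] at hs
    rcases hs with h | h
    · exact h
    · exfalso
      have hc : x 0 * (d * x 4) = (d * x 4) * x 0 :=
        X_centralized (fun i hi1 hi2 => hcm 0 i (by omega) (by omega)) h
      apply hnc 0
      have e : d * (x 0 * x 4) = d * (x 4 * x 0) := by
        rw [← mul_assoc, ← hx0d, mul_assoc, hc, mul_assoc]
      have e2 := mul_left_cancel e
      simpa using e2
  -- `d ∈ X[2,3]`
  have hd23 : d ∈ X x 2 3 := by
    have hs := (hsplit x g 6 T 1 3 (by norm_num) (by norm_num) d hd13).2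
    rw [show (1 : ℤ) + 1 = 2 by norm_num] at hs
    rcases hs with h | h
    · exact h
    · exfalso
      have hc : x 5 * (x 1 * d) = (x 1 * d) * x 5 :=
        X_centralized (fun i hi1 hi2 => hcm 5 i (by omega) (by omega)) h
      apply hnc 1
      have e : (x 1 * x 5) * d = (x 5 * x 1) * d := by
        rw [mul_assoc, hx5d, ← mul_assoc (x 1) d, ← hc, mul_assoc]
      have e2 := mul_right_cancel e
      have e3 : (1 : ℤ) + 4 = 5 := by norm_num
      rw [e3]
      exact e2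
  -- `[x_2, x_7] ∈ X[4,5]`
  have e16 : x 1 * x 6 * (x 1)⁻¹ * (x 6)⁻¹ ∈ X x 3 4 := by
    have h := conj_mem_X T hd23
    rw [hd, conj_comm_eq, s01, s56] at h
    rw [show (2 : ℤ) + 1 = 3 by norm_num, show (3 : ℤ) + 1 = 4 by norm_num] at h
    exact h
  have e27 : x 2 * x 7 * (x 2)⁻¹ * (x 7)⁻¹ ∈ X x 4 5 := by
    have h := conj_mem_X T e16
    rw [conj_comm_eq, s12, s67] at h
    rw [show (3 : ℤ) + 1 = 4 by norm_num, show (4 : ℤ) + 1 = 5 by norm_num] at h
    exact h
  -- every `x_i`, `0 ≤ i ≤ 7`, normalizes `R = X[2,5]`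
  have hR : ∀ i : ℤ, 0 ≤ i → i ≤ 7 → ∀ j : ℤ, 2 ≤ j → j ≤ 5 →
      x i * x j * (x i)⁻¹ ∈ X x 2 5 := by
    intro i hi0 hi7 j hj2 hj5
    have hjR : x j ∈ X x 2 5 := mem_X x hj2 hj5
    have hi : i = 0 ∨ i = 1 ∨ (2 ≤ i ∧ i ≤ 5) ∨ i = 6 ∨ i = 7 := by omega
    rcases hi with rfl | rfl | hi | rfl | rfl
    · have hj : j = 2 ∨ j = 3 ∨ j = 4 ∨ j = 5 := by omega
      rcases hj with rfl | rfl | rfl | rfl
      · rw [hcm 0 2 (by norm_num) (by norm_num), mul_assoc, mul_inv_cancel, mul_one]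
        exact hjR
      · rw [hcm 0 3 (by norm_num) (by norm_num), mul_assoc, mul_inv_cancel, mul_one]
        exact hjR
      · have e : x 0 * x 4 * (x 0)⁻¹ = (x 0 * x 4 * (x 0)⁻¹ * (x 4)⁻¹) * x 4 := by group
        rw [e, P0]
        exact Subgroup.mul_mem _ (mem_X x (by norm_num) (by norm_num)) hjR
      · have e : x 0 * x 5 * (x 0)⁻¹ = (x 0 * x 5 * (x 0)⁻¹ * (x 5)⁻¹) * x 5 := by group
        rw [e, ← hd]
        exact Subgroup.mul_mem _ (X_mono x (by norm_num) (by norm_num) hd23) hjR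
    · have h := hc1 x g 6 T 1 j (by omega) (by push_cast; omega)
      have e : x 1 * x j * (x 1)⁻¹ = (x 1 * x j * (x 1)⁻¹ * (x j)⁻¹) * x j := by group
      rw [e]
      exact Subgroup.mul_mem _ (X_mono x (by omega) (by omega) h) hjR
    · have hiR : x i ∈ X x 2 5 := mem_X x hi.1 hi.2
      exact Subgroup.mul_mem _ (Subgroup.mul_mem _ hiR hjR) (Subgroup.inv_mem _ hiR)
    · have h := hc1 x g 6 T j 6 (by omega) (by push_cast; omega)
      have e : x 6 * x j * (x 6)⁻¹ = (x j * x 6 * (x j)⁻¹ * (x 6)⁻¹)⁻¹ * x j := by group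
      rw [e]
      exact Subgroup.mul_mem _ (Subgroup.inv_mem _ (X_mono x (by omega) (by omega) h)) hjR
    · have hj : j = 2 ∨ j = 3 ∨ j = 4 ∨ j = 5 := by omega
      rcases hj with rfl | rfl | rfl | rfl
      · have e : x 7 * x 2 * (x 7)⁻¹ = (x 2 * x 7 * (x 2)⁻¹ * (x 7)⁻¹)⁻¹ * x 2 := by group
        rw [e]
        exact Subgroup.mul_mem _
          (Subgroup.inv_mem _ (X_mono x (by norm_num) (by norm_num) e27)) hjR
      · have e : x 7 * x 3 * (x 7)⁻¹ = (x 3 * x 7 * (x 3)⁻¹ * (x 7)⁻¹)⁻¹ * x 3 := by group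
        rw [e, P3]
        exact Subgroup.mul_mem _
          (Subgroup.inv_mem _ (mem_X x (by norm_num) (by norm_num))) hjR
      · rw [hcm 7 4 (by norm_num) (by norm_num), mul_assoc, mul_inv_cancel, mul_one]
        exact hjR
      · rw [hcm 7 5 (by norm_num) (by norm_num), mul_assoc, mul_inv_cancel, mul_one]
        exact hjR
  have hnorm : ∀ i : ℤ, 0 ≤ i → i ≤ 7 →
      x i ∈ Subgroup.normalizer ((X x 2 5 : Subgroup G) : Set G) := by
    intro i hi0 hi7
    have hle : X x 2 5 ≤ (X x 2 5).comap (MulAut.conj (x i)).toMonoidHom := by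
      rw [X_le_iff]
      intro j hj2 hj5
      rw [Subgroup.mem_comap]
      exact hR i hi0 hi7 j hj2 hj5
    rw [Subgroup.mem_normalizer_iff]
    intro h
    constructor
    · intro hh
      exact hle hh
    · intro hh
      have h2 : x i * (x i * h * (x i)⁻¹) * (x i)⁻¹ ∈ X x 2 5 := hle hh
      have e : x i * (x i * h * (x i)⁻¹) * (x i)⁻¹ = h := by
        rw [hxinv i]
        have e1 : x i * (x i * h * x i) * x i = (x i * x i) * h * (x i * x i) := by group
        rw [e1, hinv i, one_mul, mul_one]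
      rw [← e]
      exact h2
  have htop : Subgroup.normalizer ((X x 2 5 : Subgroup G) : Set G) = ⊤ := by
    rw [eq_top_iff, ← hgen]
    apply sup_le
    · rw [X_le_iff]
      intro i h1 h2
      exact hnorm i h1 (by omega)
    · rw [X_le_iff]
      intro i h1 h2
      exact hnorm i (by omega) h2
  have hN : (X x 2 5).Normal := Subgroup.normalizer_eq_top_iff.mp htop
  have hbot := T.core (X x 2 5) hN (X_mono x (by norm_num) (by norm_num))
  have hx2 : x 2 ∈ X x 2 5 := mem_X x (by norm_num) (by norm_num)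
  rw [hbot, Subgroup.mem_bot] at hx2
  apply hnc 2
  rw [hx2, one_mul, mul_one]

example (hcard : CardStmt.{u}) (hc1 : C1Stmt.{u}) (hsplit : SplitStmt.{u})
    (hcomm : CommStmt.{u}) (hc4 : C4Stmt.{u}) : C6Stmt.{u} := c6 hcard hc1 hsplit hcomm hc4

end Cfsg.Agent.Helper55.Tt
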