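import Mathlib

/-! S5746 team project XP (helper9): the orbit-counting core of the abstract pieces XP-DC and
XP-R3.  If `H` has exactly three orbits `{H}`, `O₁`, `O₂` on `G ⧸ H` and neither `1 + |O₁|` nor
`1 + |O₂|` divides the index, then `H` is a maximal subgroup. -/

set_option autoImplicit false

namespace Cfsg.Agent.Helper55.XP

open MulAction

universe u

section
variable {G : Type u} [Group G] [Finite G] (H : Subgroup G)

theorem smul_mk_H (h : ↥H) (x : G) :
    h • (QuotientGroup.mk x : G ⧸ H) = QuotientGroup.mk ((h : G) * x) := rfl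

theorem base_fixed (h : ↥H) :
    h • (QuotientGroup.mk 1 : G ⧸ H) = QuotientGroup.mk 1 := by
  rw [smul_mk_H, mul_one, QuotientGroup.eq, mul_one]
  exact H.inv_mem h.2

theorem orbit_base :
    orbit ↥H (QuotientGroup.mk 1 : G ⧸ H) = {QuotientGroup.mk 1} := by
  ext x
  constructor
  · rintro ⟨h, rfl⟩
    exact base_fixed H h
  · intro hx
    rw [Set.mem_singleton_iff.mp hx]
    exact mem_orbit_self _

/-- the stabilizer in `H` of the coset `xH` is `H ∩ xHx⁻¹` -/
theorem stab_eq (x : G) : stabilizer ↥H (QuotientGroup.mk x : G ⧸ H) =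
    (H ⊓ H.map (MulAut.conj x).toMonoidHom).subgroupOf H := by
  ext ⟨h, hh⟩
  rw [mem_stabilizer_iff, Subgroup.mem_subgroupOf, smul_mk_H, QuotientGroup.eq]
  show (h * x)⁻¹ * x ∈ H ↔ h ∈ H ⊓ H.map (MulAut.conj x).toMonoidHom
  rw [Subgroup.mem_inf, Subgroup.mem_map]
  constructor
  · intro h1
    refine ⟨hh, x⁻¹ * h * x, ?_, ?_⟩
    · have h2 := H.inv_mem h1
      have e : ((h * x)⁻¹ * x)⁻¹ = x⁻¹ * h * x := by group
      rw [e] at h2
      exact h2
    · show x * (x⁻¹ * h * x) * x⁻¹ = h
      group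
  · rintro ⟨-, y, hy, hyx⟩
    have e : (h * x)⁻¹ * x = y⁻¹ := by
      rw [← hyx]
      show (x * y * x⁻¹ * x)⁻¹ * x = y⁻¹
      group
    rw [e]
    exact H.inv_mem hy

theorem core (c₁ c₂ : G ⧸ H) (n₁ n₂ : ℕ) (h1 : (orbit ↥H c₁).ncard = n₁)
    (h2 : (orbit ↥H c₂).ncard = n₂) (hidx : H.index = 1 + n₁ + n₂) (hn1 : 1 < n₁)
    (hn2 : 1 < n₂) (hne : n₁ ≠ n₂) (hd1 : ¬ (1 + n₁) ∣ (1 + n₁ + n₂))
    (hd2 : ¬ (1 + n₂) ∣ (1 + n₁ + n₂)) :
    IsCoatom H ∧
      ∀ x : G ⧸ H, x = QuotientGroup.mk 1 ∨ x ∈ orbit ↥H c₁ ∨ x ∈ orbit ↥H c₂ := by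
  obtain ⟨o, ho⟩ : ∃ o : G ⧸ H, o = QuotientGroup.mk 1 := ⟨_, rfl⟩
  have horb : orbit ↥H o = {o} := by
    rw [ho]
    exact orbit_base H
  have ho1 : o ∉ orbit ↥H c₁ := by
    intro hmem
    have e : orbit ↥H o = orbit ↥H c₁ := orbit_eq_iff.mpr hmem
    rw [← e, horb, Set.ncard_singleton] at h1
    omega
  have ho2 : o ∉ orbit ↥H c₂ := by
    intro hmem
    have e : orbit ↥H o = orbit ↥H c₂ := orbit_eq_iff.mpr hmem
    rw [← e, horb, Set.ncard_singleton] at h2
    omega
  have hdisj : Disjoint (orbit ↥H c₁) (orbit ↥H c₂) := by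
    rw [Set.disjoint_left]
    intro x hx1 hx2
    have e1 : orbit ↥H x = orbit ↥H c₁ := orbit_eq_iff.mpr hx1
    have e2 : orbit ↥H x = orbit ↥H c₂ := orbit_eq_iff.mpr hx2
    rw [← e1, e2, h2] at h1
    exact hne h1.symm
  have hcardQ : Nat.card (G ⧸ H) = 1 + n₁ + n₂ := hidx
  have hall : ∀ x : G ⧸ H, x = o ∨ x ∈ orbit ↥H c₁ ∨ x ∈ orbit ↥H c₂ := by
    have hS : ({o} ∪ orbit ↥H c₁ ∪ orbit ↥H c₂ : Set (G ⧸ H)) = Set.univ := by
      rw [Set.eq_univ_iff_ncard, hcardQ]
      have d1 : Disjoint ({o} : Set (G ⧸ H)) (orbit ↥H c₁) := Set.disjoint_singleton_left.mpr ho1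
      have d2 : Disjoint ({o} ∪ orbit ↥H c₁ : Set (G ⧸ H)) (orbit ↥H c₂) := by
        rw [Set.disjoint_union_left]
        exact ⟨Set.disjoint_singleton_left.mpr ho2, hdisj⟩
      rw [Set.ncard_union_eq d2, Set.ncard_union_eq d1, Set.ncard_singleton, h1, h2]
    intro x
    have hx : x ∈ ({o} ∪ orbit ↥H c₁ ∪ orbit ↥H c₂ : Set (G ⧸ H)) := by
      rw [hS]
      trivial
    rcases hx with (hx | hx) | hx
    · left
      exact hx
    · right; left
      exact hx
    · right; right
      exact hx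
  refine ⟨⟨?_, ?_⟩, ?_⟩
  · intro htop
    rw [← Subgroup.index_eq_one] at htop
    omega
  · intro K hK
    have hle : H ≤ K := hK.le
    have hstab : stabilizer ↥K o = H.subgroupOf K := by
      ext ⟨k, hk⟩
      rw [mem_stabilizer_iff, Subgroup.mem_subgroupOf, ho]
      show (QuotientGroup.mk (k * 1) : G ⧸ H) = QuotientGroup.mk 1 ↔ k ∈ H
      rw [mul_one, QuotientGroup.eq, mul_one, inv_mem_iff]
    have hcardstab : Nat.card (stabilizer ↥K o) = Nat.card H := by
      rw [hstab]
      exact Nat.card_congr (Subgroup.subgroupOfEquivOfLe hle).toEquiv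
    have hΔ : (orbit ↥K o).ncard * Nat.card H = Nat.card K := by
      rw [← hcardstab, ← index_stabilizer]
      exact Subgroup.index_mul_card _
    have hG : (1 + n₁ + n₂) * Nat.card H = Nat.card G := by
      rw [← hidx]
      exact H.index_mul_card
    have hdvd : (orbit ↥K o).ncard ∣ 1 + n₁ + n₂ := by
      have h3 : Nat.card K ∣ Nat.card G := Subgroup.card_subgroup_dvd_card K
      rw [← hΔ, ← hG] at h3
      exact Nat.dvd_of_mul_dvd_mul_right Nat.card_pos h3
    have hinv : ∀ h : ↥H, ∀ x ∈ orbit ↥K o, h • x ∈ orbit ↥K o := by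
      rintro h x ⟨k, rfl⟩
      refine ⟨⟨h, hle h.2⟩ * k, ?_⟩
      show ((⟨(h : G), hle h.2⟩ : ↥K) * k) • o = h • (k • o)
      rw [mul_smul]
      rfl
    have hsub : ∀ c : G ⧸ H, c ∈ orbit ↥K o → orbit ↥H c ⊆ orbit ↥K o := by
      rintro c hc x ⟨h, rfl⟩
      exact hinv h c hc
    have hdj : ∀ c : G ⧸ H, c ∉ orbit ↥K o → Disjoint (orbit ↥H c) (orbit ↥K o) := by
      intro c hc
      rw [Set.disjoint_left]
      intro x hx hxΔ
      apply hc
      have hcx : c ∈ orbit ↥H x := by
        rw [orbit_eq_iff.mpr hx]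
        exact mem_orbit_self c
      exact hsub x hxΔ hcx
    have hoΔ : o ∈ orbit ↥K o := mem_orbit_self o
    by_cases hc1 : c₁ ∈ orbit ↥K o <;> by_cases hc2 : c₂ ∈ orbit ↥K o
    · have hΔu : orbit ↥K o = Set.univ := by
        ext x
        simp only [Set.mem_univ, iff_true]
        rcases hall x with hx | hx | hx
        · rw [hx]
          exact hoΔ
        · exact hsub c₁ hc1 hx
        · exact hsub c₂ hc2 hx
      have hn : (orbit ↥K o).ncard = 1 + n₁ + n₂ := by
        rw [hΔu, Set.ncard_univ]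
        exact hcardQ
      rw [hn, hG] at hΔ
      exact Subgroup.eq_top_of_card_eq K hΔ.symm
    · exfalso
      have hΔe : orbit ↥K o = {o} ∪ orbit ↥H c₁ := by
        ext x
        constructor
        · intro hx
          rcases hall x with hx0 | hx1 | hx2
          · left
            exact hx0
          · right
            exact hx1
          · exact absurd hx (Set.disjoint_left.mp (hdj c₂ hc2) hx2)
        · rintro (hx | hx)
          · rw [Set.mem_singleton_iff.mp hx]
            exact hoΔ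
          · exact hsub c₁ hc1 hx
      have hn : (orbit ↥K o).ncard = 1 + n₁ := by
        rw [hΔe, Set.ncard_union_eq (Set.disjoint_singleton_left.mpr ho1), Set.ncard_singleton,
          h1]
      rw [hn] at hdvd
      exact hd1 hdvd
    · exfalso
      have hΔe : orbit ↥K o = {o} ∪ orbit ↥H c₂ := by
        ext x
        constructor
        · intro hx
          rcases hall x with hx0 | hx1 | hx2
          · left
            exact hx0
          · exact absurd hx (Set.disjoint_left.mp (hdj c₁ hc1) hx1)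
          · right
            exact hx2
        · rintro (hx | hx)
          · rw [Set.mem_singleton_iff.mp hx]
            exact hoΔ
          · exact hsub c₂ hc2 hx
      have hn : (orbit ↥K o).ncard = 1 + n₂ := by
        rw [hΔe, Set.ncard_union_eq (Set.disjoint_singleton_left.mpr ho2), Set.ncard_singleton,
          h2]
      rw [hn] at hdvd
      exact hd2 hdvd
    · exfalso
      have hΔe : orbit ↥K o = {o} := by
        ext x
        constructor
        · intro hx
          rcases hall x with hx0 | hx1 | hx2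
          · exact hx0
          · exact absurd hx (Set.disjoint_left.mp (hdj c₁ hc1) hx1)
          · exact absurd hx (Set.disjoint_left.mp (hdj c₂ hc2) hx2)
        · intro hx
          rw [Set.mem_singleton_iff.mp hx]
          exact hoΔ
      have hn : (orbit ↥K o).ncard = 1 := by
        rw [hΔe, Set.ncard_singleton]
      rw [hn, one_mul] at hΔ
      exact hK.ne (Subgroup.eq_of_le_of_card_ge hle hΔ.ge)
  · intro x
    rw [← ho]
    exact hall x

end

end Cfsg.Agent.Helper55.XP
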