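import Mathlib
import Cfsg.Agent.H9.XPAbs
import Cfsg.Agent.Helper55.XPCore

/-! S5746 team project XP (helper9): piece XP-DC. -/

set_option autoImplicit false

namespace Cfsg.Agent.Helper55.XP

open MulAction Cfsg.Agent.H9.XP

universe u

/-- a proper subgroup of `H` containing a coatom equals it -/
theorem eq_of_coatom_le {G : Type u} [Group G] (H U : Subgroup G) (x : G) (hUx : U ≤ H.map (MulAut.conj x).toMonoidHom)
    (hUco : IsCoatom (U.subgroupOf H)) (hHx : ¬ H ≤ H.map (MulAut.conj x).toMonoidHom) :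
    (H ⊓ H.map (MulAut.conj x).toMonoidHom).subgroupOf H = U.subgroupOf H := by
  have hle : U.subgroupOf H ≤ (H ⊓ H.map (MulAut.conj x).toMonoidHom).subgroupOf H := by
    intro y hy
    rw [Subgroup.mem_subgroupOf] at hy ⊢
    exact ⟨y.2, hUx hy⟩
  have hne : (H ⊓ H.map (MulAut.conj x).toMonoidHom).subgroupOf H ≠ ⊤ := by
    intro htop
    apply hHx
    intro y hy
    have h1 : (⟨y, hy⟩ : ↥H) ∈ (H ⊓ H.map (MulAut.conj x).toMonoidHom).subgroupOf H := by
      rw [htop]
      trivial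
    rw [Subgroup.mem_subgroupOf] at h1
    exact h1.2
  by_contra hcon
  exact hne (hUco.2 _ (lt_of_le_of_ne hle (fun e => hcon e.symm)))

/-- [XP-DC] -/
theorem dc : StDC.{u} := by
  intro G _ _ H U C a b hUH hUa hUco hUidx hCH hCb hCco hCidx hHa hHb hcard
  have hDa := eq_of_coatom_le H U a hUa hUco hHa
  have hDb := eq_of_coatom_le H C b hCb hCco hHb
  have h1 : (orbit ↥H (QuotientGroup.mk a : G ⧸ H)).ncard = 100 := by
    rw [← index_stabilizer, stab_eq, hDa, hUidx]
  have h2 : (orbit ↥H (QuotientGroup.mk b : G ⧸ H)).ncard = 315 := by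
    rw [← index_stabilizer, stab_eq, hDb, hCidx]
  have hidx : H.index = 1 + 100 + 315 := by
    have h3 := H.index_mul_card
    rw [hcard] at h3
    exact Nat.eq_of_mul_eq_mul_right Nat.card_pos h3
  obtain ⟨hco, hall⟩ := core H (QuotientGroup.mk a) (QuotientGroup.mk b) 100 315 h1 h2 hidx
    (by norm_num) (by norm_num) (by norm_num) (by norm_num) (by norm_num)
  refine ⟨hco, ?_⟩
  intro x hx
  rcases hall (QuotientGroup.mk x) with h0 | h0 | h0
  · exfalso
    rw [QuotientGroup.eq, mul_one] at h0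
    exact hx ((H.inv_mem_iff).mp h0)
  · obtain ⟨h, hh⟩ := h0
    rw [← stab_eq, ← hh]
    show IsCoatom (stabilizer ↥H (h • (QuotientGroup.mk a : G ⧸ H)))
    rw [stabilizer_smul_eq_stabilizer_map_conj, stab_eq, hDa]
    exact ((MulEquiv.mapSubgroup (MulAut.conj h)).isCoatom_iff _).mpr hUco
  · obtain ⟨h, hh⟩ := h0
    rw [← stab_eq, ← hh]
    show IsCoatom (stabilizer ↥H (h • (QuotientGroup.mk b : G ⧸ H)))
    rw [stabilizer_smul_eq_stabilizer_map_conj, stab_eq, hDb]
    exact ((MulEquiv.mapSubgroup (MulAut.conj h)).isCoatom_iff _).mpr hCco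

end Cfsg.Agent.Helper55.XP

universe u in
example : Cfsg.Agent.H9.XP.StDC.{u} := Cfsg.Agent.Helper55.XP.dc.{u}
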