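import Mathlib
import Cfsg.Agent.H9.XPAbs
import Cfsg.Agent.Helper55.XPCore

/-! S5746 team project XP (helper9): piece XP-R3. -/

set_option autoImplicit false

namespace Cfsg.Agent.Helper55.XP

open MulAction Cfsg.Agent.H9.XP

/-- [XP-R3] a subgroup of index 100 with suborbits 36 and 63 is maximal -/
theorem r3 : StR3 := by
  intro G _ _ H hidx hc
  obtain ⟨c₁, c₂, h1, h2⟩ := hc
  exact (core H c₁ c₂ 36 63 h1 h2 hidx (by norm_num) (by norm_num) (by norm_num)
    (by norm_num) (by norm_num)).1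

end Cfsg.Agent.Helper55.XP

example : Cfsg.Agent.H9.XP.StR3 := Cfsg.Agent.Helper55.XP.r3
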